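import Cfsg.Agent.S0824
import Cfsg.Prelude.Def_Classical
import Mathlib.GroupTheory.SpecificGroups.Alternating
import Mathlib.GroupTheory.QuotientGroup.Basic

/-!
# Facts about the alternating group of degree five
-/

set_option autoImplicit false
set_option maxRecDepth 100000
set_option maxHeartbeats 4000000
set_option synthInstance.maxHeartbeats 1000000
set_option synthInstance.maxSize 4096

namespace Cfsg.Lib.J2Type

/-- The alternating group of degree five. -/
abbrev A5 := alternatingGroup (Fin 5)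

theorem a5_card : Nat.card A5 = 60 := by rw [Nat.card_eq_fintype_card]; decide +kernel

theorem a5_orders : ∀ g : A5, g ^ 2 = 1 ∨ g ^ 3 = 1 ∨ g ^ 5 = 1 := by decide +kernel

/-- Each involution inverts an element of order five. -/
theorem a5_inverts : ∀ x : A5, x * x = 1 → x ≠ 1 → ∃ f, f ^ 5 = 1 ∧ f ≠ 1 ∧ x * f * x⁻¹ = f⁻¹ := by decide +kernel

theorem a5_invol_conj : ∀ x y : A5, x * x = 1 → x ≠ 1 → y * y = 1 → y ≠ 1 → ∃ c, c * x * c⁻¹ = y := by decide +kernel

theorem a5_invol_centralizer : ∀ x : A5, x * x = 1 → x ≠ 1 →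
    (Finset.univ.filter fun y : A5 => y * x = x * y).card = 4 := by decide +kernel

/-- A four group around an involution with an element of order three cycling it. -/
theorem a5_cycle : ∀ x : A5, x * x = 1 → x ≠ 1 → ∃ d y, d ^ 3 = 1 ∧ d ≠ 1 ∧ y * y = 1 ∧ y ≠ 1 ∧ y ≠ x ∧
    y * x = x * y ∧ d * x * d⁻¹ = y ∧ d * y * d⁻¹ = x * y ∧ d * (x * y) * d⁻¹ = x := by decide +kernel

theorem a5_commute_involution : ∀ x y : A5, x * x = 1 → x ≠ 1 → y * x = x * y → y * y = 1 := by decide +kernel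

theorem a5_three_centralizer : ∀ d g : A5, d ^ 3 = 1 → d ≠ 1 → g * d = d * g → g ^ 3 = 1 := by decide +kernel

theorem a5_three_centralizer_card : ∀ d : A5, d ^ 3 = 1 → d ≠ 1 →
    (Finset.univ.filter fun y : A5 => y * d = d * y).card = 3 := by decide +kernel

theorem a5_five_centralizer_card : ∀ d : A5, d ^ 5 = 1 → d ≠ 1 →
    (Finset.univ.filter fun y : A5 => y * d = d * y).card = 5 := by decide +kernel

/-- An element of order five is conjugate to no power of itself but itself and its inverse. -/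
theorem a5_five_automizer : ∀ d c : A5, d ^ 5 = 1 → d ≠ 1 → c * d * c⁻¹ = d ∨ c * d * c⁻¹ = d⁻¹ ∨
    c * d * c⁻¹ * d ≠ d * (c * d * c⁻¹) := by decide +kernel

theorem a5_three_inverted : ∀ d : A5, d ^ 3 = 1 → d ≠ 1 → ∃ x, x * x = 1 ∧ x ≠ 1 ∧ x * d * x⁻¹ = d⁻¹ := by decide +kernel

theorem a5_five_inverted : ∀ d : A5, d ^ 5 = 1 → d ≠ 1 → ∃ x, x * x = 1 ∧ x ≠ 1 ∧ x * d * x⁻¹ = d⁻¹ := by decide +kernel

theorem a5_three_conj : ∀ c d : A5, c ^ 3 = 1 → c ≠ 1 → d ^ 3 = 1 → d ≠ 1 → ∃ g, g * c * g⁻¹ = d := by decide +kernel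

theorem a5_five_sq : ∀ c d : A5, c ^ 5 = 1 → c ≠ 1 → d ^ 5 = 1 → d ≠ 1 →
    ∃ g, g * c * g⁻¹ = d ∨ g * c * g⁻¹ = d ^ 2 := by decide +kernel

/-- Involution, element of order three, cycling. -/
def rZero : A5 := ⟨Equiv.swap 0 1 * Equiv.swap 2 3, Equiv.Perm.mem_alternatingGroup.2 (by decide)⟩

/-- Element of order three normalizing the four group of `rZero`. -/
def nZero : A5 := ⟨Equiv.swap 0 1 * Equiv.swap 1 2, Equiv.Perm.mem_alternatingGroup.2 (by decide)⟩

theorem a5_frame : ∀ r n : A5, r * r = 1 → r ≠ 1 → n ^ 3 = 1 → n * r * n⁻¹ ≠ r →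
    n * r * n⁻¹ * r = r * (n * r * n⁻¹) →
    ∃ c, c * r * c⁻¹ = rZero ∧ (c * n * c⁻¹ = nZero ∨ c * n⁻¹ * c⁻¹ = nZero) := by decide +kernel

/-- The twelve elements of the point stabilizer. -/
def frameList : List A5 := [1, rZero, nZero * rZero * nZero⁻¹, rZero * (nZero * rZero * nZero⁻¹)] ++
  [nZero, rZero * nZero, nZero * rZero * nZero⁻¹ * nZero, rZero * (nZero * rZero * nZero⁻¹) * nZero] ++
  [nZero⁻¹, rZero * nZero⁻¹, nZero * rZero * nZero⁻¹ * nZero⁻¹, rZero * (nZero * rZero * nZero⁻¹) * nZero⁻¹]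

theorem a5_rigid : ∀ x y : A5, x * x = 1 → x ≠ 1 → y * y = 1 → y ≠ 1 →
    (∀ h ∈ frameList, ((h * x) ^ 2 = 1 ↔ (h * y) ^ 2 = 1) ∧ ((h * x) ^ 3 = 1 ↔ (h * y) ^ 3 = 1)) → x = y := by
  decide +kernel

theorem a5_gen : ∀ g : A5, ∃ x y : A5, x * x = 1 ∧ y * y = 1 ∧ g = x * y := by decide +kernel

/-- An automorphism fixing a four group pointwise and an element of order three normalizing it is trivial. -/
theorem a5_aut_trivial (σ : A5 ≃* A5) {r n : A5} (hr : r * r = 1) (hr1 : r ≠ 1) (hn : n ^ 3 = 1)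
    (hne : n * r * n⁻¹ ≠ r) (hc : n * r * n⁻¹ * r = r * (n * r * n⁻¹)) (hσr : σ r = r) (hσn : σ n = n) :
    ∀ g, σ g = g := by
  obtain ⟨c, hcr, hcn⟩ := a5_frame r n hr hr1 hn hne hc
  let τ : A5 ≃* A5 := ((MulAut.conj c).symm.trans σ).trans (MulAut.conj c)
  have hτ : ∀ g, τ g = c * σ (c⁻¹ * g * c) * c⁻¹ := fun g => by simp [τ]
  have e1 : c⁻¹ * rZero * c = r := by rw [← hcr]; group
  have hr0 : τ rZero = rZero := by rw [hτ, e1, hσr, hcr]
  have hn0 : τ nZero = nZero := by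
    rcases hcn with h | h
    · have e : c⁻¹ * nZero * c = n := by rw [← h]; group
      rw [hτ, e, hσn, h]
    · have e : c⁻¹ * nZero * c = n⁻¹ := by rw [← h]; group
      rw [hτ, e, map_inv, hσn, h]
  have hfix : ∀ h ∈ frameList, τ h = h := by
    intro h hh
    simp only [frameList, List.cons_append, List.nil_append, List.mem_cons, List.not_mem_nil, or_false] at hh
    rcases hh with rfl | rfl | rfl | rfl | rfl | rfl | rfl | rfl | rfl | rfl | rfl | rfl <;>
      simp only [map_one, map_mul, map_inv, hr0, hn0]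
  have hinv : ∀ x : A5, x * x = 1 → τ x = x := by
    intro x hx
    by_cases hx1 : x = 1
    · rw [hx1, map_one]
    refine (a5_rigid x (τ x) hx hx1 (by rw [← map_mul, hx, map_one]) (fun e => hx1 (τ.map_eq_one_iff.1 e))
      fun h hh => ⟨?_, ?_⟩).symm
    all_goals
      constructor
      · intro e
        rw [← hfix h hh, ← map_mul, ← map_pow, e, map_one]
      · intro e
        apply τ.injective
        rw [map_pow, map_mul, hfix h hh, e, map_one]
  intro g
  obtain ⟨x, y, hx, hy, hxy⟩ := a5_gen (c * g * c⁻¹)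
  have h : τ (c * g * c⁻¹) = c * g * c⁻¹ := by rw [hxy, map_mul, hinv x hx, hinv y hy]
  rw [hτ, show c⁻¹ * (c * g * c⁻¹) * c = g by group] at h
  simpa using mul_left_cancel (mul_right_cancel h)

/-- The commutator subgroup of the isometry group of the minus form in dimension four is alternating. -/
theorem omega_equiv :
    Nonempty (↥(Cfsg.Omega (ZMod 2) (Cfsg.quadFormMinus 1 (ZMod 2) 1 1)) ≃* A5) := by
  obtain ⟨e⟩ := Cfsg.Agent.S0824.result (F := ZMod 2) (ZMod.card 2)
  have h : (Cfsg.Omega (ZMod 2) (Cfsg.quadFormMinus 1 (ZMod 2) 1 1)).map (e : _ →* Equiv.Perm (Fin 5)) =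
      alternatingGroup (Fin 5) := by
    unfold Cfsg.Omega
    rw [commutator_def, Subgroup.map_commutator, Subgroup.map_top_of_surjective _ e.surjective, ← commutator_def,
      alternatingGroup.commutator_perm_eq (by simp)]
  exact ⟨(e.subgroupMap _).trans (MulEquiv.subgroupCongr h)⟩

end Cfsg.Lib.J2Type
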