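import Cfsg.Agent.Lib.J2Type.Embed

/-!
# The relations between the generators

The five conjugates of `y` in the extraspecial subgroup, their product, and the action of the element of
order three of `L` which permutes `z`, `y` and their product.
-/

set_option autoImplicit false
set_option linter.unusedSimpArgs false
set_option linter.unusedVariables false
set_option linter.unusedSectionVars false
set_option linter.style.haveILetI false

namespace Cfsg.Lib.J2Type

open Cfsg Subgroup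
open Cfsg.Lib.Extra (Ctx nci)

theorem move_pair : ∀ i j : Fin 5, i ≠ j → ∃ a : A5, last (a * sel i) = 4 ∧ last (a * sel j) = 3 := by
  decide +kernel
theorem move_three : ∀ k : Fin 5, k ≠ 4 → ∃ a : A5, last a = 4 ∧ last (a * sel 3) = k := by decide +kernel
theorem perm_rZero : last (rZero * sel 0) = 1 ∧ last (rZero * sel 1) = 0 ∧ last (rZero * sel 2) = 3 ∧
    last (rZero * sel 3) = 2 := by decide +kernel
theorem perm_eZero : last (eZero * sel 0) = 1 ∧ last (eZero * sel 1) = 0 ∧ last (eZero * sel 2) = 2 ∧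
    last (eZero * sel 3) = 4 := by decide +kernel

/-- The odd permutation `(0 2 1 3)`. -/
def wPerm : Equiv.Perm (Fin 5) := Equiv.swap 0 2 * Equiv.swap 2 1 * Equiv.swap 1 3

/-- The outer automorphism fixing `rZero`. -/
def omA : A5 ≃* A5 := MulAut.conjNormal wPerm

theorem omA_r : omA rZero = rZero := Subtype.ext (by
  show ((omA rZero : A5) : Equiv.Perm (Fin 5)) = _
  rw [omA, MulAut.conjNormal_apply]; decide +kernel)
theorem omA_b : omA bZero = rZero * bZero := Subtype.ext (by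
  show ((omA bZero : A5) : Equiv.Perm (Fin 5)) = _
  rw [omA, MulAut.conjNormal_apply]; decide +kernel)
theorem omA_u : omA uZero = rZero * hZero * hZero ∨ omA uZero = rZero * hZero * hZero * hZero := by
  rw [Subtype.ext_iff, Subtype.ext_iff, omA, MulAut.conjNormal_apply]; decide +kernel

variable {G : Type*} [Group G]

/-- The relation between the element of order three of `L` and the extraspecial subgroup. -/
def LoopRel (θ ψ : A5 →* G) : Prop :=
  ψ xZero * (yv θ ψ 0 * yv θ ψ 1) * (ψ xZero)⁻¹ = ψ bZero * θ vOne * (yv θ ψ 2 * yv θ ψ 0)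

variable {θ ψ : A5 →* G}

theorem wval_append (g : ℕ → G) (u w : List ℕ) : Enum.wval g (u ++ w) = Enum.wval g u * Enum.wval g w := by
  simp [Enum.wval]

/-- Word for the product of two of the five conjugates. -/
def rWord : List ℕ := [6, 4, 8, 2, 8, 4, 7] ++ [6, 6, 4, 8, 2, 8, 4, 7, 7]
/-- Word for the expected image. -/
def candWord : List ℕ := [2, 6, 4, 7] ++ ([4, 8, 2, 8, 4] ++ [6, 4, 8, 2, 8, 4, 7])

theorem wval_rWord (hF : Frame θ ψ) : Enum.wval (gens θ ψ) rWord = yv θ ψ 0 * yv θ ψ 1 := by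
  have he : (θ eZero)⁻¹ = θ eZero := by rw [← map_inv, show eZero⁻¹ = eZero by decide +kernel]
  have hr : (θ rZero)⁻¹ = θ rZero := by rw [← map_inv, show rZero⁻¹ = rZero by decide +kernel]
  simp [Enum.wval, Enum.val, Enum.oneL, rWord, gens, lGen, aGen, yv, sel, he, hr, mul_assoc]

theorem wval_candWord (hF : Frame θ ψ) :
    Enum.wval (gens θ ψ) candWord = ψ bZero * θ vOne * (yv θ ψ 2 * yv θ ψ 0) := by
  have he : (θ eZero)⁻¹ = θ eZero := by rw [← map_inv, show eZero⁻¹ = eZero by decide +kernel]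
  have hr : (θ rZero)⁻¹ = θ rZero := by rw [← map_inv, show rZero⁻¹ = rZero by decide +kernel]
  simp [Enum.wval, Enum.val, Enum.oneL, candWord, gens, lGen, aGen, yv, sel, vOne, he, hr, mul_assoc]

/-- States of nontrivial elements. -/
def badSt (s : St) : Bool :=
  decide (s.2.2 ≠ 1) ||
    (decide (s.2.1 = (false, false, false, false, true)) || decide (s.2.1 = (true, true, true, true, false))) ||
    (s.1 && (decide (s.2.1 = (false, false, false, false, false)) || decide (s.2.1 = (true, true, true, true, true))))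

/-- Words for the possible differences. -/
def diffW : List (List ℕ × List ℕ) :=
  [([], []), ([], [0]), ([], [0, 2]), ([], [2]), ([4], []), ([4], [0]), ([4], [0, 2]), ([4], [2]),
    ([6, 4, 7], []), ([6, 4, 7], [0]), ([6, 4, 7], [0, 2]), ([6, 4, 7], [2]),
    ([4, 6, 4, 7], []), ([4, 6, 4, 7], [0]), ([4, 6, 4, 7], [0, 2]), ([4, 6, 4, 7], [2])]

theorem diff_table : ∀ p ∈ diffW, p = ([], []) ∨
    badSt (evalSt ((p.1 ++ p.2 ++ candWord) ++ (p.1 ++ p.2 ++ candWord) ++ [2])) = true ∨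
    badSt (evalSt ((p.1 ++ p.2 ++ candWord) ++ ([6] ++ (p.1 ++ p.2 ++ candWord) ++ [7]) ++
      ([6, 6] ++ (p.1 ++ p.2 ++ candWord) ++ [7, 7]))) = true := by decide +kernel

theorem okCz_table : okCz (rWord ++ [0] ++ rWord.reverse.map (fun l => if l / 2 = 3 then 13 - l else l) ++ [0]) = true ∧
    okCz (rWord ++ rWord ++ [0]) = true ∧ okCz (rWord ++ ([6] ++ rWord ++ [7]) ++ ([6, 6] ++ rWord ++ [7, 7])) = true ∧
    okCz ([4] ++ rWord ++ [4] ++ rWord.reverse.map (fun l => if l / 2 = 3 then 13 - l else l) ++ [0]) = true ∧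
    okCz (rWord ++ [0, 2] ++ rWord.reverse.map (fun l => if l / 2 = 3 then 13 - l else l) ++ [0, 2]) = true ∧
    okCz (candWord ++ [0] ++ candWord.reverse.map (fun l => if l / 2 = 3 then 13 - l else l) ++ [0]) = true ∧
    okCz (candWord ++ [2] ++ candWord.reverse.map (fun l => if l / 2 = 3 then 13 - l else l) ++ [2]) = true ∧
    okCz ([4] ++ candWord ++ [4] ++ candWord.reverse.map (fun l => if l / 2 = 3 then 13 - l else l) ++ [2]) = true := by
  decide +kernel

theorem Frame.wval_inv (hF : Frame θ ψ) : ∀ w : List ℕ, (∀ l ∈ w, l < 10) →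
    Enum.wval (gens θ ψ) (w.reverse.map fun l => if l / 2 = 3 then 13 - l else l) =
      (Enum.wval (gens θ ψ) w)⁻¹ := by
  intro w
  induction w with
  | nil => intro _; simp [Enum.wval]
  | cons l w ih =>
    intro h
    rw [List.reverse_cons, List.map_append, wval_append, ih fun x hx => h x (List.mem_cons_of_mem _ hx),
      show l :: w = [l] ++ w from rfl, wval_append (gens θ ψ) [l], mul_inv_rev]
    congr 1
    have hl := h l (List.mem_cons_self ..)
    have e : lLet (if l / 2 = 3 then 13 - l else l) = (lLet l)⁻¹ ∧ aLet (if l / 2 = 3 then 13 - l else l) = (aLet l)⁻¹ := by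
      interval_cases l <;> decide +kernel
    have hone : lLet l = 1 ∨ aLet l = 1 := by interval_cases l <;> decide +kernel
    show Enum.wval (gens θ ψ) [if l / 2 = 3 then 13 - l else l] = _
    simp only [Enum.wval, List.map_cons, List.map_nil, List.prod_cons, List.prod_nil, mul_one]
    rw [hF.val_gens (l := if l / 2 = 3 then 13 - l else l) (by split <;> omega), hF.val_gens (l := l) (by omega),
      e.1, e.2]
    rcases hone with h1 | h1 <;> simp [h1]

variable [Finite G] {z t : G} {Q : Subgroup G}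
variable (hS : Setup z Q) (ht : Outer z Q t) (hnc : ¬ IsConj z t) {V L : Subgroup G} (hB : Big z t V L)
variable (hE : Embed z t V L θ ψ)
include hS ht hnc hB hE

theorem Embed.y_mem : ψ bZero ∈ nci Q z := by
  have hb : bZero * bZero = (1 : A5) ∧ bZero ≠ 1 ∧ bZero ≠ rZero ∧ bZero * rZero = rZero * bZero := by decide +kernel
  have h1 : ψ bZero ≠ 1 := fun h => hb.2.1 (hE.psi_inj (h.trans (map_one ψ).symm))
  have h2 : ψ bZero * ψ bZero = 1 := by rw [← map_mul, hb.1, map_one]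
  have hz : Commute (ψ bZero) z := by
    rw [← hE.psi_r]; show _ * _ = _ * _; rw [← map_mul, ← map_mul, hb.2.2.2]
  have hL : ψ bZero ∈ L := hE.psi_range ▸ ⟨bZero, rfl⟩
  exact ⟨(hS.mem_Q_iff ht hnc (order_two h2 h1) hz).1 (hB.conj_L _ hL (order_two h2 h1)), h2, h1,
    fun h => hb.2.2.1 (hE.psi_inj (h.trans hE.psi_r.symm))⟩

theorem Embed.conj_y (a : A5) : θ a * ψ bZero * (θ a)⁻¹ = yv θ ψ (last a) := by
  have h := hE.comm_L _ (sel_last a) bZero
  rw [map_mul, map_inv] at h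
  unfold yv
  calc θ a * ψ bZero * (θ a)⁻¹
      = θ (sel (last a)) * ((θ (sel (last a)))⁻¹ * θ a * ψ bZero) * (θ a)⁻¹ := by group
    _ = θ (sel (last a)) * (ψ bZero * ((θ (sel (last a)))⁻¹ * θ a)) * (θ a)⁻¹ := by rw [h.eq]
    _ = θ (sel (last a)) * ψ bZero * (θ (sel (last a)))⁻¹ := by group

theorem Embed.conj_yv (a : A5) (i : Fin 5) : θ a * yv θ ψ i * (θ a)⁻¹ = yv θ ψ (last (a * sel i)) := by
  rw [← hE.conj_y hS ht hnc hB (a * sel i), map_mul]; unfold yv; group

theorem Embed.yv_mem (i : Fin 5) : yv θ ψ i ∈ nci Q z := by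
  obtain ⟨hQ, h2, h1, hne⟩ := hE.y_mem hS ht hnc hB
  have hc := hE.comm_z (sel i)
  unfold yv
  refine ⟨hS.conj_mem hc hQ, ?_, fun h => h1 (conj_eq_one_iff.1 h), fun h => hne ?_⟩
  · rw [show θ (sel i) * ψ bZero * (θ (sel i))⁻¹ * (θ (sel i) * ψ bZero * (θ (sel i))⁻¹) =
      θ (sel i) * (ψ bZero * ψ bZero) * (θ (sel i))⁻¹ by group, h2]
    simp
  · calc ψ bZero = (θ (sel i))⁻¹ * (θ (sel i) * ψ bZero * (θ (sel i))⁻¹) * θ (sel i) := by group
      _ = z := by rw [h, mul_assoc, ← hc.eq, inv_mul_cancel_left]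

theorem Embed.anti (i j : Fin 5) (hij : i ≠ j) : yv θ ψ i * yv θ ψ j = ψ rZero * (yv θ ψ j * yv θ ψ i) := by
  have hX := hS.ctx
  have hy4 : yv θ ψ 4 = ψ bZero := by simp [yv, sel]
  have hnot : ¬ Commute (yv θ ψ 4) (yv θ ψ 3) := by
    intro hc
    have h5 : hZero ^ 5 = 1 ∧ hZero ≠ 1 ∧ hZero * hZero ≠ 1 ∧ (hZero * hZero) ^ 5 = 1 ∧ last hZero ≠ 4 := by
      decide +kernel
    haveI : Fact (Nat.Prime 5) := ⟨by norm_num⟩
    have hord : ∀ p : A5, p ^ 5 = 1 → p ≠ 1 → orderOf (θ p) = 5 := fun p hp hp1 =>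
      orderOf_eq_prime (by rw [← map_pow, hp, map_one]) fun h => hp1 (hE.theta_inj (h.trans (map_one θ).symm))
    have h3 := hX.nci_commute hS.card (hord hZero h5.1 h5.2.1) (hE.comm_z _) (hE.yv_mem hS ht hnc hB 4)
      (hE.yv_mem hS ht hnc hB 3) hc
    obtain ⟨b, hb, hb3⟩ := move_three _ h5.2.2.2.2
    have hby : θ b * ψ bZero * (θ b)⁻¹ = ψ bZero := mul_inv_eq_iff_eq_mul.2 (hE.comm_L b hb bZero).eq
    have hk : yv θ ψ (last hZero) = ψ bZero ∨ yv θ ψ (last hZero) = z * ψ bZero := by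
      rw [← hb3, ← hE.conj_yv hS ht hnc hB b 3]
      rcases h3 with e | e <;> rw [e, hy4]
      · exact Or.inl hby
      · right
        rw [← mul_assoc (θ b), (hE.comm_z b).eq, mul_assoc z, mul_assoc z, hby]
    rw [← hE.conj_y hS ht hnc hB hZero] at hk
    have hsq : θ hZero * (θ hZero * ψ bZero * (θ hZero)⁻¹) * (θ hZero)⁻¹ = ψ bZero := by
      rcases hk with e | e
      · rw [e, e]
      · rw [e, ← mul_assoc (θ hZero), (hE.comm_z hZero).eq, mul_assoc z, mul_assoc z, e, ← mul_assoc, hX.sq_z,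
          one_mul]
    have hcy : Commute (θ (hZero * hZero)) (ψ bZero) := mul_inv_eq_iff_eq_mul.1
      (show θ (hZero * hZero) * ψ bZero * (θ (hZero * hZero))⁻¹ = ψ bZero by
        rw [map_mul]; conv_rhs => rw [← hsq]
        group)
    obtain ⟨hQ, -, h1, hne⟩ := hE.y_mem hS ht hnc hB
    rcases hX.fixed_five hS.card (hord _ h5.2.2.2.1 h5.2.2.1) (hE.comm_z _) hQ hcy.eq with e | e
    exacts [h1 e, hne e]
  obtain ⟨a, hai, haj⟩ := move_pair i j hij
  rcases hS.q_conj (hE.yv_mem hS ht hnc hB i).1 (hE.yv_mem hS ht hnc hB j).1 with e | e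
  · refine absurd ?_ hnot
    have h := (Commute.conj_iff (θ a)).2 (show Commute (yv θ ψ i) (yv θ ψ j) from mul_inv_eq_iff_eq_mul.1 e)
    rwa [hE.conj_yv hS ht hnc hB, hE.conj_yv hS ht hnc hB, hai, haj] at h
  · rw [mul_inv_eq_iff_eq_mul.1 e, hE.psi_r, mul_assoc]

theorem Embed.prod_cases : yv θ ψ 3 * yv θ ψ 2 * yv θ ψ 1 * yv θ ψ 0 = ψ bZero ∨
    yv θ ψ 3 * yv θ ψ 2 * yv θ ψ 1 * yv θ ψ 0 = z * ψ bZero := by
  have hX := hS.ctx
  set Y := yv θ ψ
  set s := Y 3 * Y 2 * Y 1 * Y 0 with hs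
  have ha := hE.anti hS ht hnc hB
  rw [hE.psi_r] at ha
  have hm := hE.yv_mem hS ht hnc hB
  have hsQ : s ∈ Q := mul_mem (mul_mem (mul_mem (hm 3).1 (hm 2).1) (hm 1).1) (hm 0).1
  have hz : ∀ i x, Y i * (z * x) = z * (Y i * x) := fun i x => by
    rw [← mul_assoc, ← (hX.central _ (hm i).1).eq, mul_assoc]
  have hzz : ∀ x, z * (z * x) = x := fun x => hS.z_mul
  have hc : ∀ a, θ a * s * (θ a)⁻¹ = (θ a * Y 3 * (θ a)⁻¹) * (θ a * Y 2 * (θ a)⁻¹) *
      (θ a * Y 1 * (θ a)⁻¹) * (θ a * Y 0 * (θ a)⁻¹) := fun a => by rw [hs]; group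
  have htfix : Commute s t := by
    have h := hc rZero
    simp only [Y, hE.conj_yv hS ht hnc hB, perm_rZero.1, perm_rZero.2.1, perm_rZero.2.2.1, perm_rZero.2.2.2] at h
    rw [hE.theta_r] at h
    refine (mul_inv_eq_iff_eq_mul.1 (h.trans ?_) : t * s = s * t).symm
    show Y 2 * Y 3 * Y 0 * Y 1 = s
    rw [hs]
    simp only [mul_assoc]
    rw [ha 0 1 (by decide), hz 3, hz 2, ← mul_assoc (Y 2), ha 2 3 (by decide)]
    simp only [mul_assoc]
    rw [hzz]
  have hyt : Commute (ψ bZero) t := by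
    rw [← hE.theta_r]; exact (hE.comm_L rZero (by decide +kernel) bZero).symm
  rcases (hS.fix_Q ht (hE.y_mem hS ht hnc hB) hyt s hsQ).1 htfix with e | e | e | e
  rotate_left 2
  · exact Or.inl e
  · exact Or.inr e
  all_goals
    exfalso
    have hfix : θ eZero * s * (θ eZero)⁻¹ = s := by
      rw [e]
      first
        | simp
        | exact mul_inv_eq_iff_eq_mul.2 (hE.comm_z eZero).eq
    have h := hc eZero
    rw [hfix] at h
    simp only [Y, hE.conj_yv hS ht hnc hB, perm_eZero.1, perm_eZero.2.1, perm_eZero.2.2.1, perm_eZero.2.2.2] at h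
    change s = Y 4 * Y 2 * Y 0 * Y 1 at h
    rw [hs] at h
    simp only [mul_assoc] at h
    rw [ha 0 1 (by decide), hz 2] at h
    have h' : Y 3 = z * Y 4 := by
      apply mul_right_cancel (b := Y 2 * (Y 1 * Y 0))
      rw [h, hz 4, mul_assoc]
    have h4 : Commute (Y 3) (Y 4) := by rw [h']; exact (hX.central _ (hm 4).1).mul_left (Commute.refl _)
    exact hX.ne_one (mul_eq_right.1 ((ha 3 4 (by decide)).symm.trans h4.eq))

theorem Embed.frame (hp : yv θ ψ 3 * yv θ ψ 2 * yv θ ψ 1 * yv θ ψ 0 = ψ bZero) : Frame θ ψ := by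
  refine ⟨fun a => hE.psi_r.symm ▸ hE.comm_z a, hE.comm_u, hE.comm_L, hE.anti hS ht hnc hB, ?_⟩
  set Y := yv θ ψ
  have ha := hE.anti hS ht hnc hB
  rw [hE.psi_r] at ha
  have hm := hE.yv_mem hS ht hnc hB
  have hz : ∀ i x, Y i * (z * x) = z * (Y i * x) := fun i x => by
    rw [← mul_assoc, ← (hS.ctx.central _ (hm i).1).eq, mul_assoc]
  have hz' : ∀ i, Y i * z = z * Y i := fun i => (hS.ctx.central _ (hm i).1).eq.symm
  have hzz : ∀ x, z * (z * x) = x := fun x => hS.z_mul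
  have hy4 : Y 4 = ψ bZero := by simp [Y, yv, sel]
  have e : Y 3 * Y 2 * Y 1 * Y 0 = Y 0 * Y 1 * Y 2 * Y 3 := by
    have a1 : Y 1 * Y 0 = z * (Y 0 * Y 1) := ha 1 0 (by decide)
    have a2 : Y 2 * Y 0 = z * (Y 0 * Y 2) := ha 2 0 (by decide)
    have a3 : Y 3 * Y 0 = z * (Y 0 * Y 3) := ha 3 0 (by decide)
    have b1 : Y 2 * Y 1 = z * (Y 1 * Y 2) := ha 2 1 (by decide)
    have b2 : Y 3 * Y 1 = z * (Y 1 * Y 3) := ha 3 1 (by decide)
    have c1 : Y 3 * Y 2 = z * (Y 2 * Y 3) := ha 3 2 (by decide)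
    have a1' : ∀ x, Y 1 * (Y 0 * x) = z * (Y 0 * (Y 1 * x)) := fun x => by rw [← mul_assoc, a1, mul_assoc, mul_assoc]
    have a2' : ∀ x, Y 2 * (Y 0 * x) = z * (Y 0 * (Y 2 * x)) := fun x => by rw [← mul_assoc, a2, mul_assoc, mul_assoc]
    have b1' : ∀ x, Y 2 * (Y 1 * x) = z * (Y 1 * (Y 2 * x)) := fun x => by rw [← mul_assoc, b1, mul_assoc, mul_assoc]
    have a3' : ∀ x, Y 3 * (Y 0 * x) = z * (Y 0 * (Y 3 * x)) := fun x => by rw [← mul_assoc, a3, mul_assoc, mul_assoc]
    have b2' : ∀ x, Y 3 * (Y 1 * x) = z * (Y 1 * (Y 3 * x)) := fun x => by rw [← mul_assoc, b2, mul_assoc, mul_assoc]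
    have c1' : ∀ x, Y 3 * (Y 2 * x) = z * (Y 2 * (Y 3 * x)) := fun x => by rw [← mul_assoc, c1, mul_assoc, mul_assoc]
    simp only [mul_assoc, a1, a2, a3, b1, b2, c1, a1', a2', b1', a3', b2', c1', hz, hz', hzz]
  rw [← e, hp, hy4]
  exact (hE.y_mem hS ht hnc hB).2.1

omit hE in
theorem Setup.exists_frame (h : ∃ θ ψ : A5 →* G, Embed z t V L θ ψ) :
    ∃ θ ψ : A5 →* G, Embed z t V L θ ψ ∧ Frame θ ψ := by
  obtain ⟨θ, ψ, hE⟩ := h
  rcases hE.prod_cases hS ht hnc hB with hp | hp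
  · exact ⟨θ, ψ, hE, hE.frame hS ht hnc hB hp⟩
  let ψ' : A5 →* G := ψ.comp omA.toMonoidHom
  have hu : ∀ a, Commute (θ a) (ψ' uZero) := fun a => by
    have h1 : Commute (θ a) (ψ rZero) := hE.psi_r.symm ▸ hE.comm_z a
    have h2 : Commute (θ a) (ψ hZero) := by
      rw [hZero, map_mul]; exact h1.mul_right (hE.comm_u a)
    show Commute (θ a) (ψ (omA uZero))
    rcases omA_u with e | e <;> rw [e] <;> simp only [map_mul]
    · exact (h1.mul_right h2).mul_right h2
    · exact ((h1.mul_right h2).mul_right h2).mul_right h2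
  have hE' : Embed z t V L θ ψ' :=
    ⟨by show ψ (omA rZero) = z; rw [omA_r, hE.psi_r], hE.theta_r, hE.psi_inj.comp omA.injective, hE.theta_inj,
      by rw [← hE.psi_range]; exact Subgroup.ext fun x => ⟨fun ⟨p, hp⟩ => ⟨omA p, hp⟩,
        fun ⟨p, hp⟩ => ⟨omA.symm p, show ψ (omA (omA.symm p)) = x by rw [omA.apply_symm_apply, hp]⟩⟩,
      hE.V_le, hE.comm_z, hu, fun a ha l => hE.comm_L a ha (omA l)⟩
  refine ⟨θ, ψ', hE', hE'.frame hS ht hnc hB ?_⟩
  have hb : ψ' bZero = z * ψ bZero := by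
    show ψ (omA bZero) = _; rw [omA_b, map_mul, hE.psi_r]
  have hy : ∀ i, yv θ ψ' i = z * yv θ ψ i := fun i => by
    unfold yv; rw [hb, ← mul_assoc (θ (sel i)), (hE.comm_z (sel i)).eq]; group
  have hm := hE.yv_mem hS ht hnc hB
  have hz : ∀ i x, yv θ ψ i * (z * x) = z * (yv θ ψ i * x) := fun i x => by
    rw [← mul_assoc, ← (hS.ctx.central _ (hm i).1).eq, mul_assoc]
  rw [hy, hy, hy, hy, hb, ← hp]
  simp only [mul_assoc, hz, hS.z_mul]

theorem Embed.stVal_ne {s : St} (hs : badSt s = true) (hF : Frame θ ψ) : stVal θ ψ s ≠ 1 := by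
  obtain ⟨ε, m, a⟩ := s
  intro hv
  have hm := hE.yv_mem hS ht hnc hB
  have hzQ : ∀ b, zp ψ b ∈ Q := fun b => by
    cases b
    · exact one_mem _
    · show ψ rZero ∈ Q; rw [hE.psi_r]; exact hS.ctx.mem
  have hfQ : ∀ i b, fac θ ψ i b ∈ Q := fun i b => by cases b <;> [exact one_mem _; exact (hm i).1]
  have hmQ : mono θ ψ m ∈ Q := by
    obtain ⟨b0, b1, b2, b3, b4⟩ := m
    exact mul_mem (hfQ _ _) (mul_mem (hfQ _ _) (mul_mem (hfQ _ _) (mul_mem (hfQ _ _) (hfQ _ _))))
  have hθQ : θ a ∈ Q := by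
    rw [eq_inv_of_mul_eq_one_right hv]
    exact inv_mem (mul_mem (hzQ _) hmQ)
  have ha : a = 1 := by
    by_contra ha1
    have hne : θ a ≠ 1 := fun h => ha1 (hE.theta_inj (h.trans (map_one θ).symm))
    rcases a5_orders a with h | h | h
    · obtain ⟨c, hc⟩ := a5_invol_conj a rZero (by rw [← pow_two]; exact h) ha1 rZero_two.1 rZero_two.2
      refine ht.2.2 ?_
      rw [← hE.theta_r, ← hc, map_mul, map_mul, map_inv]
      exact hS.conj_mem (hE.comm_z c) hθQ
    · haveI : Fact (Nat.Prime 3) := ⟨by norm_num⟩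
      exact hS.notMem_odd (p := 3) (by norm_num) (by norm_num)
        (orderOf_eq_prime (by rw [← map_pow, h, map_one]) hne) hθQ
    · haveI : Fact (Nat.Prime 5) := ⟨by norm_num⟩
      exact hS.notMem_odd (p := 5) (by norm_num) (by norm_num)
        (orderOf_eq_prime (by rw [← map_pow, h, map_one]) hne) hθQ
  subst ha
  have hy := hE.y_mem hS ht hnc hB
  have hy4 : yv θ ψ 4 = ψ bZero := by simp [yv, sel]
  have hfull : mono θ ψ (true, true, true, true, true) = 1 := by simpa [mono, fac, mul_assoc] using hF.prod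
  have hfour : mono θ ψ (true, true, true, true, false) = ψ bZero := by
    have h := hF.prod
    rw [hy4] at h
    calc mono θ ψ (true, true, true, true, false) = yv θ ψ 0 * yv θ ψ 1 * yv θ ψ 2 * yv θ ψ 3 := by
          simp [mono, fac, mul_assoc]
      _ = (ψ bZero)⁻¹ := eq_inv_of_mul_eq_one_left h
      _ = ψ bZero := inv_eq_of_mul_eq_one_right hy.2.1
  have hzb : zp ψ ε * ψ bZero ≠ 1 := by
    cases ε
    · simpa [zp] using hy.2.2.1
    · intro h
      apply hy.2.2.2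
      have := eq_inv_of_mul_eq_one_right h
      rw [this, show zp ψ true = z from hE.psi_r, hS.ctx.inv_z]
  have hv' : zp ψ ε * mono θ ψ m = 1 := by simpa [stVal] using hv
  simp only [badSt, ne_eq, not_true_eq_false, decide_false, Bool.false_or, Bool.or_eq_true, Bool.and_eq_true,
    decide_eq_true_eq] at hs
  rcases hs with (h | h) | ⟨h1, h | h⟩ <;> rw [h] at hv'
  · exact hzb (by simpa [mono, fac, hy4] using hv')
  · exact hzb (by rw [← hfour]; exact hv')
  · rw [h1] at hv'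
    exact hS.ctx.ne_one (by simpa [mono, fac, zp, hE.psi_r] using hv')
  · rw [h1, hfull, mul_one] at hv'
    exact hS.ctx.ne_one (hE.psi_r ▸ hv')

theorem Embed.loop (hF : Frame θ ψ) : LoopRel θ ψ := by
  obtain ⟨k1, k2, k3, k4, k5, k6, k7, k8⟩ := okCz_table
  have hlt : (∀ l ∈ rWord, l < 10) ∧ (∀ l ∈ candWord, l < 10) := by decide +kernel
  have hinvr := hF.wval_inv _ hlt.1
  have hinvc := hF.wval_inv _ hlt.2
  have g0 : Enum.wval (gens θ ψ) [0] = ψ rZero := by simp [Enum.wval, Enum.val, Enum.oneL, gens, lGen, aGen]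
  have g2 : Enum.wval (gens θ ψ) [2] = ψ bZero := by simp [Enum.wval, Enum.val, Enum.oneL, gens, lGen, aGen]
  have g4 : Enum.wval (gens θ ψ) [4] = t := by
    simp [Enum.wval, Enum.val, Enum.oneL, gens, lGen, aGen, hE.theta_r]
  have g6 : Enum.wval (gens θ ψ) [6] = θ nZero := by simp [Enum.wval, Enum.val, Enum.oneL, gens, lGen, aGen]
  have g7 : Enum.wval (gens θ ψ) [7] = (θ nZero)⁻¹ := by simp [Enum.wval, Enum.val, Enum.oneL, gens, lGen, aGen]
  have g02 : Enum.wval (gens θ ψ) [0, 2] = ψ (rZero * bZero) := by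
    rw [show [0, 2] = [0] ++ [2] from rfl, wval_append (gens θ ψ), g0, g2, map_mul]
  have g66 : Enum.wval (gens θ ψ) [6, 6] = θ nZero * θ nZero := by
    rw [show [6, 6] = [6] ++ [6] from rfl, wval_append (gens θ ψ), g6]
  have g77 : Enum.wval (gens θ ψ) [7, 7] = (θ nZero)⁻¹ * (θ nZero)⁻¹ := by
    rw [show [7, 7] = [7] ++ [7] from rfl, wval_append (gens θ ψ), g7]
  set r := Enum.wval (gens θ ψ) rWord with hr
  set P := Enum.wval (gens θ ψ) candWord with hP
  have f1 : r * ψ rZero * r⁻¹ * ψ rZero = 1 := by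
    have := hF.rel_Cz k1; simpa only [wval_append, g0, hinvr] using this
  have f2 : r * r * ψ rZero = 1 := by have := hF.rel_Cz k2; simpa only [wval_append, g0] using this
  have f3 : r * (θ nZero * r * (θ nZero)⁻¹) * (θ nZero * θ nZero * r * ((θ nZero)⁻¹ * (θ nZero)⁻¹)) = 1 := by
    have := hF.rel_Cz k3; simpa only [wval_append, g6, g7, g66, g77] using this
  have f4 : t * r * t * r⁻¹ * ψ rZero = 1 := by
    have := hF.rel_Cz k4; simpa only [wval_append, g0, g4, hinvr] using this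
  have f5 : r * ψ (rZero * bZero) * r⁻¹ * ψ (rZero * bZero) = 1 := by
    have := hF.rel_Cz k5; simpa only [wval_append, g02, hinvr] using this
  have f6 : P * ψ rZero * P⁻¹ * ψ rZero = 1 := by
    have := hF.rel_Cz k6; simpa only [wval_append, g0, hinvc] using this
  have f7 : P * ψ bZero * P⁻¹ * ψ bZero = 1 := by
    have := hF.rel_Cz k7; simpa only [wval_append, g2, hinvc] using this
  have f8 : t * P * t * P⁻¹ * ψ bZero = 1 := by
    have := hF.rel_Cz k8; simpa only [wval_append, g2, g4, hinvc] using this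
  have hsq : ∀ p : A5, p * p = 1 → ∀ a : G, a * ψ p * a⁻¹ * ψ p = 1 → Commute a (ψ p) := fun p hp a h => by
    have e : a * ψ p * a⁻¹ = ψ p := by
      rw [eq_inv_of_mul_eq_one_left h, ← map_inv, inv_eq_of_mul_eq_one_right hp]
    exact mul_inv_eq_iff_eq_mul.1 e
  have hb2 : bZero * bZero = (1 : A5) ∧ (rZero * bZero) * (rZero * bZero) = (1 : A5) := by decide +kernel
  have hPz := hsq _ rZero_two.1 P f6
  have hPy := hsq _ hb2.1 P f7
  have hx : xZero * rZero * xZero⁻¹ = bZero ∧ xZero * (rZero * bZero) * xZero⁻¹ = rZero ∧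
      last nZero = 4 ∧ last rZero = 4 := by decide +kernel
  have hxz : ψ xZero * ψ rZero * (ψ xZero)⁻¹ = ψ bZero := by rw [← map_inv, ← map_mul, ← map_mul, hx.1]
  set r' := ψ xZero * r * (ψ xZero)⁻¹ with hr'
  have hr'z : Commute r' (ψ rZero) := by
    rw [← hx.2.1, map_mul, map_mul ψ xZero, map_inv]
    exact (Commute.conj_iff _).2 (hsq _ hb2.2 r f5)
  have hr'y : Commute r' (ψ bZero) := by rw [← hxz]; exact (Commute.conj_iff _).2 (hsq _ rZero_two.1 r f1)
  have ht2 := mul_self_of_order_two ht.1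
  have hti : t⁻¹ = t := inv_eq_of_mul_eq_one_right ht2.1
  have htx : Commute t (ψ xZero) := hE.theta_r ▸ hE.comm_L rZero hx.2.2.2 xZero
  have hnx : Commute (θ nZero) (ψ xZero) := hE.comm_L nZero hx.2.2.1 xZero
  have hz1 : (ψ rZero)⁻¹ = ψ rZero := by rw [← map_inv, inv_eq_of_mul_eq_one_right rZero_two.1]
  have hy1 : (ψ bZero)⁻¹ = ψ bZero := by rw [← map_inv, inv_eq_of_mul_eq_one_right hb2.1]
  have htr : t * r * t = ψ rZero * r := by
    have e := eq_inv_of_mul_eq_one_left f4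
    rw [hz1] at e
    rw [← e]; group
  have htP : t * P * t = ψ bZero * P := by
    have e := eq_inv_of_mul_eq_one_left f8
    rw [hy1] at e
    rw [← e]; group
  have htr' : t * r' * t = ψ bZero * r' := by
    calc t * r' * t = (t * ψ xZero) * r * ((ψ xZero)⁻¹ * t) := by rw [hr']; group
      _ = ψ xZero * (t * r * t) * (ψ xZero)⁻¹ := by rw [htx.eq, ← htx.inv_right.eq]; group
      _ = (ψ xZero * ψ rZero * (ψ xZero)⁻¹) * r' := by rw [htr, hr']; group
      _ = ψ bZero * r' := by rw [hxz]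
  have hDt : Commute (r' * P⁻¹) t := by
    have e : t * (r' * P⁻¹) * t⁻¹ = r' * P⁻¹ := by
      calc t * (r' * P⁻¹) * t⁻¹ = (t * r' * t) * (t * P * t)⁻¹ := by simp only [mul_inv_rev]; group
        _ = ψ bZero * (r' * P⁻¹) * (ψ bZero)⁻¹ := by rw [htr', htP]; group
        _ = r' * P⁻¹ := by rw [← (hr'y.mul_left hPy.inv_left).eq, mul_inv_cancel_right]
    exact (mul_inv_eq_iff_eq_mul.1 e).symm
  obtain ⟨v, hv, l, hl, hvl⟩ := hB.dec _ (mem_centralizer_singleton_iff.2 hDt.eq)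
  obtain ⟨a, ha, rfl⟩ := hE.V_le v hv
  obtain ⟨p, rfl⟩ : ∃ p, ψ p = l := MonoidHom.mem_range.1 (by rw [hE.psi_range]; exact hl)
  have hp : p ∈ kList := by
    refine commute_rZero p (hE.psi_inj ?_)
    have h1 : Commute ((θ a)⁻¹ * (r' * P⁻¹)) (ψ rZero) :=
      (hE.psi_r.symm ▸ (hB.V_z _ hv) : Commute (θ a) (ψ rZero)).inv_left.mul_left (hr'z.mul_left hPz.inv_left)
    rw [hvl, inv_mul_cancel_left] at h1
    rw [map_mul, map_mul]; exact h1
  have hwords : ∀ a ∈ kList, ∀ p ∈ kList, ∃ q ∈ diffW, Enum.wval (gens θ ψ) q.1 = θ a ∧ Enum.wval (gens θ ψ) q.2 = ψ p := by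
    have w0 : Enum.wval (gens θ ψ) [] = 1 := rfl
    have gv : Enum.wval (gens θ ψ) [6, 4, 7] = θ vOne := by
      rw [show [6, 4, 7] = [6] ++ [4] ++ [7] from rfl, wval_append, wval_append, g6, g4, g7, vOne, map_mul, map_mul,
        map_inv, hE.theta_r]
    have gv' : Enum.wval (gens θ ψ) [4, 6, 4, 7] = θ (rZero * vOne) := by
      rw [show [4, 6, 4, 7] = [4] ++ [6, 4, 7] from rfl, wval_append (gens θ ψ), g4, gv, map_mul, hE.theta_r]
    have hk : vOne = rZero * bZero ∧ rZero * vOne = bZero := by decide +kernel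
    have hA : ∀ a ∈ kList, ∃ w, (w = [] ∨ w = [4] ∨ w = [6, 4, 7] ∨ w = [4, 6, 4, 7]) ∧ Enum.wval (gens θ ψ) w = θ a := by
      intro a ha
      simp only [kList, List.mem_cons, List.not_mem_nil, or_false] at ha
      rcases ha with rfl | rfl | rfl | rfl
      · exact ⟨[], Or.inl rfl, by rw [w0, map_one]⟩
      · exact ⟨_, Or.inr (Or.inl rfl), g4.trans hE.theta_r.symm⟩
      · exact ⟨_, Or.inr (Or.inr (Or.inl rfl)), gv⟩
      · exact ⟨_, Or.inr (Or.inr (Or.inr rfl)), gv'⟩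
    have hP' : ∀ p ∈ kList, ∃ w, (w = [] ∨ w = [0] ∨ w = [0, 2] ∨ w = [2]) ∧ Enum.wval (gens θ ψ) w = ψ p := by
      intro p hp
      simp only [kList, List.mem_cons, List.not_mem_nil, or_false] at hp
      rcases hp with rfl | rfl | rfl | rfl
      · exact ⟨[], Or.inl rfl, by rw [w0, map_one]⟩
      · exact ⟨_, Or.inr (Or.inl rfl), g0⟩
      · exact ⟨_, Or.inr (Or.inr (Or.inl rfl)), by rw [g02, hk.1]⟩
      · exact ⟨_, Or.inr (Or.inr (Or.inr rfl)), by rw [g2, hk.2]⟩
    intro a ha p hp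
    obtain ⟨w1, h1, e1⟩ := hA a ha
    obtain ⟨w2, h2, e2⟩ := hP' p hp
    refine ⟨(w1, w2), ?_, e1, e2⟩
    rcases h1 with rfl | rfl | rfl | rfl <;> rcases h2 with rfl | rfl | rfl | rfl <;> decide
  obtain ⟨q, hq, hq1, hq2⟩ := hwords a ha p hp
  have hqv : Enum.wval (gens θ ψ) (q.1 ++ q.2 ++ candWord) = r' := by
    rw [wval_append, wval_append, hq1, hq2, ← hvl, ← hP, inv_mul_cancel_right]
  have hgood : q = ([], []) := by
    have hq10 : ∀ q ∈ diffW, ∀ l ∈ q.1 ++ q.2 ++ candWord, l < 10 := by decide +kernel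
    have hval : ∀ w, (∀ l ∈ w, l < 10) → Enum.wval (gens θ ψ) w = 1 → ¬ badSt (evalSt w) = true := fun w hw h hb => by
      have e := hF.wval_Cz w st0 hw
      rw [h, mul_one, show stVal θ ψ st0 = 1 by simp [stVal, st0, zp, mono, fac]] at e
      exact hE.stVal_ne hS ht hnc hB hb hF e
    have e1 : r' * r' * ψ bZero = 1 := by
      calc r' * r' * ψ bZero = ψ xZero * (r * r * ψ rZero) * (ψ xZero)⁻¹ := by rw [← hxz, hr']; group
        _ = 1 := by rw [f2]; group
    have e2 : r' * (θ nZero * r' * (θ nZero)⁻¹) * (θ nZero * θ nZero * r' * ((θ nZero)⁻¹ * (θ nZero)⁻¹)) = 1 := by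
      calc r' * (θ nZero * r' * (θ nZero)⁻¹) * (θ nZero * θ nZero * r' * ((θ nZero)⁻¹ * (θ nZero)⁻¹))
          = ψ xZero * (r * (θ nZero * r * (θ nZero)⁻¹) *
              (θ nZero * θ nZero * r * ((θ nZero)⁻¹ * (θ nZero)⁻¹))) * (ψ xZero)⁻¹ := by
            have a1 : ∀ w, θ nZero * (ψ xZero * w * (ψ xZero)⁻¹) * (θ nZero)⁻¹ =
                ψ xZero * (θ nZero * w * (θ nZero)⁻¹) * (ψ xZero)⁻¹ := fun w => by
              calc θ nZero * (ψ xZero * w * (ψ xZero)⁻¹) * (θ nZero)⁻¹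
                  = (θ nZero * ψ xZero) * w * ((ψ xZero)⁻¹ * (θ nZero)⁻¹) := by group
                _ = _ := by rw [hnx.eq, ← hnx.inv_inv.eq]; group
            rw [hr', show θ nZero * θ nZero * (ψ xZero * r * (ψ xZero)⁻¹) * ((θ nZero)⁻¹ * (θ nZero)⁻¹) =
              θ nZero * (θ nZero * (ψ xZero * r * (ψ xZero)⁻¹) * (θ nZero)⁻¹) * (θ nZero)⁻¹ by group, a1, a1]
            group
        _ = 1 := by rw [f3]; group
    have hl10 := hq10 q hq
    rcases diff_table q hq with h | h | h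
    · exact h
    · refine absurd h (hval _ ?_ ?_)
      · intro l hl
        simp only [List.mem_append] at hl hl10
        rcases hl with (h | h) | h
        exacts [hl10 l h, hl10 l h, by simp only [List.mem_singleton] at h; omega]
      · rw [wval_append, wval_append, hqv, g2]; exact e1
    · refine absurd h (hval _ ?_ ?_)
      · intro l hl
        simp only [List.mem_append, List.mem_cons, List.not_mem_nil, or_false] at hl hl10
        rcases hl with (h | (h | h) | h) | ((h | h) | h) | (h | h) <;> first | exact hl10 l h | omega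
      · simp only [wval_append, g6, g7, g66, g77] at hqv ⊢
        rw [hqv]; exact e2
  rw [hgood] at hqv
  simp only [List.nil_append] at hqv
  show ψ xZero * (yv θ ψ 0 * yv θ ψ 1) * (ψ xZero)⁻¹ = _
  rw [← wval_rWord hF, ← wval_candWord hF]
  exact hqv.symm

end Cfsg.Lib.J2Type
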