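import Cfsg.Agent.Lib.J2Type.Data
import Cfsg.Agent.Lib.J2Type.Loop

/-!
# Kernel checks of the coset enumeration
-/

set_option autoImplicit false
set_option maxRecDepth 10000

namespace Cfsg.Lib.J2Type

theorem cert_lines : Enum.linesOK cert = true := by decide +kernel

theorem cert_final : Enum.finalOK cert = true := by decide +kernel

/-- The relation given by the loop. -/
def loopWord : List ℕ :=
  [10] ++ rWord ++ [11] ++ candWord.reverse.map fun l => if l / 2 = 3 then 13 - l else l

theorem cert_rels : ∀ r ∈ cert.rels, okLA r = true ∨ okCz r = true ∨ r = loopWord := by decide +kernel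

theorem cert_invol : ∀ q < 7, cert.invol.getD q false = true → q ≠ 3 ∧ q ≠ 5 := by decide +kernel

end Cfsg.Lib.J2Type
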