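import Cfsg.Agent.Lib.J2Type.Loop
import Cfsg.Agent.Lib.Invol.Basic

/-!
# The seven elements generate the group
-/

set_option autoImplicit false
set_option linter.style.haveILetI false
set_option linter.unusedSectionVars false

namespace Cfsg.Lib.J2Type

open Cfsg Subgroup
open Cfsg.Lib.Extra (Ctx nci)

/-- Enlarge a list of elements by two generators. -/
def growA5 (g h : A5) (l : List A5) : List A5 := (l ++ l.map (· * g) ++ l.map (· * h)).dedup

theorem a5_span_xu : ∀ p : A5, p ∈ (growA5 xZero uZero)^[16] [1] := by decide +kernel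

theorem a5_span_ne : ∀ p : A5, p ∈ (growA5 nZero (rZero * eZero))^[16] [1] := by decide +kernel

theorem mem_of_grow {S : Subgroup A5} {g h : A5} (hg : g ∈ S) (hh : h ∈ S) :
    ∀ (n : ℕ), ∀ p ∈ (growA5 g h)^[n] [1], p ∈ S := by
  intro n
  induction n with
  | zero => intro p hp; simp at hp; rw [hp]; exact one_mem _
  | succ n ih =>
    intro p hp
    rw [Function.iterate_succ_apply', growA5, List.mem_dedup, List.mem_append, List.mem_append, List.mem_map,
      List.mem_map] at hp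
    rcases hp with (hp | ⟨q, hq, rfl⟩) | ⟨q, hq, rfl⟩
    exacts [ih p hp, mul_mem (ih q hq) hg, mul_mem (ih q hq) hh]

theorem x_conj : xZero * rZero * xZero⁻¹ = bZero ∧
    (xZero * xZero) * rZero * (xZero * xZero)⁻¹ = rZero * bZero := by decide +kernel

variable {G : Type*} [Group G] [Finite G] {z t : G} {Q : Subgroup G} {θ ψ : A5 →* G}
variable (hS : Setup z Q) (ht : Outer z Q t) (hnc : ¬ IsConj z t) {V L : Subgroup G} (hB : Big z t V L)
variable (hE : Embed z t V L θ ψ) (hF : Frame θ ψ)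
include hS ht hnc hB hE hF

theorem Embed.generates : Subgroup.closure (gens θ ψ '' {q | q < 7}) = ⊤ := by
  classical
  have hX := hS.ctx
  set X := Subgroup.closure (gens θ ψ '' {q | q < 7})
  have hg : ∀ q < 7, gens θ ψ q ∈ X := fun q hq => subset_closure ⟨q, hq, rfl⟩
  have e5 : ψ xZero ∈ X := by simpa [gens, lGen, aGen] using hg 5 (by norm_num)
  have e6 : ψ uZero ∈ X := by simpa [gens, lGen, aGen] using hg 6 (by norm_num)
  have e2 : θ rZero ∈ X := by simpa [gens, lGen, aGen] using hg 2 (by norm_num)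
  have e3 : θ nZero ∈ X := by simpa [gens, lGen, aGen] using hg 3 (by norm_num)
  have e4 : θ eZero ∈ X := by simpa [gens, lGen, aGen] using hg 4 (by norm_num)
  have hψX : ∀ p, ψ p ∈ X := fun p =>
    mem_of_grow (S := X.comap ψ) e5 e6 16 p (a5_span_xu p)
  have hθX : ∀ p, θ p ∈ X := fun p =>
    mem_of_grow (S := X.comap θ) e3 (show θ (rZero * eZero) ∈ X by rw [map_mul]; exact mul_mem e2 e4) 16 p
      (a5_span_ne p)
  have hzX : z ∈ X := hE.psi_r ▸ hψX rZero
  have htX : t ∈ X := hE.theta_r ▸ hθX rZero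
  have hyX : ∀ i, yv θ ψ i ∈ X := fun i => show θ (sel i) * ψ bZero * (θ (sel i))⁻¹ ∈ X from mul_mem (mul_mem (hθX _) (hψX _)) (inv_mem (hθX _))
  -- the centralizer of `t`
  have hMX : ∀ g, Commute g t → g ∈ X := fun g hg' => by
    obtain ⟨v, hv, l, hl, rfl⟩ := hB.dec g (mem_centralizer_singleton_iff.2 hg'.eq)
    obtain ⟨a, -, rfl⟩ := hE.V_le v hv
    obtain ⟨p, rfl⟩ : ∃ p, ψ p = l := MonoidHom.mem_range.1 (by rw [hE.psi_range]; exact hl)
    exact mul_mem (hθX a) (hψX p)
  -- the extraspecial subgroup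
  have hm := hE.yv_mem hS ht hnc hB
  have ha := hF.anti
  rw [hE.psi_r] at ha
  have hyne : ∀ i j, i ≠ j → yv θ ψ i ≠ yv θ ψ j := fun i j hij h => by
    have h' := ha i j hij
    rw [h] at h'
    exact hX.ne_one (mul_eq_right.1 h'.symm)
  haveI : Fact (Nat.Prime 5) := ⟨by norm_num⟩
  have hQX : Q ≤ X := by
    obtain ⟨h5, h1⟩ : hZero ^ 5 = 1 ∧ hZero ≠ 1 := ⟨hZero_five.1, hZero_five.2.1⟩
    have ho : orderOf (θ hZero) = 5 := orderOf_eq_prime (by rw [← map_pow, h5, map_one])
      fun h => h1 (hE.theta_inj (h.trans (map_one θ).symm))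
    set S : Subgroup G := X ⊓ Q
    have hmod := card_modEq_fixed ho (S : Set G) fun x hx =>
      mem_inf.2 ⟨X.mul_mem (X.mul_mem (hθX _) (mem_inf.1 hx).1) (X.inv_mem (hθX _)),
        hS.conj_mem (hE.comm_z _) (mem_inf.1 hx).2⟩
    have hfix : {x ∈ (S : Set G) | Commute (θ hZero) x} = {1, z} := by
      ext x
      constructor
      · rintro ⟨hx, hc⟩
        exact hX.fixed_five hS.card ho (hE.comm_z _) hx.2 hc.eq
      · rintro (rfl | rfl)
        exacts [⟨one_mem _, Commute.one_right _⟩, ⟨⟨hzX, hX.mem⟩, hE.comm_z _⟩]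
    rw [hfix, Set.ncard_pair hX.ne_one.symm, ← Nat.card_coe_set_eq] at hmod
    change Nat.card S ≡ 2 [MOD 5] at hmod
    have hbig : 5 ≤ Nat.card S := by
      have hinj : Function.Injective fun i : Fin 5 => (⟨yv θ ψ i, hyX i, (hm i).1⟩ : S) := fun i j h => by
        by_contra hij
        exact hyne i j hij (congrArg Subtype.val h)
      simpa using Nat.card_le_card_of_injective _ hinj
    have hdvd : Nat.card S ∣ 32 := hS.card ▸ card_dvd_of_le inf_le_right
    have h32 : Nat.card S = 32 := by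
      have hle := Nat.le_of_dvd (by norm_num) hdvd
      unfold Nat.ModEq at hmod
      interval_cases (Nat.card S) <;> omega
    have e : S = Q := eq_of_le_of_card_ge inf_le_right (by rw [hS.card, h32])
    exact e ▸ inf_le_left
  -- the centralizer of `z`
  have hCX : ∀ g, Commute g z → g ∈ X := fun g hgz => by
    obtain ⟨φ, -, hker⟩ := hS.proj
    let θ' : A5 →* centralizer ({z} : Set G) :=
      θ.codRestrict _ fun a => mem_centralizer_singleton_iff.2 (hE.comm_z a)
    have hinj : Function.Injective (φ.comp θ') := by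
      haveI : IsSimpleGroup A5 := alternatingGroup.isSimpleGroup (by simp)
      rw [← MonoidHom.ker_eq_bot_iff]
      rcases (MonoidHom.normal_ker (φ.comp θ')).eq_bot_or_eq_top with h | h
      · exact h
      · exfalso
        have := MonoidHom.mem_ker.1 (h ▸ mem_top rZero : rZero ∈ (φ.comp θ').ker)
        apply ht.2.2
        rw [← hE.theta_r]
        exact (hker _).1 this
    obtain ⟨a, ha'⟩ := (Finite.injective_iff_surjective.1 hinj) (φ ⟨g, mem_centralizer_singleton_iff.2 hgz.eq⟩)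
    have hq := (hker ((θ' a)⁻¹ * ⟨g, mem_centralizer_singleton_iff.2 hgz.eq⟩)).1 (by
      rw [map_mul, map_inv, inv_mul_eq_one]; exact ha')
    have : g = θ a * ((θ a)⁻¹ * g) := by group
    rw [this]
    exact mul_mem (hθX a) (hQX hq)
  let Good : G → Prop := fun q => ∃ h ∈ X, q = h * z * h⁻¹ ∨ q = h * t * h⁻¹
  have hconjGood : ∀ {q} (h : G), h ∈ X → Good q → Good (h * q * h⁻¹) := fun h hh ⟨k, hk, e⟩ =>
    ⟨h * k, mul_mem hh hk, e.imp (fun e => by rw [e]; group) fun e => by rw [e]; group⟩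
  have hback : ∀ {q} (h : G), h ∈ X → Good (h * q * h⁻¹) → Good q := fun {q} h hh hq => by
    have := hconjGood h⁻¹ (inv_mem hh) hq
    rwa [show h⁻¹ * (h * q * h⁻¹) * h⁻¹⁻¹ = q by group] at this
  -- involutions commuting with `z`
  have hgz : ∀ w, orderOf w = 2 → Commute w z → Good w := fun w hw hwz => by
    obtain ⟨hw2, hw1⟩ := mul_self_of_order_two hw
    by_cases hwQ : w ∈ Q
    swap
    · obtain ⟨h, hh, e⟩ := hS.outer_conj ht (show Outer z Q w from ⟨hw, hwz, hwQ⟩)
      exact ⟨h, hCX h hh, Or.inr e.symm⟩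
    by_cases hwe : w = z
    · exact ⟨1, one_mem _, Or.inl (by rw [hwe]; group)⟩
    have hwn : w ∈ nci Q z := ⟨hwQ, hw2, hw1, hwe⟩
    obtain ⟨i, hi⟩ : ∃ i, Commute (yv θ ψ i) w := by
      by_contra hcon
      push Not at hcon
      have hflip : ∀ i, w * yv θ ψ i = z * (yv θ ψ i * w) := fun i => by
        rcases hS.q_conj hwQ (hm i).1 with e | e
        · exact absurd (show Commute (yv θ ψ i) w from (mul_inv_eq_iff_eq_mul.1 e).symm) (hcon i)
        · rw [mul_inv_eq_iff_eq_mul.1 e, mul_assoc]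
      have hz : ∀ i x, yv θ ψ i * (z * x) = z * (yv θ ψ i * x) := fun i x => by
        rw [← mul_assoc, ← (hX.central _ (hm i).1).eq, mul_assoc]
      have hflip' : ∀ i x, w * (yv θ ψ i * x) = z * (yv θ ψ i * (w * x)) := fun i x => by
        rw [← mul_assoc, hflip i, mul_assoc, mul_assoc]
      set P := yv θ ψ 0 * yv θ ψ 1 * yv θ ψ 2 * yv θ ψ 3 with hP
      have hP4 : Commute P w := by
        show P * w = w * P
        rw [hP]
        simp only [mul_assoc, hflip, hflip', hz, hS.z_mul]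
      have hprod := hF.prod
      rw [← hP] at hprod
      have h4 : yv θ ψ 4 = P⁻¹ := eq_inv_of_mul_eq_one_right hprod
      exact hcon 4 (h4 ▸ hP4.inv_left)
    have hX' : ψ bZero ∈ X := hψX _
    rcases hX.nci_commute hS.card (show orderOf (θ hZero) = 5 from orderOf_eq_prime
      (by rw [← map_pow, hZero_five.1, map_one])
      fun h => hZero_five.2.1 (hE.theta_inj (h.trans (map_one θ).symm))) (hE.comm_z _) (hm i) hwn hi with e | e
    · refine ⟨θ (sel i) * ψ xZero, mul_mem (hθX _) (hψX _), Or.inl ?_⟩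
      rw [e, yv, ← x_conj.1, map_mul, map_mul, map_inv, hE.psi_r]; group
    · refine ⟨θ (sel i) * ψ (xZero * xZero), mul_mem (hθX _) (hψX _), Or.inl ?_⟩
      have e' : ψ (xZero * xZero) * z * (ψ (xZero * xZero))⁻¹ = z * ψ bZero := by
        rw [← hE.psi_r, ← map_inv, ← map_mul, ← map_mul, x_conj.2, map_mul]
      rw [e, yv]
      calc z * (θ (sel i) * ψ bZero * (θ (sel i))⁻¹) = θ (sel i) * (z * ψ bZero) * (θ (sel i))⁻¹ := by
            rw [← mul_assoc (θ (sel i)), (hE.comm_z (sel i)).eq]; group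
        _ = θ (sel i) * ψ (xZero * xZero) * z * (θ (sel i) * ψ (xZero * xZero))⁻¹ := by rw [← e']; group
  -- involutions commuting with `t`
  have hgt : ∀ w, orderOf w = 2 → Commute w t → Good w := fun w hw hwt => by
    obtain ⟨hw2, hw1⟩ := mul_self_of_order_two hw
    obtain ⟨v, hv, l, hl, rfl⟩ := hB.dec w (mem_centralizer_singleton_iff.2 hwt.eq)
    have hl2 : l * l = 1 := by
      rwa [(hB.comm v hv l hl).symm.mul_mul_mul_comm, hB.sq_V v hv, one_mul] at hw2
    by_cases hl1 : l = 1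
    · exact hgz _ hw (by rw [hl1, mul_one]; exact hB.V_z v hv)
    obtain ⟨p, rfl⟩ : ∃ p, ψ p = l := MonoidHom.mem_range.1 (by rw [hE.psi_range]; exact hl)
    obtain ⟨c, hc⟩ := a5_invol_conj p rZero (hE.psi_inj (by rw [map_mul, hl2, map_one]))
      (fun h => hl1 (by rw [h, map_one])) rZero_two.1 rZero_two.2
    refine hback (ψ c) (hψX c) (hgz _ (by rw [Cfsg.Lib.Invol.orderOf_conj_eq]; exact hw) ?_)
    have hcv : Commute v (ψ c) := hB.comm v hv _ (hE.psi_range ▸ ⟨c, rfl⟩)
    have e : ψ c * (v * ψ p) * (ψ c)⁻¹ = v * z := by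
      rw [← mul_assoc, ← hcv.eq, ← hE.psi_r, ← hc, map_mul, map_mul, map_inv]; group
    rw [e]
    exact (hB.V_z v hv).mul_left (Commute.refl z)
  -- propagation
  have hstep : ∀ r w, Good r → orderOf w = 2 → Commute w r → Good w := by
    rintro r w ⟨h, hh, e⟩ hw hwr
    refine hback h⁻¹ (inv_mem hh) ?_
    have ho : orderOf (h⁻¹ * w * h⁻¹⁻¹) = 2 := by rw [Cfsg.Lib.Invol.orderOf_conj_eq]; exact hw
    have hc : Commute (h⁻¹ * w * h⁻¹⁻¹) (h⁻¹ * r * h⁻¹⁻¹) := (Commute.conj_iff _).2 hwr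
    have e0 : ∀ a : G, h⁻¹ * (h * a * h⁻¹) * h⁻¹⁻¹ = a := fun a => by group
    rcases e with e | e <;> rw [e, e0] at hc
    exacts [hgz _ ho hc, hgt _ ho hc]
  have hall : ∀ p q, orderOf p = 2 → Good p → orderOf q = 2 → ¬ IsConj p q → Good q := by
    intro p q hp hgp hq hpq
    have hev : Even (orderOf (p * q)) :=
      Nat.not_odd_iff_even.1 fun h => hpq (Cfsg.Lib.Invol.isConj_of_odd hp hq h)
    obtain ⟨hr, hrp, hrq⟩ := Cfsg.Lib.Invol.central_involution hp hq hev
    exact hstep _ q (hstep p _ hgp hr hrp) hq hrq.symm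
  rw [eq_top_iff]
  intro g _
  have hgt2 : orderOf (g * t * g⁻¹) = 2 := by rw [Cfsg.Lib.Invol.orderOf_conj_eq, ht.1]
  have hG : Good (g * t * g⁻¹) := hall z _ hS.z_two ⟨1, one_mem _, Or.inl (by group)⟩ hgt2
    fun h => hnc (h.trans (isConj_iff.2 ⟨g⁻¹, by group⟩))
  obtain ⟨h, hh, e | e⟩ := hG
  · exact absurd (isConj_iff.2 ⟨g⁻¹ * h, by rw [mul_inv_rev, inv_inv, show g⁻¹ * h * z * (h⁻¹ * g) = g⁻¹ * (h * z * h⁻¹) * g by group, ← e]; group⟩) hnc
  · have hc : Commute (h⁻¹ * g) t := by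
      refine mul_inv_eq_iff_eq_mul.1 ?_
      rw [mul_inv_rev, inv_inv, show h⁻¹ * g * t * (g⁻¹ * h) = h⁻¹ * (g * t * g⁻¹) * h by group, e]; group
    rw [show g = h * (h⁻¹ * g) by group]
    exact mul_mem hh (hMX _ hc)

end Cfsg.Lib.J2Type
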