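import Cfsg.Agent.Lib.J2Type.Main
import Cfsg.Agent.Lib.J2Type.DataCheck
import Cfsg.Agent.Lib.J2Type.Generate

/-!
# Uniqueness of groups of Hall-Janko type

The product of two groups of this type contains a subgroup generated by the pairs of generators,
of index at most 315 over a subgroup of the product of the two centralizers.
-/

set_option autoImplicit false
set_option linter.style.haveILetI false

namespace Cfsg.Lib.J2Type

open Cfsg Subgroup

universe u v

/-- Generators with all the relations of the enumeration. -/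
structure Good {G : Type*} [Group G] (z : G) (θ ψ : A5 →* G) : Prop where
  frame : Frame θ ψ
  loop : LoopRel θ ψ
  top : Subgroup.closure (gens θ ψ '' {q | q < 7}) = ⊤
  cent : ∀ q, q < 5 → Commute (gens θ ψ q) z
  card_C : Nat.card ↥(centralizer ({z} : Set G)) = 1920
  card : Nat.card G = 604800

theorem Setup.exists_good {G : Type*} [Group G] [Finite G] {z : G} {Q : Subgroup G} (hS : Setup z Q) :
    ∃ θ ψ : A5 →* G, Good z θ ψ := by
  obtain ⟨t, ht, hnc⟩ := hS.exists_outer
  obtain ⟨V, L, hB, hcard⟩ := hS.main ht hnc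
  obtain ⟨θ, ψ, hE, hF⟩ := hS.exists_frame ht hnc hB (hS.exists_embed ht hnc hB)
  refine ⟨θ, ψ, hF, hE.loop hS ht hnc hB hF, hE.generates hS ht hnc hB hF, fun q hq => ?_, hS.card_C, hcard⟩
  have hb : bZero * rZero = rZero * bZero := by decide +kernel
  have h1 : Commute (ψ bZero) z := by
    rw [← hE.psi_r]; show _ * _ = _ * _; rw [← map_mul, ← map_mul, hb]
  have h0 : Commute (ψ rZero) z := by rw [hE.psi_r]
  interval_cases q <;> simp [gens, lGen, aGen, h0, h1, hE.comm_z]

/-- Componentwise equality in a product. -/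
theorem commute_prod {G H : Type*} [Group G] [Group H] {a b : G × H} (h1 : Commute a.1 b.1)
    (h2 : Commute a.2 b.2) : Commute a b := Prod.ext h1.eq h2.eq

theorem Frame.prod_frame {G H : Type*} [Group G] [Group H] {θ ψ : A5 →* G} {θ' ψ' : A5 →* H}
    (h : Frame θ ψ) (h' : Frame θ' ψ') : Frame (θ.prod θ') (ψ.prod ψ') where
  comm_z a := commute_prod (h.comm_z a) (h'.comm_z a)
  comm_u a := commute_prod (h.comm_u a) (h'.comm_u a)
  comm_L a ha l := commute_prod (h.comm_L a ha l) (h'.comm_L a ha l)
  anti i j hij := Prod.ext (h.anti i j hij) (h'.anti i j hij)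
  prod := Prod.ext h.prod h'.prod

theorem cert_valid {G : Type*} [Group G] {θ ψ : A5 →* G} (hF : Frame θ ψ) (hL : LoopRel θ ψ)
    {H : Subgroup G} (hH : ∀ q, q < 5 → gens θ ψ q ∈ H) : Enum.Valid cert (gens θ ψ) H where
  invol q hq := by
    have h2 : rZero * rZero = (1 : A5) ∧ bZero * bZero = (1 : A5) ∧ eZero * eZero = (1 : A5) ∧
        uZero * uZero = (1 : A5) := by decide +kernel
    by_cases h7 : q < 7
    · obtain ⟨h3, h5⟩ := cert_invol q h7 hq
      interval_cases q <;>
        first
          | exact absurd rfl h3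
          | exact absurd rfl h5
          | (simp only [gens, lGen, aGen, map_one, one_mul, mul_one]; rw [← map_mul]; simp [h2.1, h2.2.1, h2.2.2.1, h2.2.2.2])
    · exfalso
      rw [List.getD_eq_default _ _ (show cert.invol.length ≤ q by show 7 ≤ q; omega)] at hq
      exact Bool.false_ne_true hq
  rels r hr := by
    rcases cert_rels r hr with h | h | rfl
    · exact hF.rel_LA h
    · exact hF.rel_Cz h
    · have hlt : ∀ l ∈ candWord, l < 10 := by decide +kernel
      have hx : Enum.wval (gens θ ψ) [10] = ψ xZero := by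
        simp [Enum.wval, Enum.val, Enum.oneL, gens, lGen, aGen]
      have hx' : Enum.wval (gens θ ψ) [11] = (ψ xZero)⁻¹ := by
        simp [Enum.wval, Enum.val, Enum.oneL, gens, lGen, aGen]
      rw [loopWord, wval_append, wval_append, wval_append, hF.wval_inv _ hlt, hx, hx', wval_rWord hF,
        wval_candWord hF, hL, mul_inv_cancel]
  subs s hs := by
    have hv : ∀ q < 5, Enum.val (gens θ ψ) (2 * q) = gens θ ψ q := fun q hq => by
      unfold Enum.val Enum.oneL
      rw [if_neg (by omega), if_pos (by omega), Nat.mul_div_cancel_left q (by norm_num)]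
    have hs' : s = 2 * 0 ∨ s = 2 * 1 ∨ s = 2 * 2 ∨ s = 2 * 3 ∨ s = 2 * 4 := by
      simpa [cert] using hs
    rcases hs' with rfl | rfl | rfl | rfl | rfl <;> rw [hv _ (by norm_num)] <;> exact hH _ (by norm_num)

/-- Two groups with these generators are isomorphic. -/
theorem Good.iso {G : Type u} {H : Type v} [Group G] [Finite G] [Group H] [Finite H] [IsSimpleGroup H]
    {z : G} {w : H} {θ ψ : A5 →* G} {θ' ψ' : A5 →* H} (hG : Good z θ ψ) (hH : Good w θ' ψ') :
    Nonempty (G ≃* H) := by
  classical
  set g := gens (θ.prod θ') (ψ.prod ψ') with hg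
  have hfst : ∀ q, (g q).1 = gens θ ψ q := fun q => rfl
  have hsnd : ∀ q, (g q).2 = gens θ' ψ' q := fun q => rfl
  set K : Subgroup (G × H) := (centralizer ({z} : Set G)).prod (centralizer ({w} : Set H))
  have hF := hG.frame.prod_frame hH.frame
  have hL : LoopRel (θ.prod θ') (ψ.prod ψ') := Prod.ext hG.loop hH.loop
  have hK : Nat.card K = 1920 * 1920 := by
    rw [Nat.card_congr (Subgroup.prodEquiv _ _).toEquiv, Nat.card_prod, hG.card_C, hH.card_C]
  set D := Subgroup.closure (g '' {q | q < 7})
  have hle : Nat.card D ≤ 315 * (1920 * 1920) := hK ▸ Enum.card_closure_le (C := cert)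
    (cert_valid hF hL fun q hq => ⟨mem_centralizer_singleton_iff.2 (hG.cent q hq).eq,
      mem_centralizer_singleton_iff.2 (hH.cent q hq).eq⟩) cert_lines cert_final (by decide)
  have hD1 : D.map (MonoidHom.fst G H) = ⊤ := by
    rw [MonoidHom.map_closure, ← Set.image_comp, ← hG.top]
    rfl
  have hD2 : D.map (MonoidHom.snd G H) = ⊤ := by
    rw [MonoidHom.map_closure, ← Set.image_comp, ← hH.top]
    rfl
  let N : Subgroup H := D.comap (MonoidHom.inr G H)
  haveI : N.Normal := ⟨fun b hb h => by
    obtain ⟨⟨a, h'⟩, hd, rfl⟩ := hD2.ge (mem_top h)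
    have := D.mul_mem (D.mul_mem hd (show ((1 : G), b) ∈ D from hb)) (D.inv_mem hd)
    show ((1 : G), h' * b * h'⁻¹) ∈ D
    simpa using this⟩
  have hN : N = ⊥ := by
    rcases (inferInstance : N.Normal).eq_bot_or_eq_top with h | h
    · exact h
    exfalso
    have htop : D = ⊤ := by
      rw [eq_top_iff]
      rintro ⟨a, b⟩ -
      obtain ⟨⟨a', b'⟩, hd, rfl⟩ := hD1.ge (mem_top a)
      have hb : ((1 : G), b'⁻¹ * b) ∈ D := (h ▸ mem_top (b'⁻¹ * b) : b'⁻¹ * b ∈ N)
      simpa using D.mul_mem hd hb
    rw [htop, Subgroup.card_top, Nat.card_prod, hG.card, hH.card] at hle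
    norm_num at hle
  let p1 : D →* G := (MonoidHom.fst G H).comp D.subtype
  let p2 : D →* H := (MonoidHom.snd G H).comp D.subtype
  have h1s : Function.Surjective p1 := fun a => by
    obtain ⟨d, hd, e⟩ := hD1.ge (mem_top a); exact ⟨⟨d, hd⟩, e⟩
  have h2s : Function.Surjective p2 := fun b => by
    obtain ⟨d, hd, e⟩ := hD2.ge (mem_top b); exact ⟨⟨d, hd⟩, e⟩
  have h1i : Function.Injective p1 := by
    rw [injective_iff_map_eq_one]
    rintro ⟨⟨a, b⟩, hd⟩ (e : a = 1)
    subst e
    have : b ∈ N := hd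
    rw [hN, mem_bot] at this
    subst this
    rfl
  have h1 : Function.Bijective p1 := ⟨h1i, h1s⟩
  have h2 : Function.Bijective p2 := (Nat.bijective_iff_surjective_and_card p2).2
    ⟨h2s, by rw [Nat.card_eq_of_bijective p1 h1, hG.card, hH.card]⟩
  exact ⟨(MulEquiv.ofBijective p1 h1).symm.trans (MulEquiv.ofBijective p2 h2)⟩

/-- Groups of Hall-Janko type are isomorphic to any simple one. -/
theorem Setup.iso {G : Type u} {H : Type v} [Group G] [Finite G] [Group H] [Finite H] [IsSimpleGroup H]
    {z : G} {Q : Subgroup G} {w : H} {R : Subgroup H} (hG : Setup z Q) (hH : Setup w R) :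
    Nonempty (G ≃* H) := by
  obtain ⟨_, _, h1⟩ := hG.exists_good
  obtain ⟨_, _, h2⟩ := hH.exists_good
  exact h1.iso h2

end Cfsg.Lib.J2Type
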