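import Cfsg.Agent.Lib.J2.Fusion
import Cfsg.Agent.Lib.J2Type.Uniqueness
import Cfsg.Agent.Lib.Extra.LargeTwoCore

/-!
# The Hall-Janko group has the type
-/

set_option autoImplicit false
set_option linter.style.haveILetI false
set_option maxRecDepth 4000

namespace Cfsg.Lib.J2Type

open Cfsg Subgroup Cfsg.Lib.J2

theorem fused_code : (kerList.contains 1351 && !Nat.beq 1351 zCode &&
    onBase (fun x => app (tP 55) (hAppN zCode x)) (fun x => hAppN 1351 (app (tP 55) x))) = true := by
  decide +kernel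

theorem outer_code : (onBase (fun x => hAppN 3 (hAppN 3 x)) (fun x => x) &&
    (List.range 315).all fun m =>
      !onBase (fun x => app (tP m) (hAppN zCode x)) (fun x => hAppN 3 (app (tP m) x))) = true := by
  decide +kernel

theorem gE_zero_two : orderOf (gE 0) = 2 := by
  rw [← codeN_zCode]
  refine orderOf_eq_prime ?_ fun h => absurd (codeN_injective (by decide) (by norm_num) (h.trans codeN_zero.symm)) (by decide)
  have hz : zCode < 1920 := by decide
  rw [pow_two]
  exact eq_of_onBase (F := fun x => hAppN zCode (hAppN zCode x)) (F' := fun x => x)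
    (mul_apply_nat (codeN_apply hz) (codeN_apply hz)) (fun _ => rfl) (by decide +kernel)

theorem coreSub_ext : Cfsg.IsExtraspecial 2 ↥blockRep.ker := by
  refine extraspecial_of_bij card_ker (cZero.subtype.comp blockRep.ker.subtype)
    (Subtype.val_injective.comp Subtype.val_injective) (fun q => ⟨codeOf q.1, (mem_ker_iff _).mp q.2, codeOf_spec _⟩)
    fun n hn => ?_
  refine ⟨⟨⟨codeEl n, mem_cZero_iff.mpr (codeEl_fix n)⟩, (mem_ker_iff _).mpr ?_⟩, rfl⟩
  rw [show (codeOf ⟨codeEl n, mem_cZero_iff.mpr (codeEl_fix n)⟩ : ℕ) = n from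
    congrArg Fin.val (codeEl_injective (codeOf_spec _).symm)]
  exact hn

theorem setup_PGrp : Setup (gE 0) coreSub := by
  classical
  haveI : Fact (Nat.Prime 2) := ⟨Nat.prime_two⟩
  haveI := alternatingGroup.isSimpleGroup_five
  haveI hs : IsSimpleGroup (cZero ⧸ blockRep.ker) := blockQuotEquiv.isSimpleGroup
  have hp : Cfsg.pCore 2 ↥cZero = blockRep.ker := by
    refine le_antisymm ?_ (Cfsg.Lib.Core.le_pCore coreSub_ext.1.1)
    have hN : ((Cfsg.pCore 2 ↥cZero).map (QuotientGroup.mk' blockRep.ker)).Normal :=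
      (inferInstance : (Cfsg.pCore 2 ↥cZero).Normal).map _ (QuotientGroup.mk'_surjective _)
    rcases hN.eq_bot_or_eq_top with h | h
    · rwa [Subgroup.map_eq_bot_iff, QuotientGroup.ker_mk'] at h
    · exfalso
      have hp := (Cfsg.Lib.Core.pCore_isPGroup 2 ↥cZero).map (QuotientGroup.mk' blockRep.ker)
      rw [h] at hp
      obtain ⟨i, hi⟩ := hp.exists_card_eq
      rw [card_top, Nat.card_congr blockQuotEquiv.toEquiv, a5_card] at hi
      have h5 : 5 ∣ 2 ^ i := hi ▸ (by norm_num : (5 : ℕ) ∣ 60)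
      exact absurd ((Nat.prime_dvd_prime_iff_eq (by norm_num) Nat.prime_two).1
        ((Nat.Prime.dvd_of_dvd_pow (by norm_num) h5))) (by norm_num)
  have hext : Cfsg.IsExtraspecial 2 ↥coreSub :=
    Cfsg.Lib.Extra.isExtraspecial_congr (blockRep.ker.equivMapOfInjective _ cZero.subtype_injective) coreSub_ext
  have hctx : Cfsg.Lib.Extra.Ctx coreSub (gE 0) :=
    Cfsg.Lib.Extra.ctx_of_twoCore gE_zero_two (hp ▸ rfl) hext centralizer_coreSub
  let φ : cZero →* A5 := blockRep.codRestrict _ fun x => range_blockRep.le ⟨x, rfl⟩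
  refine ⟨hctx, by rw [card_map_of_injective cZero.subtype_injective, card_ker], ⟨φ, ?_, ?_⟩, ?_, ?_⟩
  · intro a
    obtain ⟨x, hx⟩ : (a : Equiv.Perm (Fin 5)) ∈ blockRep.range := range_blockRep.ge a.2
    exact ⟨x, Subtype.ext hx⟩
  · intro x
    constructor
    · intro h
      exact ⟨x, MonoidHom.mem_ker.2 (congrArg Subtype.val h), rfl⟩
    · rintro ⟨y, hy, e⟩
      obtain rfl : y = x := Subtype.ext e
      exact Subtype.ext hy
  · have h := fused_code
    simp only [Bool.and_eq_true, Bool.not_eq_true'] at h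
    obtain ⟨⟨hk, hne⟩, hc⟩ := h
    have hlt : (1351 : ℕ) < 1920 := by norm_num
    have hz : zCode < 1920 := by decide
    have e : tE ⟨55, by norm_num⟩ * codeN zCode = codeN 1351 * tE ⟨55, by norm_num⟩ :=
      eq_of_onBase (F := fun x => app (tP 55) (hAppN zCode x)) (F' := fun x => hAppN 1351 (app (tP 55) x))
        (mul_apply_nat (tE_real ⟨55, by norm_num⟩) (codeN_apply hz))
        (mul_apply_nat (codeN_apply hlt) (tE_real ⟨55, by norm_num⟩)) hc
    have e2 : tE ⟨55, by norm_num⟩ * gE 0 * (tE ⟨55, by norm_num⟩)⁻¹ = codeN 1351 := by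
      rw [← codeN_zCode, e, mul_inv_cancel_right]
    refine ⟨tE ⟨55, by norm_num⟩, ?_, ?_⟩
    · rw [e2]; exact mem_coreSub_of_code (List.contains_iff_mem.mp hk)
    · rw [e2, ← codeN_zCode]
      intro h'
      exact absurd (codeN_injective hlt hz h') (by decide)
  · have h := outer_code
    simp only [Bool.and_eq_true] at h
    obtain ⟨hsq, hall⟩ := h
    have hlt : (3 : ℕ) < 1920 := by norm_num
    have hz : zCode < 1920 := by decide
    refine ⟨gE 0, codeN 3, gE_zero_two, orderOf_eq_prime ?_ fun h => ?_, fun hconj => ?_⟩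
    · rw [pow_two]
      exact eq_of_onBase (F := fun x => hAppN 3 (hAppN 3 x)) (F' := fun x => x)
        (mul_apply_nat (codeN_apply hlt) (codeN_apply hlt)) (fun _ => rfl) hsq
    · exact absurd (codeN_injective hlt (by norm_num) (h.trans codeN_zero.symm)) (by norm_num)
    · obtain ⟨g, hg⟩ := isConj_iff.1 hconj
      obtain ⟨m, hm⟩ : ∃ m : Fin 315, (tE m)⁻¹ * g ∈ cZero := by
        refine ⟨pos ((g : Equiv.Perm (Fin 315)) 0), mem_cZero_iff.2 ?_⟩
        rw [Subgroup.coe_mul, Equiv.Perm.mul_apply, Subgroup.coe_inv, Equiv.Perm.inv_eq_iff_eq,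
          tE_zero_pt, pt_pos]
      have hc : tE m * gE 0 = codeN 3 * tE m := by
        have hcom := (mem_centralizer_singleton_iff.1 hm)
        rw [← hg]
        calc tE m * gE 0 = tE m * (gE 0 * ((tE m)⁻¹ * g)) * g⁻¹ * tE m := by group
          _ = tE m * ((tE m)⁻¹ * g * gE 0) * g⁻¹ * tE m := by rw [hcom]
          _ = _ := by group
      rw [← codeN_zCode] at hc
      have := onBase_of_eq (F := fun x => app (tP m) (hAppN zCode x)) (H := fun x => hAppN 3 (app (tP m) x))
        (mul_apply_nat (tE_real m) (codeN_apply hz)) (mul_apply_nat (codeN_apply hlt) (tE_real m)) hc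
      have h2 := all_range hall m.2
      rw [this] at h2
      exact absurd h2 (by simp)

/-- A group of Hall-Janko type is the Hall-Janko group. -/
theorem Setup.isoJ2 {G : Type*} [Group G] [Finite G] {z : G} {Q : Subgroup G} (h : Setup z Q) :
    Cfsg.Spor.IsoJ2 G := by
  haveI := isSimple_PGrp
  obtain ⟨e⟩ := h.iso setup_PGrp
  exact ⟨e.trans j2Equiv.symm⟩

end Cfsg.Lib.J2Type
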