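import Cfsg.Agent.Lib.J2Type.Five
import Cfsg.Agent.Lib.J2Type.Generate
import Cfsg.Agent.Lib.J2Type.Loop
import Cfsg.Agent.Lib.J2Type.Instance
import Mathlib.GroupTheory.FixedPointFree
import Mathlib.GroupTheory.Transfer

/-!
# The second element of order five beside one centralizing the central involution
-/

set_option autoImplicit false
set_option linter.style.haveILetI false
set_option linter.unusedSectionVars false

namespace Cfsg.Lib.J2Type

open Cfsg Subgroup
open scoped Pointwise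
open Cfsg.Lib.Extra (Ctx nci)

theorem a4_frame : ∃ r n : alternatingGroup (Fin 4), r * r = 1 ∧ r ≠ 1 ∧ n ^ 3 = 1 ∧
    n * r * n⁻¹ ≠ r ∧ n * r * n⁻¹ * r = r * (n * r * n⁻¹) := by decide +kernel

theorem a5_five_exists : ∃ a : A5, a ^ 5 = 1 ∧ a ≠ 1 := ⟨hZero, hZero_five.1, hZero_five.2.1⟩

theorem a5_span_vh : ∀ p : A5, p ∈ (growA5 vOne hZero)^[16] [1] := by decide +kernel

theorem vOne_comm : vOne * rZero = rZero * vOne := by decide +kernel

variable {G : Type*} [Group G] [Finite G] {z t : G} {Q : Subgroup G}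
variable (hS : Setup z Q)
include hS

/-- The inverted element next to a given one is unique up to powers. -/
theorem Setup.five_pair_unique (P5 : ∀ P : Sylow 5 G, Nat.card (P : Subgroup G) = 25) {f y y' : G}
    (hf : orderOf f = 5) (hfz : Commute f z)
    (hy : orderOf y = 5) (hfy : Commute f y) (hzy : z * y * z⁻¹ = y⁻¹)
    (hy' : orderOf y' = 5) (hfy' : Commute f y') (hzy' : z * y' * z⁻¹ = y'⁻¹) :
    y' ∈ zpowers y := by
  classical
  haveI : Fact (Nat.Prime 2) := ⟨Nat.prime_two⟩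
  haveI : Fact (Nat.Prime 5) := ⟨by norm_num⟩
  have hf5 : f ^ 5 = 1 := hf ▸ pow_orderOf_eq_one f
  have hy5 : y ^ 5 = 1 := hy ▸ pow_orderOf_eq_one y
  have hy5' : y' ^ 5 = 1 := hy' ▸ pow_orderOf_eq_one y'
  have hmT : ∀ {x}, x ∈ centralizer ({f} : Set G) ↔ Commute x f := fun {x} =>
    mem_centralizer_singleton_iff
  let T := centralizer ({f} : Set G)
  let zT : T := ⟨z, hmT.2 hfz.symm⟩
  have hz2 : zT * zT = 1 := Subtype.ext hS.ctx.sq_z
  have hzT1 : zT ≠ 1 := fun h => hS.ctx.ne_one (congrArg Subtype.val h)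
  obtain ⟨P, hP⟩ := (show IsPGroup 2 (zpowers zT) from IsPGroup.of_card (n := 1) (by
    rw [Nat.card_zpowers, orderOf_eq_prime (by rw [pow_two, hz2]) hzT1, pow_one])).exists_le_sylow
  have hPc : Nat.card (P : Subgroup T) ≤ 2 := by
    have := hS.five_no_four hf hfz (K := (P : Subgroup T).map T.subtype) (map_subtype_le _) (P.2.map _)
    rwa [card_map_of_injective T.subtype_injective] at this
  have hPz : (P : Subgroup T) = zpowers zT := (eq_of_le_of_card_ge hP (by
    rw [Nat.card_zpowers, orderOf_eq_prime (by rw [pow_two, hz2]) hzT1]; exact hPc)).symm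
  have hNC : normalizer ((P : Subgroup T) : Set T) ≤ centralizer ((P : Subgroup T) : Set T) := by
    intro g hg
    refine mem_centralizer_iff.2 fun a ha => ?_
    have h2 : ∀ b ∈ (P : Subgroup T), b = 1 ∨ b = zT := fun b hb => by
      rw [hPz] at hb
      obtain ⟨i, rfl⟩ := mem_zpowers_iff.1 hb
      rw [← zpow_mod_orderOf zT i, orderOf_eq_prime (by rw [pow_two, hz2]) hzT1]
      rcases Int.emod_two_eq i with e | e <;> norm_num [e]
    rcases h2 a ha with rfl | rfl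
    · simp
    · rcases h2 _ ((mem_normalizer_iff.1 hg zT).1 ha) with e | e
      · exact absurd (conj_eq_one_iff.1 e) hzT1
      · exact (mul_inv_eq_iff_eq_mul.1 e).symm
  set tr := MonoidHom.transferSylow P hNC with htr
  have hcompl := MonoidHom.ker_transferSylow_isComplement' P hNC
  have hzO : zT ∉ tr.ker := fun h => by
    have := (disjoint_iff.1 hcompl.disjoint).le (show zT ∈ tr.ker ⊓ (P : Subgroup T) from ⟨h, hP (mem_zpowers _)⟩)
    exact hzT1 (mem_bot.1 this)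
  have hodd : ∀ x : T, x ^ 5 = 1 → x ∈ tr.ker := fun x hx => by
    have h1 : orderOf (tr x) ∣ 5 := orderOf_dvd_of_pow_eq_one (by rw [← map_pow, hx, map_one])
    have h2 : orderOf (tr x) ∣ 2 := by
      refine (_root_.orderOf_dvd_natCard _).trans ?_
      rw [hPz, Nat.card_zpowers, orderOf_eq_prime (by rw [pow_two, hz2]) hzT1]
    exact orderOf_eq_one_iff.1 (Nat.dvd_one.1 (Nat.dvd_gcd h1 h2))
  let O := tr.ker
  let fO : O := ⟨⟨f, hmT.2 (Commute.refl f)⟩, hodd _ (Subtype.ext hf5)⟩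
  let F : Subgroup O := zpowers fO
  haveI : F.Normal := ⟨fun a ha g => by
    obtain ⟨i, rfl⟩ := mem_zpowers_iff.1 ha
    have hc : Commute g fO := Subtype.ext (Subtype.ext (hmT.1 g.1.2).eq)
    rw [(hc.zpow_right i).eq, mul_inv_cancel_right]
    exact ha⟩
  let σ : O →* O :=
    { toFun := fun o => ⟨zT * o * zT⁻¹, (inferInstance : O.Normal).conj_mem _ o.2 zT⟩
      map_one' := Subtype.ext (by simp)
      map_mul' := fun a b => Subtype.ext (by simp [mul_assoc]) }
  have hσf : σ fO = fO := Subtype.ext (Subtype.ext (by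
    show z * f * z⁻¹ = f
    rw [hfz.symm.eq, mul_inv_cancel_right]))
  let τ : O ⧸ F →* O ⧸ F := QuotientGroup.map F F σ (zpowers_le.2 (by
    show σ fO ∈ F
    rw [hσf]; exact mem_zpowers fO))
  have hτinv : Function.Involutive τ := fun a => by
    obtain ⟨o, rfl⟩ := QuotientGroup.mk'_surjective F a
    show QuotientGroup.mk' F (σ (σ o)) = QuotientGroup.mk' F o
    refine congrArg _ (Subtype.ext ?_)
    show zT * (zT * o * zT⁻¹) * zT⁻¹ = o
    rw [inv_eq_of_mul_eq_one_right hz2]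
    calc zT * (zT * (o : T) * zT) * zT = zT * zT * o * (zT * zT) := by group
      _ = o := by rw [hz2, one_mul, mul_one]
  have hτfix : MonoidHom.FixedPointFree τ := fun a ha => by
    obtain ⟨o, rfl⟩ := QuotientGroup.mk'_surjective F a
    have h1 : (σ o)⁻¹ * o ∈ F := QuotientGroup.eq.1 ha
    obtain ⟨i, hi⟩ := mem_zpowers_iff.1 h1
    have e1 : σ o = o * fO ^ (-i) := by
      rw [zpow_neg, hi, mul_inv_rev, inv_inv, ← mul_assoc, mul_inv_cancel, one_mul]
    have h3 : σ (σ o) = o := Subtype.ext (by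
      show zT * (zT * o * zT⁻¹) * zT⁻¹ = o
      rw [inv_eq_of_mul_eq_one_right hz2]
      calc zT * (zT * (o : T) * zT) * zT = zT * zT * o * (zT * zT) := by group
        _ = o := by rw [hz2, one_mul, mul_one])
    rw [e1, map_mul, map_zpow, hσf, e1, mul_assoc, ← zpow_add, mul_eq_left] at h3
    have hfo : orderOf fO = 5 := by rw [← hf, ← Subgroup.orderOf_coe, ← Subgroup.orderOf_coe]
    have h5 : ((5 : ℕ) : ℤ) ∣ -i + -i := hfo ▸ orderOf_dvd_iff_zpow_eq_one.2 h3
    have hi0 : fO ^ (-i) = 1 := orderOf_dvd_iff_zpow_eq_one.1 (by rw [hfo]; omega)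
    rw [hi0, mul_one] at e1
    -- the fixed points
    have hoz : Commute ((o : T) : G) z := by
      have h := mul_inv_eq_iff_eq_mul.1
        (congrArg (fun w : T => (w : G)) (congrArg Subtype.val e1) : z * ((o : T) : G) * z⁻¹ = _)
      exact h.symm
    set K := centralizer ({z} : Set G) ⊓ centralizer {f} with hK
    have hfK : zpowers f ≤ K := zpowers_le.2
      ⟨mem_centralizer_singleton_iff.2 hfz, mem_centralizer_singleton_iff.2 rfl⟩
    have hoK : ((o : T) : G) ∈ K := ⟨mem_centralizer_singleton_iff.2 hoz, (o : T).2⟩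
    have hidx : ((zpowers f).subgroupOf K).index = 2 := by
      have h := card_mul_index ((zpowers f).subgroupOf K)
      rw [Nat.card_congr (subgroupOfEquivOfLe hfK).toEquiv, Nat.card_zpowers, hf,
        hS.five_centralizer hf hfz] at h
      omega
    have hdvd : orderOf ((o : T) : G) ∣ 10 := by
      rw [← Subgroup.orderOf_mk _ hoK, ← hS.five_centralizer hf hfz]
      exact _root_.orderOf_dvd_natCard _
    have hod : ¬ 2 ∣ orderOf ((o : T) : G) := fun h =>
      MonoidHom.not_dvd_card_ker_transferSylow P hNC (h.trans (by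
        rw [Subgroup.orderOf_coe, Subgroup.orderOf_coe]; exact _root_.orderOf_dvd_natCard o))
    have ho5 : ((o : T) : G) ^ 5 = 1 := orderOf_dvd_iff_pow_eq_one.1 (by
      have hle := Nat.le_of_dvd (by norm_num) hdvd
      interval_cases h : orderOf ((o : T) : G) <;> omega)
    have hsq := sq_mem_of_index_two hidx ((⟨_, hoK⟩ : K) ^ 3)
    rw [← pow_mul, show 3 * 2 = 5 + 1 from rfl, pow_succ,
      show (⟨_, hoK⟩ : K) ^ 5 = 1 from Subtype.ext ho5, one_mul] at hsq
    obtain ⟨j, hj⟩ := mem_zpowers_iff.1 (show ((o : T) : G) ∈ zpowers f from hsq)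
    refine (QuotientGroup.eq_one_iff o).2 (mem_zpowers_iff.2 ⟨j, Subtype.ext (Subtype.ext ?_)⟩)
    simpa using hj
  have hcomm := hτfix.commute_all_of_involutive hτinv
  let yO : O := ⟨⟨y, hmT.2 hfy.symm⟩, hodd _ (Subtype.ext hy5)⟩
  let yO' : O := ⟨⟨y', hmT.2 hfy'.symm⟩, hodd _ (Subtype.ext hy5')⟩
  obtain ⟨k, hk⟩ : ∃ k : ℤ, f ^ k = y' * y * y'⁻¹ * y⁻¹ := by
    have h : QuotientGroup.mk' F (yO' * yO * yO'⁻¹ * yO⁻¹) = 1 := by
      simp only [map_mul, map_inv]
      rw [(hcomm (QuotientGroup.mk' F yO') (QuotientGroup.mk' F yO)).eq, mul_inv_cancel_right,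
        mul_inv_cancel]
    obtain ⟨k, hk⟩ := mem_zpowers_iff.1 ((QuotientGroup.eq_one_iff _).1 h)
    exact ⟨k, by simpa using congrArg (fun o : O => ((o : T) : G)) hk⟩
  -- the five-group
  have hp : ∀ {x : G}, orderOf x = 5 → IsPGroup 5 (zpowers x) := fun hx =>
    IsPGroup.of_card (n := 1) (by rw [Nat.card_zpowers, hx, pow_one])
  set E := zpowers f ⊔ zpowers y with hE
  have hfE : f ∈ E := mem_sup_left (mem_zpowers f)
  have hyE : y ∈ E := mem_sup_right (mem_zpowers y)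
  have hyN : y ∈ normalizer ((zpowers f : Subgroup G) : Set G) :=
    Cfsg.Lib.Fusion.le_normalizer_of_conj_mem fun x hx => by
      obtain ⟨i, rfl⟩ := mem_zpowers_iff.1 hx
      rw [(hfy.symm.zpow_right i).eq, mul_inv_cancel_right]; exact zpow_mem (mem_zpowers f) i
  have hE5 : IsPGroup 5 E := by
    rw [hE, sup_comm]
    exact (hp hy).to_sup_of_normal_right' (hp hf) (zpowers_le.2 hyN)
  have hy'N : y' ∈ normalizer (E : Set G) := by
    refine Cfsg.Lib.Fusion.le_normalizer_of_conj_mem fun x hx => ?_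
    have hle : E ≤ E.comap (MulAut.conj y').toMonoidHom := by
      refine sup_le (zpowers_le.2 ?_) (zpowers_le.2 ?_)
      · show y' * f * y'⁻¹ ∈ E
        rw [hfy'.symm.eq, mul_inv_cancel_right]; exact hfE
      · show y' * y * y'⁻¹ ∈ E
        rw [show y' * y * y'⁻¹ = f ^ k * y by rw [hk, inv_mul_cancel_right]]
        exact mul_mem (zpow_mem hfE k) hyE
    exact hle hx
  have hE25 : 25 ∣ Nat.card E := by
    obtain ⟨n, hn⟩ := hE5.exists_card_eq
    by_contra hc
    have hn1 : n ≤ 1 := by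
      by_contra hn2
      exact hc (hn ▸ (show (25 : ℕ) = 5 ^ 2 by norm_num) ▸ pow_dvd_pow 5 (show 2 ≤ n by omega))
    have hEq : zpowers f = E := eq_of_le_of_card_ge le_sup_left (by
      rw [hn, Nat.card_zpowers, hf]; exact (pow_le_pow_right' (by norm_num) hn1).trans (by norm_num))
    obtain ⟨i, hi⟩ := mem_zpowers_iff.1 (hEq ▸ hyE : y ∈ zpowers f)
    have hzc : z * y * z⁻¹ = y := by rw [← hi, (hfz.symm.zpow_right i).eq, mul_inv_cancel_right]
    rw [hzy] at hzc
    have h2 : y ^ 2 = 1 := by rw [pow_two]; nth_rewrite 1 [← hzc]; exact inv_mul_cancel y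
    have := orderOf_dvd_of_pow_eq_one h2
    rw [hy] at this
    norm_num at this
  obtain ⟨P1, hP1⟩ := ((hp hy').to_sup_of_normal_right' hE5 (zpowers_le.2 hy'N)).exists_le_sylow
  have hEq : E = (P1 : Subgroup G) := eq_of_le_of_card_ge (le_trans le_sup_right hP1)
    (by rw [P5 P1]; exact Nat.le_of_dvd Nat.card_pos hE25)
  have hy'E : y' ∈ E := hEq ▸ hP1 (mem_sup_left (mem_zpowers y'))
  obtain ⟨a, ha, b, hb, hab⟩ : ∃ a ∈ zpowers f, ∃ b ∈ zpowers y, a * b = y' := by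
    have h := (coe_mul_of_right_le_normalizer_left (zpowers f) (zpowers y) (zpowers_le.2 hyN))
    have hm : y' ∈ ((zpowers f : Subgroup G) : Set G) * (zpowers y : Subgroup G) := h ▸ hy'E
    exact Set.mem_mul.1 hm
  obtain ⟨i, rfl⟩ := mem_zpowers_iff.1 ha
  obtain ⟨j, rfl⟩ := mem_zpowers_iff.1 hb
  rw [← hab, show z * (f ^ i * y ^ j) * z⁻¹ = z * f ^ i * z⁻¹ * (z * y * z⁻¹) ^ j by
      rw [conj_zpow]; group, hzy, inv_zpow, (hfz.symm.zpow_right i).eq, mul_inv_cancel_right,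
    mul_inv_rev, ← (Commute.zpow_zpow hfy i j).inv_inv.eq, mul_left_inj] at hzy'
  have h2 : f ^ (i + i) = 1 := by
    rw [zpow_add]; nth_rewrite 1 [hzy']; exact inv_mul_cancel _
  have h5 : ((5 : ℕ) : ℤ) ∣ i + i := hf ▸ orderOf_dvd_iff_zpow_eq_one.2 h2
  have : f ^ i = 1 := orderOf_dvd_iff_zpow_eq_one.1 (by rw [hf]; omega)
  rw [← hab, this, one_mul]
  exact zpow_mem (mem_zpowers y) j

variable (ht : Outer z Q t) (hnc : ¬ IsConj z t) {V L : Subgroup G} (hB : Big z t V L)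
include ht hnc hB

/-- An element of order five of `L` inverted by `z`, with its partner in `C(z)`. -/
theorem Setup.exists_pair_base : ∃ y f, orderOf y = 5 ∧ orderOf f = 5 ∧ Commute f z ∧ Commute f y ∧
    z * y * z⁻¹ = y⁻¹ ∧ (∃ C : Subgroup G, Nat.card C = 12 ∧ ∀ c ∈ C, Commute c y ∧ Commute c z) ∧
    (∀ X : Subgroup G, centralizer ({z} : Set G) ≤ X → y ∈ X → X = ⊤) := by
  classical
  haveI : Fact (Nat.Prime 5) := ⟨by norm_num⟩
  obtain ⟨θ, ψ, hE, hF⟩ := hS.exists_frame ht hnc hB (hS.exists_embed ht hnc hB)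
  set y := ψ hZero with hydef
  have hy : orderOf y = 5 := orderOf_eq_prime (by rw [hydef, ← map_pow, hZero_five.1, map_one])
    fun h => hZero_five.2.1 (hE.psi_inj (h.trans (map_one ψ).symm))
  have hzy : z * y * z⁻¹ = y⁻¹ := by
    rw [← hE.psi_r, hydef, ← map_inv, ← map_mul, ← map_mul, hZero_five.2.2, map_inv]
  have hyL : y ∈ L := hE.psi_range ▸ ⟨hZero, rfl⟩
  obtain ⟨C, -, -, hC12, hCL, ⟨e4⟩, -⟩ := hB.exists_A4 ht.1 hnc
  obtain ⟨φ, hφ, hφk, -⟩ := hS.five_L ht hnc hB hyL hy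
  have hmT : ∀ {x}, x ∈ centralizer ({y} : Set G) ↔ Commute x y := fun {x} =>
    mem_centralizer_singleton_iff
  have hy5 : y ^ 5 = 1 := hy ▸ pow_orderOf_eq_one y
  have hzz : z * z = 1 := hS.ctx.sq_z
  have hzinv : z⁻¹ = z := inv_eq_of_mul_eq_one_right hzz
  have hzyk : ∀ i : ℤ, z * y ^ i * z⁻¹ = y ^ (-i) := fun i => by
    rw [← conj_zpow, hzy, inv_zpow, zpow_neg]
  have hconj : ∀ {c}, Commute c y → Commute (z * c * z⁻¹) y := fun {c} hc => by
    have h := (Commute.conj_iff z).2 hc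
    rw [hzy] at h
    exact Commute.inv_right_iff.1 h
  -- the automorphism induced on the quotient
  let Z : centralizer ({y} : Set G) →* centralizer ({y} : Set G) :=
    { toFun := fun c => ⟨z * c * z⁻¹, hmT.2 (hconj (hmT.1 c.2))⟩
      map_one' := Subtype.ext (by simp)
      map_mul' := fun a b => Subtype.ext (by simp [mul_assoc]) }
  have hwd : ∀ a b, φ a = φ b → φ (Z a) = φ (Z b) := fun a b h => by
    obtain ⟨i, hi⟩ := mem_zpowers_iff.1 ((hφk (a⁻¹ * b)).1 (by rw [map_mul, map_inv, h, inv_mul_cancel]))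
    have h1 : φ (Z (a⁻¹ * b)) = 1 := (hφk _).2 (by
      show z * ((a⁻¹ * b : centralizer ({y} : Set G)) : G) * z⁻¹ ∈ zpowers y
      rw [← hi, hzyk]; exact zpow_mem (mem_zpowers y) _)
    rw [map_mul, map_mul, map_inv, map_inv, inv_mul_eq_one] at h1
    exact h1
  choose sec hsec using hφ
  let σ0 : A5 → A5 := fun a => φ (Z (sec a))
  have hσ0 : ∀ c, σ0 (φ c) = φ (Z c) := fun c => hwd _ _ (hsec _)
  have hZZ : ∀ c, Z (Z c) = c := fun c => Subtype.ext (by
    show z * (z * (c : G) * z⁻¹) * z⁻¹ = c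
    rw [hzinv]
    calc z * (z * (c : G) * z) * z = z * z * c * (z * z) := by group
      _ = c := by rw [hzz, one_mul, mul_one])
  have hinv : ∀ a, σ0 (σ0 a) = a := fun a => by
    show σ0 (φ (Z (sec a))) = a
    rw [hσ0, hZZ, hsec]
  let σ : A5 ≃* A5 :=
    { toFun := σ0, invFun := σ0, left_inv := hinv, right_inv := hinv
      map_mul' := fun a b => by
        show σ0 (a * b) = σ0 a * σ0 b
        conv_lhs => rw [← hsec a, ← hsec b, ← map_mul, hσ0, map_mul, map_mul] }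
  -- it fixes the four-group extended
  obtain ⟨r4, n4, h1, h2, h3, h4, h5⟩ := a4_frame
  let ι4 : alternatingGroup (Fin 4) →* centralizer ({y} : Set G) :=
    { toFun := fun a => ⟨(e4.symm a : G), hmT.2 (hCL _ (e4.symm a).2 y hyL)⟩
      map_one' := Subtype.ext (by simp)
      map_mul' := fun a b => Subtype.ext (by simp) }
  have hι : Function.Injective (φ.comp ι4) := (injective_iff_map_eq_one _).2 fun a ha => by
    have hm : (e4.symm a : G) ∈ zpowers y := (hφk _).1 ha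
    have d1 : orderOf (e4.symm a : G) ∣ 5 := by
      rw [← hy, ← Nat.card_zpowers y, ← Subgroup.orderOf_mk _ hm]; exact _root_.orderOf_dvd_natCard _
    have d2 : orderOf (e4.symm a : G) ∣ 12 := by
      rw [Subgroup.orderOf_coe, ← hC12]; exact _root_.orderOf_dvd_natCard _
    have : e4.symm a = 1 := Subtype.ext (orderOf_eq_one_iff.1 (Nat.dvd_one.1 (Nat.dvd_gcd d1 d2)))
    simpa using congrArg e4 this
  have hσfix : ∀ a, σ (φ (ι4 a)) = φ (ι4 a) := fun a => by
    show σ0 _ = _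
    rw [hσ0]
    refine congrArg φ (Subtype.ext ?_)
    show z * (e4.symm a : G) * z⁻¹ = _
    rw [(hCL _ (e4.symm a).2 z hB.z_mem).symm.eq, mul_inv_cancel_right]
    rfl
  have hσid := a5_aut_trivial σ (r := φ (ι4 r4)) (n := φ (ι4 n4))
    (by rw [← map_mul, ← map_mul, h1, map_one, map_one])
    (fun h => h2 (hι (h.trans (map_one _).symm)))
    (by rw [← map_pow, ← map_pow, h3, map_one, map_one])
    (fun h => h4 (hι (by simpa using h)))
    (by rw [← map_inv, ← map_inv, ← map_mul, ← map_mul, ← map_mul, ← map_mul, ← map_mul, ← map_mul,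
      ← map_mul, ← map_mul, h5])
    (hσfix r4) (hσfix n4)
  -- the partner
  obtain ⟨a, ha5, ha1⟩ := a5_five_exists
  set c := sec a with hc
  obtain ⟨k, hk⟩ := mem_zpowers_iff.1 ((hφk (c⁻¹ * Z c)).1 (by
    rw [map_mul, map_inv, ← hσ0, show σ0 (φ c) = σ (φ c) from rfl, hσid, inv_mul_cancel]))
  have hcy : Commute (c : G) y := hmT.1 c.2
  have hZc : z * (c : G) * z⁻¹ = c * y ^ k := by
    rw [hk]
    show _ = (c : G) * ((c : G)⁻¹ * (z * (c : G) * z⁻¹))
    group
  set f := (c : G) * y ^ (3 * k) with hfdef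
  have hfy : Commute f y := hcy.mul_left ((Commute.refl y).zpow_left _)
  have hfz : Commute f z := by
    have e : z * f * z⁻¹ = f := by
      rw [hfdef, show z * ((c : G) * y ^ (3 * k)) * z⁻¹ =
        z * (c : G) * z⁻¹ * (z * y ^ (3 * k) * z⁻¹) by group, hZc, hzyk, mul_assoc, ← zpow_add]
      refine congrArg _ ?_
      refine zpow_eq_zpow_iff_modEq.2 ?_
      rw [hy, Int.modEq_iff_dvd]
      exact ⟨k, by push_cast; ring⟩
    exact (mul_inv_eq_iff_eq_mul.1 e).symm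
  have hφf : φ ⟨f, hmT.2 hfy⟩ = a := by
    rw [show (⟨f, hmT.2 hfy⟩ : centralizer ({y} : Set G)) =
      c * ⟨y ^ (3 * k), hmT.2 ((Commute.refl y).zpow_left _)⟩ from rfl, map_mul,
      (hφk ⟨y ^ (3 * k), _⟩).2 (zpow_mem (mem_zpowers y) _), mul_one, hc, hsec]
  have hf5 : f ^ 5 = 1 := by
    obtain ⟨i, hi⟩ := mem_zpowers_iff.1 ((hφk (⟨f, hmT.2 hfy⟩ ^ 5)).1 (by rw [map_pow, hφf, ha5]))
    have hi' : y ^ i = f ^ 5 := hi
    have h := hzyk i
    rw [hi', (hfz.symm.pow_right 5).eq, mul_inv_cancel_right, ← hi'] at h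
    have h2 : ((5 : ℕ) : ℤ) ∣ -i - i := by
      have := (zpow_eq_zpow_iff_modEq.1 h)
      rw [hy, Int.modEq_iff_dvd] at this
      exact this
    rw [← hi']
    exact orderOf_dvd_iff_zpow_eq_one.1 (by rw [hy]; omega)
  have hf : orderOf f = 5 := orderOf_eq_prime hf5 fun h => ha1 (by
    rw [← hφf, show (⟨f, hmT.2 hfy⟩ : centralizer ({y} : Set G)) = 1 from Subtype.ext h, map_one])
  refine ⟨y, f, hy, hf, hfz, hfy, hzy,
    ⟨C, hC12, fun x hx => ⟨hCL x hx y hyL, hCL x hx z hB.z_mem⟩⟩, fun X hzX hyX => ?_⟩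
  have hψX : ∀ p, ψ p ∈ X := fun p => mem_of_grow (S := X.comap ψ)
    (show ψ vOne ∈ X from hzX (mem_centralizer_singleton_iff.2 (by
      rw [← hE.psi_r, ← map_mul, ← map_mul, vOne_comm])))
    (show ψ hZero ∈ X from hyX) 16 p (a5_span_vh p)
  refine top_le_iff.1 (hE.generates hS ht hnc hB hF ▸ (closure_le _).2 ?_)
  rintro _ ⟨q, -, rfl⟩
  exact mul_mem (hψX _) (hzX (mem_centralizer_singleton_iff.2 (hE.comm_z _).eq))

omit ht hnc hB in
/-- Beside an element of order five of `C(z)` stands one inverted by `z`. -/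
theorem Setup.five_pair {f : G} (hf : orderOf f = 5) (hfz : Commute f z) :
    ∃ y, orderOf y = 5 ∧ Commute f y ∧ z * y * z⁻¹ = y⁻¹ ∧
      (∃ C : Subgroup G, Nat.card C = 12 ∧ ∀ c ∈ C, Commute c y ∧ Commute c z) ∧
      (∀ X : Subgroup G, centralizer ({z} : Set G) ≤ X → y ∈ X → X = ⊤) ∧
      (∀ y', orderOf y' = 5 → Commute f y' → z * y' * z⁻¹ = y'⁻¹ → y' ∈ zpowers y) := by
  classical
  haveI : Fact (Nat.Prime 5) := ⟨by norm_num⟩
  obtain ⟨t, ht, hnc⟩ := hS.exists_outer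
  obtain ⟨V, L, hB, -⟩ := hS.main ht hnc
  obtain ⟨y0, f0, hy0, hf0, hf0z, hfy0, hzy0, ⟨C0, hC0, hC0c⟩, hgen⟩ :=
    hS.exists_pair_base ht hnc hB
  set Cz := centralizer ({z} : Set G) with hCz
  have hmz : ∀ {x}, x ∈ Cz ↔ Commute x z := fun {x} => mem_centralizer_singleton_iff
  obtain ⟨P, hP⟩ := (show IsPGroup 5 (zpowers (⟨f, hmz.2 hfz⟩ : Cz)) from IsPGroup.of_card (n := 1)
    (by rw [Nat.card_zpowers, ← Subgroup.orderOf_coe]; simp [hf])).exists_le_sylow
  have hPc : Nat.card (P : Subgroup Cz) ≤ 5 := by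
    obtain ⟨n, hn⟩ := P.2.exists_card_eq
    have h := (hn ▸ card_subgroup_dvd_card (P : Subgroup Cz) : 5 ^ n ∣ Nat.card Cz)
    rw [hS.card_C] at h
    rw [hn]
    rcases Nat.lt_or_ge n 2 with hlt | hge
    · exact le_trans (Nat.pow_le_pow_right (by norm_num) (show n ≤ 1 by omega)) (by norm_num)
    · exact absurd ((pow_dvd_pow 5 hge).trans h) (by norm_num)
  obtain ⟨g, hg⟩ := Cfsg.Lib.Sig.exists_conj_le_sylow P
    (show IsPGroup 5 (zpowers (⟨f0, hmz.2 hf0z⟩ : Cz)) from IsPGroup.of_card (n := 1)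
      (by rw [Nat.card_zpowers, ← Subgroup.orderOf_coe]; simp [hf0, hy0]))
  have hPz : zpowers (⟨f, hmz.2 hfz⟩ : Cz) = P := eq_of_le_of_card_ge hP
    (by rw [Nat.card_zpowers, ← Subgroup.orderOf_coe]; simpa [hf] using hPc)
  obtain ⟨i, hi⟩ := mem_zpowers_iff.1 (hPz.symm ▸ hg (Cfsg.Lib.Sig.conj_mem_map_conj (mem_zpowers _)) :
    g * ⟨f0, hmz.2 hf0z⟩ * g⁻¹ ∈ zpowers (⟨f, hmz.2 hfz⟩ : Cz))
  have hi' : f ^ i = (g : G) * f0 * (g : G)⁻¹ := by simpa using congrArg Subtype.val hi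
  have hgz : (g : G) * z * (g : G)⁻¹ = z := mul_inv_eq_iff_eq_mul.2 (hmz.1 g.2).eq
  have hfgen : f ∈ zpowers ((g : G) * f0 * (g : G)⁻¹) := by
    have hle : zpowers ((g : G) * f0 * (g : G)⁻¹) ≤ zpowers f := zpowers_le.2 (hi' ▸ zpow_mem (mem_zpowers f) i)
    rw [eq_of_le_of_card_ge hle (by
      rw [Nat.card_zpowers, Nat.card_zpowers, hf, Cfsg.Lib.Invol.orderOf_conj_eq, hf0])]
    exact mem_zpowers f
  obtain ⟨j, hj⟩ := mem_zpowers_iff.1 hfgen
  set y := (g : G) * y0 * (g : G)⁻¹ with hy'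
  have hfy : Commute f y := hj ▸ ((Commute.conj_iff (g : G)).2 hfy0).zpow_left j
  have hy : orderOf y = 5 := by rw [hy', Cfsg.Lib.Invol.orderOf_conj_eq, hy0]
  have hzy : z * y * z⁻¹ = y⁻¹ := by
    rw [hy', ← hgz, show (g : G) * z * (g : G)⁻¹ * ((g : G) * y0 * (g : G)⁻¹) * ((g : G) * z * (g : G)⁻¹)⁻¹ =
      (g : G) * (z * y0 * z⁻¹) * (g : G)⁻¹ by group, hzy0]
    group
  refine ⟨y, hy, hfy, hzy, ⟨C0.map (MulAut.conj (g : G)).toMonoidHom, ?_, ?_⟩, fun X hzX hyX => ?_,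
    fun y' h1 h2 h3 => hS.five_pair_unique (hS.sylow_five_card ht hnc hB) hf hfz hy hfy hzy h1 h2 h3⟩
  · rw [Cfsg.Lib.Sig.card_map_conj, hC0]
  · rintro _ ⟨c, hc, rfl⟩
    exact ⟨(Commute.conj_iff (g : G)).2 (hC0c c hc).1, hgz ▸ (Commute.conj_iff (g : G)).2 (hC0c c hc).2⟩
  · refine hgen X hzX ?_
    have h := mul_mem (mul_mem (inv_mem (hzX g.2)) hyX) (hzX g.2)
    rwa [hy', show (g : G)⁻¹ * ((g : G) * y0 * (g : G)⁻¹) * (g : G) = y0 by group] at h

end Cfsg.Lib.J2Type
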