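import Cfsg.Agent.Lib.J2Type.AltFive
import Cfsg.Agent.Lib.Extra.MinusThirtyTwo
import Cfsg.Agent.Lib.Extra.LargeTwoCore
import Cfsg.Agent.Lib.Extra.Structure
import Cfsg.Agent.Lib.Core.Layer
import Cfsg.Agent.Lib.Core.Fitting
import Cfsg.Agent.Lib.Invol.Basic
import Cfsg.Agent.Lib.Invol.SylowTools
import Cfsg.Agent.Lib.Sig.Small

/-!
# An involution centralizer `2^(1+4).A₅`

The classes and centralizers of elements of small order in `C(z)`, where `O₂(C(z))` is extraspecial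
of order 32 with quotient `A₅` and `G` has more than one class of involutions.
-/

set_option autoImplicit false
set_option linter.style.haveILetI false
set_option linter.unusedSectionVars false

namespace Cfsg.Lib.J2Type

open Cfsg Subgroup
open Cfsg.Lib.Extra (Ctx nci)

variable {G : Type*} [Group G] [Finite G]

/-- The hypotheses on the involution centralizer. -/
structure Setup (z : G) (Q : Subgroup G) : Prop where
  ctx : Cfsg.Lib.Extra.Ctx Q z
  card : Nat.card Q = 32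
  proj : ∃ φ : centralizer ({z} : Set G) →* A5, Function.Surjective φ ∧ ∀ x, φ x = 1 ↔ (x : G) ∈ Q
  nwc : ∃ g : G, g * z * g⁻¹ ∈ Q ∧ g * z * g⁻¹ ≠ z
  two : ∃ x y : G, orderOf x = 2 ∧ orderOf y = 2 ∧ ¬ IsConj x y

theorem Setup.of_hyp (z : G) (hz : orderOf z = 2) (Q : Subgroup (Subgroup.centralizer ({z} : Set G))) [Q.Normal]
    (hF : Cfsg.generalizedFittingSubgroup (Subgroup.centralizer ({z} : Set G)) = Q) (hQ : Cfsg.IsExtraspecial 2 Q)
    (hcard : Nat.card Q = 2 ^ 5)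
    (e : (Subgroup.centralizer ({z} : Set G)) ⧸ Q ≃* Cfsg.Omega (ZMod 2) (Cfsg.quadFormMinus 1 (ZMod 2) 1 1))
    (hnwc : ∃ g : G, (∃ hq : g * z * g⁻¹ ∈ Subgroup.centralizer ({z} : Set G),
      (⟨g * z * g⁻¹, hq⟩ : Subgroup.centralizer ({z} : Set G)) ∈ Q) ∧ g * z * g⁻¹ ≠ z)
    (hcl : ∃ x y : G, orderOf x = 2 ∧ orderOf y = 2 ∧ ¬ IsConj x y) :
    Setup z (Q.map (Subgroup.centralizer ({z} : Set G)).subtype) := by
  classical
  haveI : Fact (Nat.Prime 2) := ⟨Nat.prime_two⟩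
  have hQp : Cfsg.pCore 2 ↥(centralizer ({z} : Set G)) = Q :=
    le_antisymm (((Cfsg.Lib.Core.pCore_le_fittingSubgroup 2 ↥(centralizer ({z} : Set G))).trans
      Cfsg.Lib.Core.fitting_le_generalizedFitting).trans hF.le) (Cfsg.Lib.Core.le_pCore hQ.1.1)
  set Q' := Q.map (centralizer ({z} : Set G)).subtype with hQ'
  have hext : Cfsg.IsExtraspecial 2 ↥Q' :=
    Cfsg.Lib.Extra.isExtraspecial_congr (Q.equivMapOfInjective _ (centralizer ({z} : Set G)).subtype_injective) hQ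
  have hzC : z ∈ (centralizer ({z} : Set G)) := mem_centralizer_singleton_iff.2 rfl
  have hzQ : (⟨z, hzC⟩ : (centralizer ({z} : Set G))) ∈ Q := by
    rw [← hQp]
    haveI : (zpowers (⟨z, hzC⟩ : (centralizer ({z} : Set G)))).Normal := ⟨fun a ha g => by
      obtain ⟨i, rfl⟩ := mem_zpowers_iff.1 ha
      have hgc : Commute g (⟨z, hzC⟩ : (centralizer ({z} : Set G))) := Subtype.ext (mem_centralizer_singleton_iff.1 g.2)
      rw [(hgc.zpow_right i).eq, mul_inv_cancel_right]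
      exact mem_zpowers_iff.2 ⟨i, rfl⟩⟩
    refine Cfsg.Lib.Core.le_pCore (IsPGroup.of_card (n := 1) ?_) (mem_zpowers _)
    rw [Nat.card_zpowers, ← Subgroup.orderOf_coe, pow_one]; exact hz
  have hcent : centralizer (Q' : Set G) ≤ Q' := by
    intro g hg
    have hgC : g ∈ (centralizer ({z} : Set G)) := mem_centralizer_singleton_iff.2 (mem_centralizer_iff.1 hg z ⟨_, hzQ, rfl⟩).symm
    refine ⟨⟨g, hgC⟩, ?_, rfl⟩
    rw [SetLike.mem_coe, ← hF]
    refine Cfsg.Lib.Core.centralizer_generalizedFitting_le (mem_centralizer_iff.2 fun a ha => ?_)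
    exact Subtype.ext (mem_centralizer_iff.1 hg a ⟨a, hF ▸ ha, rfl⟩)
  have hctx : Ctx Q' z := Cfsg.Lib.Extra.ctx_of_twoCore hz (hQp ▸ rfl) hext hcent
  obtain ⟨u⟩ := omega_equiv
  refine ⟨hctx, by rw [hQ', card_map_of_injective (centralizer ({z} : Set G)).subtype_injective, hcard]; norm_num,
    ⟨((e.trans u : (centralizer ({z} : Set G)) ⧸ Q ≃* A5) : (centralizer ({z} : Set G)) ⧸ Q →* A5).comp (QuotientGroup.mk' Q),
      (e.trans u).surjective.comp (QuotientGroup.mk'_surjective Q), fun x => ?_⟩, ?_, hcl⟩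
  · simp only [MonoidHom.coe_comp, Function.comp_apply, MonoidHom.coe_coe, MulEquiv.map_eq_one_iff,
      QuotientGroup.mk'_apply, QuotientGroup.eq_one_iff]
    exact ⟨fun h => ⟨x, h, rfl⟩, fun ⟨y, hy, e'⟩ => Subtype.ext e' ▸ hy⟩
  · obtain ⟨g, ⟨hq, hm⟩, hne⟩ := hnwc
    exact ⟨g, ⟨_, hm, rfl⟩, hne⟩

/-- An involution of `C(z)` outside `Q`. -/
def Outer (z : G) (Q : Subgroup G) (t : G) : Prop := orderOf t = 2 ∧ Commute t z ∧ t ∉ Q

/-- The order of a subgroup is the product of those of kernel and image. -/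
theorem card_map_mul {K : Type*} [Group K] (f : G →* K) (S : Subgroup G) :
    Nat.card ↥(S.map f) * Nat.card ↥(S ⊓ f.ker) = Nat.card S := by
  rw [Subgroup.card_eq_card_quotient_mul_card_subgroup ((f.comp S.subtype).ker)]
  congr 1
  · rw [← S.range_subtype, ← MonoidHom.range_comp, S.range_subtype]
    exact (Nat.card_congr (QuotientGroup.quotientKerEquivRange (f.comp S.subtype)).toEquiv).symm
  · exact Nat.card_congr ⟨fun x => ⟨⟨x.1, x.2.1⟩, x.2.2⟩, fun x => ⟨x.1.1, mem_inf.mpr ⟨x.1.2, x.2⟩⟩,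
      fun x => rfl, fun x => rfl⟩

theorem card_A5_filter (p : A5 → Prop) [DecidablePred p] {S : Subgroup A5} (h : ∀ x, x ∈ S ↔ p x) :
    Nat.card S = (Finset.univ.filter p).card := by
  rw [← Fintype.card_coe, ← Nat.card_eq_fintype_card]
  exact Nat.card_congr (Equiv.subtypeEquivRight fun x => by simp [h x])

theorem mul_self_of_order_two {x : G} (h : orderOf x = 2) : x * x = 1 ∧ x ≠ 1 :=
  ⟨by rw [← pow_two, ← h, pow_orderOf_eq_one], fun e => by rw [e, orderOf_one] at h; norm_num at h⟩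

theorem order_two {x : G} (h : x * x = 1) (h1 : x ≠ 1) : orderOf x = 2 :=
  orderOf_eq_prime (by rw [pow_two, h]) h1

variable {z : G} {Q : Subgroup G} (hS : Setup z Q)

include hS

theorem Setup.z_two : orderOf z = 2 := order_two hS.ctx.sq_z hS.ctx.ne_one

theorem Setup.Q_le : Q ≤ centralizer ({z} : Set G) := hS.ctx.le_centralizer'

variable (φ : centralizer ({z} : Set G) →* A5) (hφ : Function.Surjective φ)
  (hker : ∀ x, φ x = 1 ↔ (x : G) ∈ Q)

include hker

/-- Counting in the centralizer. -/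
theorem card_sub_eq (S : Subgroup G) (hSC : S ≤ centralizer ({z} : Set G)) :
    Nat.card S = Nat.card ↥((S.subgroupOf (centralizer ({z} : Set G))).map φ) * Nat.card ↥(S ⊓ Q) := by
  rw [← Nat.card_congr (subgroupOfEquivOfLe hSC).toEquiv, ← card_map_mul φ (S.subgroupOf (centralizer ({z} : Set G)))]
  congr 1
  exact Nat.card_congr ⟨fun x => ⟨x.1.1, x.2.1, (hker x.1).1 x.2.2⟩,
    fun x => ⟨⟨x.1, hS.Q_le x.2.2⟩, x.2.1, (hker ⟨x.1, hS.Q_le x.2.2⟩).2 x.2.2⟩, fun x => rfl, fun x => rfl⟩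

omit hker

include hS in
theorem Setup.card_C : Nat.card ↥(centralizer ({z} : Set G)) = 1920 := by
  obtain ⟨φ, hφ, hker⟩ := hS.proj
  rw [card_sub_eq hS φ hker _ le_rfl, inf_eq_right.2 hS.Q_le, hS.card, subgroupOf_self,
    map_top_of_surjective φ hφ, Nat.card_congr topEquiv.toEquiv, a5_card]

theorem Setup.exists_five : ∃ f : G, orderOf f = 5 ∧ Commute f z := by
  haveI : Fact (Nat.Prime 5) := ⟨by norm_num⟩
  obtain ⟨f, hf⟩ := exists_prime_orderOf_dvd_card' (G := ↥(centralizer ({z} : Set G))) 5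
    (by rw [hS.card_C]; norm_num)
  exact ⟨f, by rw [Subgroup.orderOf_coe, hf], mem_centralizer_singleton_iff.1 f.2⟩

theorem Setup.nci_commute {a b : G} (ha : a ∈ nci Q z) (hb : b ∈ nci Q z) (h : Commute a b) :
    b = a ∨ b = z * a := by
  obtain ⟨f, hf, hfz⟩ := hS.exists_five
  exact hS.ctx.nci_commute hS.card hf hfz ha hb h

/-- The ten noncentral involutions of `Q` are conjugate in `C(z)`. -/
theorem Setup.conj_nci {a b : G} (ha : a ∈ nci Q z) (hb : b ∈ nci Q z) :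
    ∃ h, Commute h z ∧ h * a * h⁻¹ = b := by
  classical
  obtain ⟨f, hf, hfz⟩ := hS.exists_five
  have hgz : ∀ g ∈ zpowers f, Commute g z := fun g hg => by
    obtain ⟨i, rfl⟩ := mem_zpowers_iff.1 hg
    exact hfz.zpow_left i
  have hnci : ∀ g, Commute g z → ∀ x ∈ nci Q z, g * x * g⁻¹ ∈ nci Q z := by
    rintro g hg x ⟨hxQ, hx2, hx1, hxz⟩
    refine ⟨(mem_normalizer_iff.1 (hS.ctx.norm g hg) x).1 hxQ, ?_, fun h => hx1 (conj_eq_one_iff.1 h), fun h => hxz ?_⟩
    · rw [show g * x * g⁻¹ * (g * x * g⁻¹) = g * (x * x) * g⁻¹ by group, hx2]; simp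
    · calc x = g⁻¹ * (g * x * g⁻¹) * g := by group
        _ = z := by rw [h, mul_assoc, ← hg.eq, inv_mul_cancel_left]
  let Ψ : zpowers f × Bool → nci Q z := fun p =>
    ⟨cond p.2 z 1 * ((p.1 : G) * a * (p.1 : G)⁻¹), by
      cases p.2
      · simpa using hnci _ (hgz _ p.1.2) a ha
      · exact hS.ctx.mul_z_mem_nci (hnci _ (hgz _ p.1.2) a ha)⟩
  have key : ∀ k ∈ zpowers f, ∀ i : Bool, k * a * k⁻¹ = cond i z 1 * a → k = 1 ∧ i = false := by
    intro k hk i h
    have hk5 : k ^ 5 = 1 := by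
      obtain ⟨j, rfl⟩ := mem_zpowers_iff.1 hk
      rw [← zpow_natCast, ← zpow_mul, mul_comm, zpow_mul, zpow_natCast, ← hf, pow_orderOf_eq_one, one_zpow]
    have hca : Commute k a := by
      cases i
      · exact mul_inv_eq_iff_eq_mul.1 (by simpa using h)
      · have h2 : k ^ 2 * a * (k ^ 2)⁻¹ = a := by
          rw [pow_two]
          calc k * k * a * (k * k)⁻¹ = k * (k * a * k⁻¹) * k⁻¹ := by group
            _ = (k * z * k⁻¹) * (k * a * k⁻¹) := by conv_lhs => rw [h, cond_true]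
                                                    group
            _ = a := by
              rw [h, mul_inv_eq_iff_eq_mul.2 (hgz k hk).eq, cond_true, ← mul_assoc, hS.ctx.sq_z, one_mul]
        have h3 := (show Commute (k ^ 2) a from mul_inv_eq_iff_eq_mul.1 h2).pow_left 3
        rwa [← pow_mul, show 2 * 3 = 5 + 1 from rfl, pow_succ, hk5, one_mul] at h3
    have hi : i = false := by
      cases i
      · rfl
      · rw [cond_true, mul_inv_eq_iff_eq_mul.2 hca.eq] at h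
        exact absurd (mul_eq_right.1 h.symm) hS.ctx.ne_one
    refine ⟨?_, hi⟩
    by_contra hk1
    have ho : orderOf k = 5 := by
      haveI : Fact (Nat.Prime 5) := ⟨by norm_num⟩
      exact orderOf_eq_prime hk5 hk1
    rcases hS.ctx.fixed_five hS.card ho (hgz k hk) ha.1 hca with e | e
    exacts [ha.2.2.1 e, ha.2.2.2 e]
  have hinj : Function.Injective Ψ := by
    rintro ⟨g, i⟩ ⟨g', i'⟩ h
    have h' : cond i z 1 * ((g : G) * a * (g : G)⁻¹) = cond i' z 1 * ((g' : G) * a * (g' : G)⁻¹) :=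
      congrArg Subtype.val h
    have hc : Commute (g' : G) (cond (xor i i') z 1) := by
      cases i <;> cases i' <;> simp [(hgz _ g'.2)]
    have h2 : ((g' : G)⁻¹ * (g : G)) * a * ((g' : G)⁻¹ * (g : G))⁻¹ = cond (xor i i') z 1 * a := by
      have h3 : (g : G) * a * (g : G)⁻¹ = cond (xor i i') z 1 * ((g' : G) * a * (g' : G)⁻¹) := by
        have hz2 := hS.ctx.sq_z
        cases i <;> cases i'
        · simpa using h'
        · simpa using h'
        · simp only [cond_true, cond_false, one_mul, Bool.xor_false] at h' ⊢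
          rw [← h', ← mul_assoc, hz2, one_mul]
        · simpa using h'
      calc ((g' : G)⁻¹ * (g : G)) * a * ((g' : G)⁻¹ * (g : G))⁻¹ = (g' : G)⁻¹ * ((g : G) * a * (g : G)⁻¹) * g' := by group
        _ = ((g' : G)⁻¹ * cond (xor i i') z 1 * g') * a := by rw [h3]; group
        _ = _ := by rw [mul_assoc (g' : G)⁻¹, ← hc.eq, inv_mul_cancel_left]
    obtain ⟨e1, e2⟩ := key _ (mul_mem (inv_mem g'.2) g.2) _ h2
    refine Prod.ext (Subtype.ext (inv_mul_eq_one.1 e1).symm) ?_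
    show i = i'
    revert e2; cases i <;> cases i' <;> decide
  have hbij := (Nat.bijective_iff_injective_and_card Ψ).2 ⟨hinj, by
    rw [Nat.card_prod, Nat.card_zpowers, hf, Nat.card_eq_fintype_card (α := Bool), Fintype.card_bool,
      Nat.card_coe_set_eq, hS.ctx.ncard_nci hS.card hf hfz]⟩
  obtain ⟨⟨g, i⟩, hgi⟩ := hbij.2 ⟨b, hb⟩
  have hb' : cond i z 1 * ((g : G) * a * (g : G)⁻¹) = b := congrArg Subtype.val hgi
  cases i
  · exact ⟨g, hgz _ g.2, by simpa using hb'⟩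
  · obtain ⟨haQ, -, ha1, haz⟩ := hnci _ (hgz _ g.2) a ha
    obtain ⟨y, hy, hyx⟩ := hS.ctx.exists_move haQ ha1 haz
    refine ⟨y * g, (hS.ctx.central y hy).symm.mul_left (hgz _ g.2), ?_⟩
    rw [← hb', cond_true, ← hyx]; group

/-- Every involution of `Q` is conjugate to `z`. -/
theorem Setup.invol_Q_conj {x : G} (hx : x ∈ Q) (h2 : x * x = 1) (h1 : x ≠ 1) : IsConj z x := by
  by_cases hxz : x = z
  · rw [hxz]
  obtain ⟨g, hg, hgz⟩ := hS.nwc
  have hn : g * z * g⁻¹ ∈ nci Q z :=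
    ⟨hg, by rw [show g * z * g⁻¹ * (g * z * g⁻¹) = g * (z * z) * g⁻¹ by group, hS.ctx.sq_z]; simp,
      fun h => hS.ctx.ne_one (conj_eq_one_iff.1 h), hgz⟩
  obtain ⟨h, -, hh⟩ := hS.conj_nci hn ⟨hx, h2, h1, hxz⟩
  exact (isConj_iff.2 ⟨g, rfl⟩).trans (isConj_iff.2 ⟨h, hh⟩)

/-- There is an involution of `C(z)` outside `Q` that is not conjugate to `z`. -/
theorem Setup.exists_outer : ∃ t, Outer z Q t ∧ ¬ IsConj z t := by
  haveI : Fact (Nat.Prime 2) := ⟨Nat.prime_two⟩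
  obtain ⟨x, y, hx, hy, hxy⟩ := hS.two
  obtain ⟨w, hw, hwz⟩ : ∃ w, orderOf w = 2 ∧ ¬ IsConj z w := by
    by_cases h : IsConj z x
    · exact ⟨y, hy, fun h' => hxy (h.symm.trans h')⟩
    · exact ⟨x, hx, h⟩
  obtain ⟨P, hQP⟩ := hS.ctx.two.exists_le_sylow
  obtain ⟨g, hg⟩ := Cfsg.Lib.Sig.exists_conj_le_sylow P
    (show IsPGroup 2 ↥(zpowers w) from IsPGroup.of_card (n := 1) (by rw [Nat.card_zpowers, hw, pow_one]))
  have hgw : g * w * g⁻¹ ∈ (P : Subgroup G) :=
    hg (Cfsg.Lib.Sig.conj_mem_map_conj (mem_zpowers w))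
  have ho : orderOf (g * w * g⁻¹) = 2 := by rw [Cfsg.Lib.Invol.orderOf_conj_eq, hw]
  have hnc : ¬ IsConj z (g * w * g⁻¹) := fun h => hwz (h.trans (isConj_iff.2 ⟨g⁻¹, by group⟩))
  obtain ⟨h2, h1⟩ := mul_self_of_order_two ho
  exact ⟨_, ⟨ho, (hS.ctx.central_of_le P.2 hQP _ hgw).symm,
    fun h => hnc (hS.invol_Q_conj h h2 h1)⟩, hnc⟩

end Cfsg.Lib.J2Type
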