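import Cfsg.Agent.Lib.J2Type.Frame

/-!
# The two classes of involutions

Every involution is conjugate to `z` or to an involution `t` of `C(z)` outside `Q`.
-/

set_option autoImplicit false
set_option linter.style.haveILetI false
set_option linter.unusedSectionVars false

namespace Cfsg.Lib.J2Type

open Cfsg Subgroup
open Cfsg.Lib.Extra (Ctx nci)

variable {G : Type*} [Group G] [Finite G] {z t : G} {Q : Subgroup G}

theorem orderOf_isConj {x y : G} (hx : orderOf x = 2) (h : IsConj x y) : orderOf y = 2 := by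
  obtain ⟨g, rfl⟩ := isConj_iff.1 h
  rw [Cfsg.Lib.Invol.orderOf_conj_eq, hx]

theorem conj_mem_centralizer {g a r : G} :
    g * a * g⁻¹ ∈ centralizer ({g * r * g⁻¹} : Set G) ↔ a ∈ centralizer ({r} : Set G) := by
  rw [mem_centralizer_singleton_iff, mem_centralizer_singleton_iff,
    show g * a * g⁻¹ * (g * r * g⁻¹) = g * (a * r) * g⁻¹ by group,
    show g * r * g⁻¹ * (g * a * g⁻¹) = g * (r * a) * g⁻¹ by group, mul_left_inj, mul_right_inj]

theorem map_conj_inf (g a b : G) :
    (centralizer ({a} : Set G) ⊓ centralizer {b}).map (MulAut.conj g).toMonoidHom =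
      centralizer ({g * a * g⁻¹} : Set G) ⊓ centralizer {g * b * g⁻¹} := by
  ext x
  constructor
  · rintro ⟨y, hy, rfl⟩
    exact ⟨conj_mem_centralizer.2 hy.1, conj_mem_centralizer.2 hy.2⟩
  · intro hx
    refine ⟨g⁻¹ * x * g, ?_, by simp [mul_assoc]⟩
    have e : g * (g⁻¹ * x * g) * g⁻¹ = x := by group
    exact ⟨conj_mem_centralizer.1 (show g * (g⁻¹ * x * g) * g⁻¹ ∈ centralizer ({g * a * g⁻¹} : Set G) by
        rw [e]; exact hx.1),
      conj_mem_centralizer.1 (show g * (g⁻¹ * x * g) * g⁻¹ ∈ centralizer ({g * b * g⁻¹} : Set G) by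
        rw [e]; exact hx.2)⟩

variable (hS : Setup z Q)
include hS

theorem Setup.outer_of_not_conj {x : G} (hx : orderOf x = 2) (hxz : Commute x z) (h : ¬ IsConj z x) :
    Outer z Q x :=
  ⟨hx, hxz, fun hQ => h (hS.invol_Q_conj hQ (mul_self_of_order_two hx).1 (mul_self_of_order_two hx).2)⟩

theorem Setup.outer_isConj (ht : Outer z Q t) {x : G} (hx : Outer z Q x) : IsConj t x := by
  obtain ⟨h, -, e⟩ := hS.outer_conj ht hx
  exact isConj_iff.2 ⟨h, e⟩

variable (ht : Outer z Q t) (hnc : ¬ IsConj z t)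
include ht

include hnc

theorem Setup.mem_Q_iff {x : G} (hx : orderOf x = 2) (hxz : Commute x z) : IsConj z x ↔ x ∈ Q :=
  ⟨fun h => by_contra fun hQ => hnc (h.trans (hS.outer_isConj ht ⟨hx, hxz, hQ⟩).symm),
    fun hQ => hS.invol_Q_conj hQ (mul_self_of_order_two hx).1 (mul_self_of_order_two hx).2⟩

/-- There are exactly two classes of involutions. -/
theorem Setup.classes (x : G) (hx : orderOf x = 2) : IsConj z x ∨ IsConj t x := by
  haveI : Fact (Nat.Prime 2) := ⟨Nat.prime_two⟩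
  obtain ⟨P, hQP⟩ := hS.ctx.two.exists_le_sylow
  obtain ⟨g, hg⟩ := Cfsg.Lib.Sig.exists_conj_le_sylow P
    (show IsPGroup 2 ↥(zpowers x) from IsPGroup.of_card (n := 1) (by rw [Nat.card_zpowers, hx, pow_one]))
  have hgx : g * x * g⁻¹ ∈ (P : Subgroup G) := hg (Cfsg.Lib.Sig.conj_mem_map_conj (mem_zpowers x))
  have ho : orderOf (g * x * g⁻¹) = 2 := by rw [Cfsg.Lib.Invol.orderOf_conj_eq, hx]
  have hback : IsConj (g * x * g⁻¹) x := isConj_iff.2 ⟨g⁻¹, by group⟩
  by_cases hq : g * x * g⁻¹ ∈ Q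
  · exact Or.inl ((hS.invol_Q_conj hq (mul_self_of_order_two ho).1 (mul_self_of_order_two ho).2).trans hback)
  · exact Or.inr ((hS.outer_isConj ht
      ⟨ho, (hS.ctx.central_of_le P.2 hQP _ hgx).symm, hq⟩).trans hback)

/-- A conjugate of `z` and a commuting conjugate of `t` have centralizers meeting in order 16. -/
theorem Setup.card_pair {r s : G} (hr : IsConj z r) (hs : IsConj t s) (hrs : Commute r s) :
    Nat.card ↥(centralizer ({r} : Set G) ⊓ centralizer {s}) = 16 := by
  obtain ⟨g, rfl⟩ := isConj_iff.1 hr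
  obtain ⟨s', hs'⟩ : ∃ s', s = g * s' * g⁻¹ := ⟨g⁻¹ * s * g, by group⟩
  subst hs'
  have hts : IsConj t s' := hs.trans (isConj_iff.2 ⟨g⁻¹, by group⟩)
  have hc : Commute z s' := by
    have := congrArg (fun w => g⁻¹ * w * g) hrs.eq
    simpa [mul_assoc, Commute, SemiconjBy] using this
  have hso : Outer z Q s' := hS.outer_of_not_conj (orderOf_isConj ht.1 hts) hc.symm
    fun h => hnc (h.trans hts.symm)
  obtain ⟨e, -, -, h16, -⟩ := hS.frame hso
  rw [← map_conj_inf, Cfsg.Lib.Sig.card_map_conj, h16]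

end Cfsg.Lib.J2Type
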