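import Mathlib

/-!
# Certificates for coset enumerations

A list of checked facts `H · rep a · g_l = H · rep b`, each following from earlier ones and from
relators, bounds the index of a subgroup in the group generated by given elements.
-/

set_option autoImplicit false

namespace Cfsg.Lib.J2Type.Enum

/-- Lookup in a chunked table. -/
def tab (T : List (List ℕ)) (i : ℕ) : ℕ := (T.getD (Nat.div i 64) []).getD (Nat.mod i 64) 0

/-- The letter standing for the identity. -/
def oneL : ℕ := 14

/-- The inverse of a letter. -/
def il (invol : List Bool) (l : ℕ) : ℕ :=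
  if Nat.ble oneL l then l else if invol.getD (Nat.div l 2) false then l
  else if Nat.beq (Nat.mod l 2) 0 then l + 1 else l - 1

/-- A letter as an element. -/
def val {G : Type*} [Group G] (g : ℕ → G) (l : ℕ) : G :=
  if oneL ≤ l then 1 else if l % 2 = 0 then g (l / 2) else (g (l / 2))⁻¹

/-- The value of a word. -/
def wval {G : Type*} [Group G] (g : ℕ → G) (w : List ℕ) : G := (w.map (val g)).prod

/-- A certificate: packed facts, packed justifications, node parents, relators, final table. -/
structure Cert where
  invol : List Bool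
  rels : List (List ℕ)
  facts : List (List ℕ)
  just : List (List ℕ)
  par : List (List ℕ)
  subs : List ℕ
  nFacts : ℕ
  live : List (List ℕ)
  nLive : ℕ
  final : List (List ℕ)

/-- The source of a fact. -/
def src (C : Cert) (i : ℕ) : ℕ := Nat.div (tab C.facts i) 65536
/-- The letter of a fact. -/
def lab (C : Cert) (i : ℕ) : ℕ := Nat.mod (tab C.facts i) 16
/-- The target of a fact. -/
def tgt (C : Cert) (i : ℕ) : ℕ := Nat.mod (Nat.div (tab C.facts i) 16) 4096

/-- Unpack a list of 16-bit entries, each shifted by one. -/
def unpack : ℕ → ℕ → List ℕ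
  | 0, _ => []
  | n + 1, x => if Nat.beq x 0 then [] else (Nat.mod x 65536 - 1) :: unpack n (Nat.div x 65536)

/-- The start of a directed fact. -/
def segA (C : Cert) (s : ℕ) : ℕ :=
  if Nat.beq (Nat.mod s 2) 0 then src C (Nat.div s 2) else tgt C (Nat.div s 2)
/-- The end of a directed fact. -/
def segB (C : Cert) (s : ℕ) : ℕ :=
  if Nat.beq (Nat.mod s 2) 0 then tgt C (Nat.div s 2) else src C (Nat.div s 2)
/-- The letter of a directed fact. -/
def segL (C : Cert) (s : ℕ) : ℕ :=
  if Nat.beq (Nat.mod s 2) 0 then lab C (Nat.div s 2) else il C.invol (lab C (Nat.div s 2))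

/-- Follow a path of earlier facts: the word read, provided it leads from `p` to `q`. -/
def walk (C : Cert) (bound : ℕ) : List ℕ → ℕ → ℕ → Option (List ℕ)
  | [], p, q => if Nat.beq p q then some [] else none
  | s :: ss, p, q =>
    if Nat.blt (Nat.div s 2) bound && Nat.beq (segA C s) p then
      match walk C bound ss (segB C s) q with
      | none => none
      | some w => some (if Nat.beq (segL C s) oneL then w else segL C s :: w)
    else none

/-- The parent of a node. -/
def parOf (C : Cert) (n : ℕ) : ℕ := Nat.div (tab C.par n) 16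
/-- The letter from the parent to a node. -/
def parLet (C : Cert) (n : ℕ) : ℕ := Nat.mod (tab C.par n) 16

/-- A word which is trivial for free reasons. -/
def trivW (C : Cert) : List ℕ → Bool
  | [] => true
  | [a, b] => Nat.beq b (il C.invol a)
  | _ => false

/-- One line of the certificate: kinds are subgroup, definition, trivial composite, relator. -/
def lineOK (C : Cert) (i : ℕ) : Bool :=
  let j := tab C.just i
  let a := src C i
  let b := tgt C i
  let l := lab C i
  let k := Nat.mod j 4
  if Nat.beq k 0 then Nat.beq a 0 && Nat.beq b 0 && C.subs.any (fun s => Nat.beq s l)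
  else if Nat.beq k 1 then Nat.blt a b && Nat.beq (parOf C b) a && Nat.beq (parLet C b) l
  else
    match walk C i (unpack 96 (Nat.div j 1048576)) b a with
    | none => false
    | some w =>
      let w' := if Nat.beq l oneL then w else l :: w
      if Nat.beq k 2 then
        if Nat.beq l oneL then trivW C w else w == [il C.invol l]
      else
        let r := C.rels.getD (Nat.mod (Nat.div j 4) 4096) []
        let m := Nat.mod (Nat.div j 16384) 64
        w' == r.drop m ++ r.take m

/-- All lines. -/
def linesOK (C : Cert) : Bool := (List.range C.nFacts).all (lineOK C)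

/-- The final table: every live node times every generator is live. -/
def finalOK (C : Cert) : Bool :=
  Nat.beq (tab C.live 0) 0 && (List.range C.nLive).all fun c => (List.range 7).all fun q =>
    let e := tab C.final (7 * c + q)
    let d := Nat.div e 32768
    let f := Nat.mod e 32768
    Nat.blt (Nat.div f 2) C.nFacts && Nat.blt d C.nLive &&
      Nat.beq (segA C f) (tab C.live c) &&
      Nat.beq (segB C f) (tab C.live d) &&
      Nat.beq (segL C f) (2 * q)

/-- Representatives of the nodes. -/
def repF {G : Type*} [Group G] (C : Cert) (g : ℕ → G) : ℕ → ℕ → G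
  | 0, _ => 1
  | fuel + 1, n => if parOf C n < n then repF C g fuel (parOf C n) * val g (parLet C n) else 1

/-- The representative of a node. -/
def rep {G : Type*} [Group G] (C : Cert) (g : ℕ → G) (n : ℕ) : G := repF C g n n

theorem repF_stable {G : Type*} [Group G] (C : Cert) (g : ℕ → G) :
    ∀ fuel n, n ≤ fuel → repF C g fuel n = repF C g n n := by
  intro fuel
  induction fuel using Nat.strong_induction_on with
  | _ fuel ih =>
    intro n hn
    rcases fuel with - | fuel
    · rw [Nat.le_zero.1 hn]
    rcases n with - | n
    · simp [repF]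
    simp only [repF]
    split
    · rename_i h
      rw [ih fuel (Nat.lt_succ_self _) _ (by omega), ih n (by omega) _ (by omega)]
    · rfl

theorem rep_par {G : Type*} [Group G] (C : Cert) (g : ℕ → G) {n : ℕ} (h : parOf C n < n) :
    rep C g n = rep C g (parOf C n) * val g (parLet C n) := by
  rcases n with - | n
  · omega
  unfold rep
  rw [repF, if_pos h, repF_stable C g n _ (by omega)]

variable {G : Type*} [Group G] (C : Cert) (g : ℕ → G) (H : Subgroup G)

/-- The fact `H · rep a · g_l = H · rep b`. -/
def Edge (a l b : ℕ) : Prop := rep C g a * val g l * (rep C g b)⁻¹ ∈ H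

/-- What the certificate assumes about the generators. -/
structure Valid : Prop where
  invol : ∀ q, C.invol.getD q false = true → g q * g q = 1
  rels : ∀ r ∈ C.rels, wval g r = 1
  subs : ∀ s ∈ C.subs, val g s ∈ H

variable {C g H}

theorem val_il (hV : Valid C g H) (l : ℕ) : val g (il C.invol l) = (val g l)⁻¹ := by
  unfold il
  by_cases h1 : oneL ≤ l
  · rw [if_pos (Nat.ble_eq_true_of_le h1)]
    simp [val, h1]
  have h1' : l < 14 := Nat.lt_of_not_ge h1
  rw [if_neg (fun h => h1 (Nat.le_of_ble_eq_true h))]
  by_cases h2 : C.invol.getD (Nat.div l 2) false = true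
  · rw [if_pos h2]
    have h := hV.invol _ h2
    rw [show Nat.div l 2 = l / 2 from rfl] at h
    unfold val
    rw [if_neg h1]
    split
    · exact (inv_eq_of_mul_eq_one_right h).symm
    · rw [inv_inv]; exact inv_eq_of_mul_eq_one_right h
  rw [if_neg h2]
  unfold val
  rw [show Nat.mod l 2 = l % 2 from rfl, if_neg h1]
  rcases Nat.mod_two_eq_zero_or_one l with h | h
  · have e : Nat.beq (l % 2) 0 = true := by rw [h]; rfl
    rw [if_pos e, if_pos h, if_neg (by show ¬ 14 ≤ l + 1; omega), if_neg (by omega), show (l + 1) / 2 = l / 2 by omega]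
  · have e : ¬ Nat.beq (l % 2) 0 = true := by rw [h]; simp
    rw [if_neg e, if_neg (by omega : ¬ l % 2 = 0)]
    rw [if_neg (by show ¬ 14 ≤ l - 1; omega), if_pos (by omega), inv_inv, show (l - 1) / 2 = l / 2 by omega]

theorem Edge.symm (hV : Valid C g H) {a l b : ℕ} (h : Edge C g H a l b) : Edge C g H b (il C.invol l) a := by
  unfold Edge at *
  rw [val_il hV]
  have := inv_mem h
  simpa [mul_assoc] using this

theorem seg_edge (hV : Valid C g H) {bound : ℕ}
    (hE : ∀ i < bound, Edge C g H (src C i) (lab C i) (tgt C i)) {s : ℕ} (hs : Nat.div s 2 < bound) :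
    Edge C g H (segA C s) (segL C s) (segB C s) := by
  unfold segA segB segL
  cases Nat.beq (Nat.mod s 2) 0
  · exact (hE _ hs).symm hV
  · exact hE _ hs

/-- A walk composes facts. -/
theorem walk_spec (hV : Valid C g H) {bound : ℕ}
    (hE : ∀ i < bound, Edge C g H (src C i) (lab C i) (tgt C i)) :
    ∀ (ss : List ℕ) (p q : ℕ) (w : List ℕ), walk C bound ss p q = some w →
      rep C g p * wval g w * (rep C g q)⁻¹ ∈ H := by
  intro ss
  induction ss with
  | nil =>
    intro p q w h
    unfold walk at h
    split at h
    · rename_i he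
      cases h
      rw [Nat.eq_of_beq_eq_true he]
      simp [wval]
    · exact absurd h (by simp)
  | cons s ss ih =>
    intro p q w h
    unfold walk at h
    split at h
    swap; · exact absurd h (by simp)
    rename_i hc
    rw [Bool.and_eq_true] at hc
    have hedge := seg_edge hV hE (Nat.lt_of_succ_le (Nat.le_of_ble_eq_true hc.1))
    rw [Nat.eq_of_beq_eq_true hc.2] at hedge
    rcases hw : walk C bound ss (segB C s) q with - | w'
    · rw [hw] at h; exact absurd h (by simp)
    rw [hw] at h
    simp only [Option.some.injEq] at h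
    have hm := mul_mem hedge (ih _ _ _ hw)
    subst h
    by_cases hone : Nat.beq (segL C s) oneL = true
    · rw [if_pos hone]
      rw [Nat.eq_of_beq_eq_true hone] at hm
      simpa [val, mul_assoc] using hm
    · rw [if_neg hone]
      simpa [wval, mul_assoc] using hm

theorem wval_rotate (hV : Valid C g H) (n m : ℕ) :
    wval g ((C.rels.getD n []).drop m ++ (C.rels.getD n []).take m) = 1 := by
  set r := C.rels.getD n []
  have hr : wval g r = 1 := by
    by_cases hn : n < C.rels.length
    · rw [show r = C.rels[n] from List.getD_eq_getElem _ _ hn]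
      exact hV.rels _ (List.getElem_mem hn)
    · rw [show r = [] from List.getD_eq_default _ _ (by omega)]; rfl
  have e : wval g r = wval g (r.take m) * wval g (r.drop m) := by
    simp only [wval, ← List.prod_append, ← List.map_append, List.take_append_drop]
  have e2 : wval g (r.drop m ++ r.take m) = wval g (r.drop m) * wval g (r.take m) := by
    simp [wval]
  rw [e] at hr
  rw [e2, mul_eq_one_iff_eq_inv]
  rw [mul_eq_one_iff_eq_inv] at hr
  rw [hr, inv_inv]

theorem trivW_spec (hV : Valid C g H) : ∀ {w : List ℕ}, trivW C w = true → wval g w = 1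
  | [], _ => rfl
  | [a, b], h => by
    simp only [trivW] at h
    simp [wval, Nat.eq_of_beq_eq_true h, val_il hV]
  | [_], h => by simp [trivW] at h
  | _ :: _ :: _ :: _, h => by simp [trivW] at h

theorem line_spec (hV : Valid C g H) {i : ℕ} (hi : lineOK C i = true)
    (hE : ∀ k < i, Edge C g H (src C k) (lab C k) (tgt C k)) :
    Edge C g H (src C i) (lab C i) (tgt C i) := by
  unfold lineOK at hi
  simp only at hi
  split at hi
  · simp only [Bool.and_eq_true, List.any_eq_true] at hi
    obtain ⟨⟨ha, hb⟩, s, hs, hsl⟩ := hi
    rw [Nat.eq_of_beq_eq_true ha, Nat.eq_of_beq_eq_true hb, ← Nat.eq_of_beq_eq_true hsl]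
    unfold Edge
    have e : rep C g 0 = 1 := rfl
    rw [e, one_mul, inv_one, mul_one]
    exact hV.subs _ hs
  split at hi
  · simp only [Bool.and_eq_true] at hi
    obtain ⟨⟨hab, hp⟩, hl⟩ := hi
    have hab' : src C i < tgt C i := Nat.lt_of_succ_le (Nat.le_of_ble_eq_true hab)
    have hp' := Nat.eq_of_beq_eq_true hp
    unfold Edge
    rw [rep_par C g (n := tgt C i) (by rw [hp']; exact hab'), hp', Nat.eq_of_beq_eq_true hl, mul_inv_cancel]
    exact one_mem H
  split at hi
  · exact absurd hi (by simp)
  rename_i w hw
  have h := walk_spec hV hE _ _ _ _ hw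
  unfold Edge
  have hval : val g (lab C i) * wval g w = 1 := by
    split at hi
    · split at hi
      · rename_i hone
        rw [trivW_spec hV hi, Nat.eq_of_beq_eq_true hone]
        simp [val]
      · rw [eq_of_beq hi]
        simp [wval, val_il hV]
    · have e := eq_of_beq hi
      split at e
      · rename_i hone
        rw [Nat.eq_of_beq_eq_true hone, e, wval_rotate hV]
        simp [val]
      · have := wval_rotate hV (Nat.mod (Nat.div (tab C.just i) 4) 4096) (Nat.mod (Nat.div (tab C.just i) 16384) 64)
        rw [← e] at this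
        simpa [wval] using this
  rw [eq_inv_of_mul_eq_one_left hval]
  have := inv_mem h
  simpa [mul_assoc] using this

theorem edges (hV : Valid C g H) (hok : linesOK C = true) :
    ∀ i < C.nFacts, Edge C g H (src C i) (lab C i) (tgt C i) := by
  intro i
  induction i using Nat.strong_induction_on with
  | _ i ih =>
    intro hi
    exact line_spec hV (List.all_eq_true.1 hok i (List.mem_range.2 hi)) fun k hk => ih k hk (hk.trans hi)

/-- The generated group is covered by `nLive` cosets. -/
theorem card_closure_le [Finite G] (hV : Valid C g H) (hok : linesOK C = true) (hfin : finalOK C = true)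
    (hpos : 0 < C.nLive) :
    Nat.card ↥(Subgroup.closure (g '' {q | q < 7})) ≤ C.nLive * Nat.card H := by
  classical
  have hE := edges hV hok
  simp only [finalOK, Bool.and_eq_true, List.all_eq_true, List.mem_range] at hfin
  obtain ⟨h0, hfin⟩ := hfin
  let S : Set G := {x | ∃ c, c < C.nLive ∧ x * (rep C g (tab C.live c))⁻¹ ∈ H}
  have hstep : ∀ x ∈ S, ∀ q < 7, x * g q ∈ S := by
    rintro x ⟨c, hc, hx⟩ q hq
    obtain ⟨⟨⟨⟨hi, hd⟩, ha⟩, hb⟩, hl⟩ := hfin c hc q hq
    set e := tab C.final (7 * c + q)
    refine ⟨Nat.div e 32768, Nat.lt_of_succ_le (Nat.le_of_ble_eq_true hd), ?_⟩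
    have hedge : Edge C g H (tab C.live c) (2 * q) (tab C.live (Nat.div e 32768)) := by
      rw [← Nat.eq_of_beq_eq_true ha, ← Nat.eq_of_beq_eq_true hb, ← Nat.eq_of_beq_eq_true hl]
      exact seg_edge hV hE (Nat.lt_of_succ_le (Nat.le_of_ble_eq_true hi))
    have hv : val g (2 * q) = g q := by
      unfold val oneL
      rw [if_neg (by omega), if_pos (by omega), Nat.mul_div_cancel_left q (by norm_num)]
    unfold Edge at hedge
    rw [hv] at hedge
    have := mul_mem hx hedge
    simpa [mul_assoc] using this
  have h1 : (1 : G) ∈ S := by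
    exact ⟨0, hpos, by rw [Nat.eq_of_beq_eq_true h0]; simp [rep, repF]⟩
  have hle : (Subgroup.closure (g '' {q | q < 7}) : Set G) ⊆ S := by
    intro x hx
    rw [SetLike.mem_coe, ← Subgroup.mem_toSubmonoid,
      Subgroup.closure_toSubmonoid_of_finite] at hx
    induction hx using Submonoid.closure_induction_right with
    | one => exact h1
    | mul_right y hy s hs ih =>
      obtain ⟨q, hq, rfl⟩ := hs
      exact hstep y ih q hq
  refine le_trans (Nat.card_le_card_of_injective
    (fun x : ↥(Subgroup.closure (g '' {q | q < 7})) =>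
      ((⟨(hle x.2).choose, (hle x.2).choose_spec.1⟩ : Fin C.nLive),
        (⟨(x : G) * (rep C g (tab C.live (hle x.2).choose))⁻¹, (hle x.2).choose_spec.2⟩ : H))) ?_) ?_
  · intro a b h
    simp only [Prod.mk.injEq, Fin.mk.injEq, Subtype.mk.injEq] at h
    obtain ⟨hc, hh⟩ := h
    rw [hc] at hh
    exact Subtype.ext (mul_right_cancel hh)
  · rw [Nat.card_prod, Nat.card_fin]

end Cfsg.Lib.J2Type.Enum
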