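import Cfsg.Agent.Lib.J2Type.AltFive
import Cfsg.Agent.Lib.J2Type.Enum

/-!
# Generators of a group of Hall-Janko type

Two homomorphisms from the alternating group of degree five (a complement in the centralizer of an
involution and the simple factor of the centralizer of the other involution) with a few relations
between them give seven generators; words in them are evaluated in two finite models.
-/

set_option autoImplicit false
set_option linter.unusedSimpArgs false
set_option linter.unusedVariables false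

namespace Cfsg.Lib.J2Type

/-- The permutation `(0 1)(3 4)`. -/
def eZero : A5 := ⟨Equiv.swap 0 1 * Equiv.swap 3 4, Equiv.Perm.mem_alternatingGroup.2 (by decide)⟩
/-- The permutation `(0 2)(1 3)`. -/
def bZero : A5 := ⟨Equiv.swap 0 2 * Equiv.swap 1 3, Equiv.Perm.mem_alternatingGroup.2 (by decide)⟩
/-- The permutation `(1 3)(2 4)`. -/
def uZero : A5 := ⟨Equiv.swap 1 3 * Equiv.swap 2 4, Equiv.Perm.mem_alternatingGroup.2 (by decide)⟩
/-- The permutation `(0 2 1)`. -/
def xZero : A5 := nZero * nZero
/-- The permutation `(0 3)(1 2)`. -/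
def vOne : A5 := nZero * rZero * nZero⁻¹

/-- The image of the last point. -/
def last (a : A5) : Fin 5 := (a : Equiv.Perm (Fin 5)) 4

/-- Elements moving the last point to every point. -/
def sel : Fin 5 → A5
  | 0 => nZero * rZero * eZero
  | 1 => nZero * nZero * rZero * eZero
  | 2 => rZero * eZero
  | 3 => eZero
  | 4 => 1

theorem sel_last : ∀ a : A5, last ((sel (last a))⁻¹ * a) = 4 := by decide +kernel

variable {G : Type*} [Group G]

/-- The five conjugates of `y`. -/
def yv (θ ψ : A5 →* G) (i : Fin 5) : G := θ (sel i) * ψ bZero * (θ (sel i))⁻¹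

/-- The relations between the two embeddings. -/
structure Frame (θ ψ : A5 →* G) : Prop where
  comm_z : ∀ a, Commute (θ a) (ψ rZero)
  comm_u : ∀ a, Commute (θ a) (ψ uZero)
  comm_L : ∀ a, last a = 4 → ∀ l, Commute (θ a) (ψ l)
  anti : ∀ i j, i ≠ j → yv θ ψ i * yv θ ψ j = ψ rZero * (yv θ ψ j * yv θ ψ i)
  prod : yv θ ψ 0 * yv θ ψ 1 * yv θ ψ 2 * yv θ ψ 3 * yv θ ψ 4 = 1

/-- The images in `L`. -/
def lGen : ℕ → A5
  | 0 => rZero
  | 1 => bZero
  | 5 => xZero
  | 6 => uZero
  | _ => 1

/-- The images in the complement. -/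
def aGen : ℕ → A5
  | 2 => rZero
  | 3 => nZero
  | 4 => eZero
  | _ => 1

/-- The seven generators. -/
def gens (θ ψ : A5 →* G) (q : ℕ) : G := ψ (lGen q) * θ (aGen q)

/-- A letter in `L`. -/
def lLet (l : ℕ) : A5 := if l % 2 = 0 then lGen (l / 2) else (lGen (l / 2))⁻¹
/-- A letter in the complement. -/
def aLet (l : ℕ) : A5 := if l % 2 = 0 then aGen (l / 2) else (aGen (l / 2))⁻¹

/-- The complement part of one letter commutes with the `L` part of the other. -/
def pairOK (l l' : ℕ) : Bool :=
  decide (aLet l = 1) || decide (lLet l' = 1) || decide (last (aLet l) = 4) || decide (lLet l' = rZero) ||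
    decide (lLet l' = uZero)

/-- A word which holds in the direct product model. -/
def okLA (w : List ℕ) : Bool :=
  w.all (fun l => Nat.blt l 14) && w.all (fun l => w.all (pairOK l)) &&
    decide ((w.map lLet).prod = 1) && decide ((w.map aLet).prod = 1)

variable {θ ψ : A5 →* G}

theorem Frame.pair (hF : Frame θ ψ) {l l' : ℕ} (h : pairOK l l' = true) :
    Commute (θ (aLet l)) (ψ (lLet l')) := by
  simp only [pairOK, Bool.or_eq_true, decide_eq_true_eq] at h
  rcases h with (((h | h) | h) | h) | h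
  · rw [h, map_one]; exact Commute.one_left _
  · rw [h, map_one]; exact Commute.one_right _
  · exact hF.comm_L _ h _
  · rw [h]; exact hF.comm_z _
  · rw [h]; exact hF.comm_u _

theorem Frame.val_gens (hF : Frame θ ψ) {l : ℕ} (hl : l < 14) :
    Enum.val (gens θ ψ) l = ψ (lLet l) * θ (aLet l) := by
  have hcases : aGen (l / 2) = 1 ∨ lGen (l / 2) = 1 := by
    have : l / 2 < 7 := by omega
    interval_cases (l / 2) <;> simp [aGen, lGen]
  unfold Enum.val Enum.oneL lLet aLet
  rw [if_neg (by omega)]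
  split
  · rfl
  · rcases hcases with h | h <;> simp [gens, h]

theorem Frame.wval_LA (hF : Frame θ ψ) : ∀ w : List ℕ, (∀ l ∈ w, l < 14) →
    (∀ l ∈ w, ∀ l' ∈ w, pairOK l l' = true) →
    Enum.wval (gens θ ψ) w = ψ (w.map lLet).prod * θ (w.map aLet).prod := by
  intro w
  induction w with
  | nil => intro _ _; simp [Enum.wval]
  | cons l w ih =>
    intro hlt hp
    have e := ih (fun x hx => hlt x (List.mem_cons_of_mem _ hx))
      fun x hx x' hx' => hp x (List.mem_cons_of_mem _ hx) x' (List.mem_cons_of_mem _ hx')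
    have hc : Commute (θ (aLet l)) (ψ (w.map lLet).prod) := by
      rw [map_list_prod, List.map_map]
      refine Commute.list_prod_right _ _ fun x hx => ?_
      obtain ⟨l', hl', rfl⟩ := List.mem_map.1 hx
      exact hF.pair (hp l (List.mem_cons_self ..) l' (List.mem_cons_of_mem _ hl'))
    unfold Enum.wval at e ⊢
    rw [List.map_cons, List.prod_cons, e, hF.val_gens (hlt l (List.mem_cons_self ..))]
    simp only [List.map_cons, List.prod_cons, map_mul]
    simp only [mul_assoc]
    rw [← mul_assoc (θ (aLet l)), hc.eq, mul_assoc]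

theorem Frame.rel_LA (hF : Frame θ ψ) {w : List ℕ} (h : okLA w = true) : Enum.wval (gens θ ψ) w = 1 := by
  simp only [okLA, Bool.and_eq_true, List.all_eq_true, decide_eq_true_eq] at h
  obtain ⟨⟨⟨h1, h2⟩, h3⟩, h4⟩ := h
  rw [hF.wval_LA w (fun l hl => Nat.lt_of_succ_le (Nat.le_of_ble_eq_true (h1 l hl))) h2, h3, h4,
    map_one, map_one, one_mul]

/-- A monomial times an element of the complement, up to the sign. -/
abbrev St := Bool × (Bool × Bool × Bool × Bool × Bool) × A5

/-- A power of `z`. -/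
def zp (ψ : A5 →* G) (b : Bool) : G := if b then ψ rZero else 1

/-- A factor of a monomial. -/
def fac (θ ψ : A5 →* G) (i : Fin 5) (b : Bool) : G := if b then yv θ ψ i else 1

/-- A monomial. -/
def mono (θ ψ : A5 →* G) : Bool × Bool × Bool × Bool × Bool → G
  | (b0, b1, b2, b3, b4) =>
    fac θ ψ 0 b0 * (fac θ ψ 1 b1 * (fac θ ψ 2 b2 * (fac θ ψ 3 b3 * fac θ ψ 4 b4)))

/-- The element of a state. -/
def stVal (θ ψ : A5 →* G) (s : St) : G := zp ψ s.1 * mono θ ψ s.2.1 * θ s.2.2

/-- Multiply a monomial by a factor on the right. -/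
def insY : Fin 5 → Bool × Bool × Bool × Bool × Bool → Bool × (Bool × Bool × Bool × Bool × Bool)
  | 0, (b0, b1, b2, b3, b4) => (xor b1 (xor b2 (xor b3 b4)), (!b0, b1, b2, b3, b4))
  | 1, (b0, b1, b2, b3, b4) => (xor b2 (xor b3 b4), (b0, !b1, b2, b3, b4))
  | 2, (b0, b1, b2, b3, b4) => (xor b3 b4, (b0, b1, !b2, b3, b4))
  | 3, (b0, b1, b2, b3, b4) => (b4, (b0, b1, b2, !b3, b4))
  | 4, (b0, b1, b2, b3, b4) => (false, (b0, b1, b2, b3, !b4))

/-- Multiply a state by a letter on the right. -/
def stepSt (s : St) (l : ℕ) : St :=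
  if l / 2 = 0 then (!s.1, s.2.1, s.2.2)
  else if l / 2 = 1 then (xor s.1 (insY (last s.2.2) s.2.1).1, (insY (last s.2.2) s.2.1).2, s.2.2)
  else (s.1, s.2.1, s.2.2 * aLet l)

/-- The starting state. -/
def st0 : St := (false, (false, false, false, false, false), 1)

/-- The state of a word. -/
def evalSt (w : List ℕ) : St := w.foldl stepSt st0

/-- A word which holds in the model of the centralizer. -/
def okCz (w : List ℕ) : Bool :=
  w.all (fun l => Nat.blt l 10) &&
    (decide (evalSt w = st0) || decide (evalSt w = (false, (true, true, true, true, true), 1)))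

theorem Frame.z_sq (hF : Frame θ ψ) : ψ rZero * ψ rZero = 1 := by
  have _ := hF
  rw [← map_mul, show rZero * rZero = (1 : A5) by decide +kernel, map_one]

theorem Frame.yv_sq (hF : Frame θ ψ) (i : Fin 5) : yv θ ψ i * yv θ ψ i = 1 := by
  have _ := hF
  unfold yv
  rw [show θ (sel i) * ψ bZero * (θ (sel i))⁻¹ * (θ (sel i) * ψ bZero * (θ (sel i))⁻¹) =
    θ (sel i) * (ψ bZero * ψ bZero) * (θ (sel i))⁻¹ by group, ← map_mul,
    show bZero * bZero = (1 : A5) by decide +kernel, map_one, mul_one, mul_inv_cancel]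

theorem Frame.z_comm_y (hF : Frame θ ψ) (i : Fin 5) : Commute (ψ rZero) (yv θ ψ i) := by
  refine ((hF.comm_z _).symm.mul_right ?_).mul_right (hF.comm_z _).symm.inv_right
  show ψ rZero * ψ bZero = ψ bZero * ψ rZero
  rw [← map_mul, ← map_mul, show rZero * bZero = bZero * rZero by decide +kernel]

theorem Frame.conj_y (hF : Frame θ ψ) (a : A5) : θ a * ψ bZero = yv θ ψ (last a) * θ a := by
  have h := hF.comm_L _ (sel_last a) bZero
  rw [map_mul, map_inv] at h
  unfold yv
  calc θ a * ψ bZero = θ (sel (last a)) * ((θ (sel (last a)))⁻¹ * θ a * ψ bZero) := by group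
    _ = θ (sel (last a)) * (ψ bZero * ((θ (sel (last a)))⁻¹ * θ a)) := by rw [h.eq]
    _ = θ (sel (last a)) * ψ bZero * (θ (sel (last a)))⁻¹ * θ a := by group

theorem Frame.mono_mul (hF : Frame θ ψ) (i : Fin 5) (m : Bool × Bool × Bool × Bool × Bool) :
    mono θ ψ m * yv θ ψ i = zp ψ (insY i m).1 * mono θ ψ (insY i m).2 := by
  obtain ⟨b0, b1, b2, b3, b4⟩ := m
  set Y := yv θ ψ with hY
  have ha : ∀ i j, j < i → Y i * Y j = ψ rZero * (Y j * Y i) := fun i j h => hF.anti i j h.ne'
  have ha' : ∀ i j t, j < i → Y i * (Y j * t) = ψ rZero * (Y j * (Y i * t)) := fun i j t h => by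
    rw [← mul_assoc, ha i j h, mul_assoc, mul_assoc]
  have hz : ∀ i, Y i * ψ rZero = ψ rZero * Y i := fun i => (hF.z_comm_y i).eq.symm
  have hz' : ∀ i t, Y i * (ψ rZero * t) = ψ rZero * (Y i * t) := fun i t => by
    rw [← mul_assoc, hz i, mul_assoc]
  have hs : ∀ i, Y i * Y i = 1 := hF.yv_sq
  have hs' : ∀ i t, Y i * (Y i * t) = t := fun i t => by rw [← mul_assoc, hs i, one_mul]
  have hzz : ψ rZero * ψ rZero = 1 := hF.z_sq
  have hzz' : ∀ t, ψ rZero * (ψ rZero * t) = t := fun t => by rw [← mul_assoc, hzz, one_mul]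
  have h10 := ha 1 0 (by decide); have h20 := ha 2 0 (by decide); have h30 := ha 3 0 (by decide)
  have h40 := ha 4 0 (by decide); have h21 := ha 2 1 (by decide); have h31 := ha 3 1 (by decide)
  have h41 := ha 4 1 (by decide); have h32 := ha 3 2 (by decide); have h42 := ha 4 2 (by decide)
  have h43 := ha 4 3 (by decide)
  have h10' := fun t => ha' 1 0 t (by decide); have h20' := fun t => ha' 2 0 t (by decide)
  have h30' := fun t => ha' 3 0 t (by decide); have h40' := fun t => ha' 4 0 t (by decide)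
  have h21' := fun t => ha' 2 1 t (by decide); have h31' := fun t => ha' 3 1 t (by decide)
  have h41' := fun t => ha' 4 1 t (by decide); have h32' := fun t => ha' 3 2 t (by decide)
  have h42' := fun t => ha' 4 2 t (by decide); have h43' := fun t => ha' 4 3 t (by decide)
  clear ha ha'
  fin_cases i <;> cases b0 <;> cases b1 <;> cases b2 <;> cases b3 <;> cases b4 <;>
    simp [mono, fac, zp, insY, ← hY, mul_assoc, hz, hz', hs, hs', hzz, hzz', h10, h20, h30, h40, h21, h31, h41,
      h32, h42, h43, h10', h20', h30', h40', h21', h31', h41', h32', h42', h43']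

theorem Frame.zp_xor (hF : Frame θ ψ) (a b : Bool) : zp ψ a * zp ψ b = zp ψ (xor a b) := by
  cases a <;> cases b <;> simp [zp, hF.z_sq]

theorem Frame.zp_comm_mono (hF : Frame θ ψ) (b : Bool) (m : Bool × Bool × Bool × Bool × Bool) :
    Commute (zp ψ b) (mono θ ψ m) := by
  have h : ∀ i c, Commute (zp ψ b) (fac θ ψ i c) := fun i c => by
    cases b <;> cases c <;> simp [zp, fac, hF.z_comm_y i]
  obtain ⟨b0, b1, b2, b3, b4⟩ := m
  exact (h _ _).mul_right ((h _ _).mul_right ((h _ _).mul_right ((h _ _).mul_right (h _ _))))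

theorem Frame.step_spec (hF : Frame θ ψ) (s : St) {l : ℕ} (hl : l < 10) :
    stVal θ ψ (stepSt s l) = stVal θ ψ s * Enum.val (gens θ ψ) l := by
  obtain ⟨ε, m, a⟩ := s
  rw [hF.val_gens (by omega)]
  unfold stepSt
  dsimp only
  split
  · rename_i h
    have e1 : lLet l = rZero := by
      unfold lLet
      rw [h]
      split
      · rfl
      · exact show rZero⁻¹ = rZero by decide +kernel
    have e2 : aLet l = 1 := by unfold aLet; rw [h]; simp [aGen]
    rw [e1, e2, map_one, mul_one]
    show zp ψ (!ε) * mono θ ψ m * θ a = zp ψ ε * mono θ ψ m * θ a * ψ rZero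
    have e3 : zp ψ (!ε) = zp ψ true * zp ψ ε := by rw [hF.zp_xor]; simp
    rw [e3]
    calc zp ψ true * zp ψ ε * mono θ ψ m * θ a = zp ψ true * (zp ψ ε * mono θ ψ m) * θ a := by
          simp only [mul_assoc]
      _ = zp ψ ε * mono θ ψ m * (ψ rZero * θ a) := by
          rw [((show Commute (zp ψ true) (zp ψ ε) by cases ε <;> simp [zp]).mul_right (hF.zp_comm_mono true m)).eq]
          simp only [zp, if_true, mul_assoc]
      _ = zp ψ ε * mono θ ψ m * θ a * ψ rZero := by rw [← (hF.comm_z a).eq]; simp only [mul_assoc]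
  split
  · rename_i _ h
    have e1 : lLet l = bZero := by
      unfold lLet
      rw [h]
      split
      · rfl
      · exact show bZero⁻¹ = bZero by decide +kernel
    have e2 : aLet l = 1 := by unfold aLet; rw [h]; simp [aGen]
    rw [e1, e2, map_one, mul_one]
    show zp ψ _ * mono θ ψ _ * θ a = zp ψ ε * mono θ ψ m * θ a * ψ bZero
    rw [mul_assoc _ (θ a), hF.conj_y a, ← mul_assoc _ (yv θ ψ _), mul_assoc (zp ψ ε), hF.mono_mul,
      ← mul_assoc, hF.zp_xor]
  · rename_i h h'
    have e1 : lLet l = 1 := by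
      have : l / 2 < 5 := by omega
      unfold lLet
      interval_cases (l / 2) <;> simp_all [lGen]
    rw [e1, map_one, one_mul]
    show zp ψ ε * mono θ ψ m * θ (a * aLet l) = zp ψ ε * mono θ ψ m * θ a * θ (aLet l)
    rw [map_mul]; simp only [mul_assoc]

theorem Frame.wval_Cz (hF : Frame θ ψ) : ∀ (w : List ℕ) (s : St), (∀ l ∈ w, l < 10) →
    stVal θ ψ (w.foldl stepSt s) = stVal θ ψ s * Enum.wval (gens θ ψ) w := by
  intro w
  induction w with
  | nil => intro s _; simp [Enum.wval]
  | cons l w ih =>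
    intro s h
    rw [List.foldl_cons, ih _ fun x hx => h x (List.mem_cons_of_mem _ hx), hF.step_spec s (h l (List.mem_cons_self ..)),
      mul_assoc]
    simp [Enum.wval]

theorem Frame.stVal_full (hF : Frame θ ψ) : stVal θ ψ (false, (true, true, true, true, true), 1) = 1 := by
  have := hF.prod
  simpa [stVal, zp, mono, fac, mul_assoc] using this

theorem Frame.rel_Cz (hF : Frame θ ψ) {w : List ℕ} (h : okCz w = true) : Enum.wval (gens θ ψ) w = 1 := by
  simp only [okCz, Bool.and_eq_true, List.all_eq_true, Bool.or_eq_true, decide_eq_true_eq] at h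
  have e := hF.wval_Cz w st0 fun l hl => Nat.lt_of_succ_le (Nat.le_of_ble_eq_true (h.1 l hl))
  have h0 : stVal θ ψ st0 = 1 := by simp [stVal, st0, zp, mono, fac]
  rw [h0, one_mul] at e
  rw [← e]
  rcases h.2 with h2 | h2
  · show stVal θ ψ (evalSt w) = 1
    rw [h2, h0]
  · show stVal θ ψ (evalSt w) = 1
    rw [h2, hF.stVal_full]

end Cfsg.Lib.J2Type
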