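import Cfsg.Agent.Lib.J2Type.Five
import Cfsg.Agent.Lib.J2Type.Model

/-!
# Two copies of the alternating group of degree five

In a group of Hall-Janko type the centralizer of an element of order five of `L` gives a complement
in the centralizer of `z` which commutes with `z` and with a dihedral group of order ten of `L`.
-/

set_option autoImplicit false
set_option linter.style.haveILetI false

namespace Cfsg.Lib.J2Type

open Cfsg Subgroup
open Cfsg.Lib.Extra (Ctx nci)

/-- The five-cycle inverted by `rZero`. -/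
def hZero : A5 := rZero * uZero
/-- The four group fixing the last point. -/
def kList : List A5 := [1, rZero, vOne, rZero * vOne]

theorem k_of_commute : ∀ p : A5, p * p = 1 → p * rZero = rZero * p → p ∈ kList := by decide +kernel
theorem k_of_conj : ∀ a : A5, last a = 4 → a * rZero * a⁻¹ ∈ kList := by decide +kernel
theorem k_stab : ∀ p ∈ kList, last p = 4 := by decide +kernel
theorem commute_rZero : ∀ p : A5, p * rZero = rZero * p → p ∈ kList := by decide +kernel
theorem rigid_rh : ∀ p : A5, p * rZero = rZero * p → p * hZero = hZero * p → p = 1 := by decide +kernel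
theorem hZero_five : hZero ^ 5 = 1 ∧ hZero ≠ 1 ∧ rZero * hZero * rZero⁻¹ = hZero⁻¹ := by decide +kernel
theorem rZero_two : rZero * rZero = 1 ∧ rZero ≠ 1 := by decide +kernel
theorem uZero_eq : uZero = rZero * hZero := by decide +kernel

variable {G : Type*} [Group G] [Finite G] {z t : G} {Q : Subgroup G}

omit [Finite G] in
/-- A homomorphism determined modulo a five-group by lifts commuting with an involution. -/
theorem exists_lift {f z : G} (hf : orderOf f = 5) (hzf : z * f * z⁻¹ = f⁻¹) (hz2 : z * z = 1)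
    (ψ : centralizer ({f} : Set G) →* A5) (hsur : Function.Surjective ψ)
    (hker : ∀ x, ψ x = 1 ↔ (x : G) ∈ zpowers f)
    {r n : A5} (hr : r * r = 1) (hr1 : r ≠ 1) (hn : n ^ 3 = 1) (hne : n * r * n⁻¹ ≠ r)
    (hc : n * r * n⁻¹ * r = r * (n * r * n⁻¹))
    {a b : centralizer ({f} : Set G)} (ha : ψ a = r) (hb : ψ b = n) (haz : Commute (a : G) z)
    (hbz : Commute (b : G) z) :
    ∃ θ : A5 →* G, (∀ p, Commute (θ p) z ∧ Commute (θ p) f) ∧
      ∀ x : centralizer ({f} : Set G), Commute (x : G) z → θ (ψ x) = x := by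
  classical
  have hmC : ∀ {x}, x ∈ (centralizer ({f} : Set G)) ↔ Commute x f := fun {x} => mem_centralizer_singleton_iff
  have hzi : z⁻¹ = z := inv_eq_of_mul_eq_one_right hz2
  have hstab : ∀ x ∈ (centralizer ({f} : Set G)), z * x * z⁻¹ ∈ (centralizer ({f} : Set G)) := fun x hx => hmC.2 (by
    have h1 : Commute (z * x * z⁻¹) (z * f⁻¹ * z⁻¹) := (Commute.conj_iff z).2 (hmC.1 hx).inv_right
    have h2 : z * f⁻¹ * z⁻¹ = f := by
      rw [show z * f⁻¹ * z⁻¹ = (z * f * z⁻¹)⁻¹ by group, hzf, inv_inv]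
    rwa [h2] at h1)
  let χ : (centralizer ({f} : Set G)) →* A5 :=
    MonoidHom.mk' (fun x => ψ ⟨z * x * z⁻¹, hstab x x.2⟩) (fun x y => by
      rw [← map_mul]
      exact congrArg ψ (Subtype.ext (show z * ((x : G) * y) * z⁻¹ = z * x * z⁻¹ * (z * y * z⁻¹) by group)))
  have hzpow : ∀ x ∈ zpowers f, z * x * z⁻¹ ∈ zpowers f := fun x hx => by
    obtain ⟨i, rfl⟩ := mem_zpowers_iff.1 hx
    rw [← conj_zpow, hzf, inv_zpow]
    exact inv_mem (zpow_mem (mem_zpowers f) i)
  have hkk : ψ.ker ≤ χ.ker := fun x hx => (hker _).2 (hzpow x ((hker x).1 hx))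
  let σ : A5 →* A5 := ψ.liftOfRightInverse (Function.surjInv hsur) (Function.rightInverse_surjInv hsur) ⟨χ, hkk⟩
  have hσ : ∀ x, σ (ψ x) = χ x := fun x =>
    ψ.liftOfRightInverse_comp_apply (Function.surjInv hsur) (Function.rightInverse_surjInv hsur) ⟨χ, hkk⟩ x
  have hzz : ∀ x : G, z * (z * x * z⁻¹) * z⁻¹ = x := fun x => by
    rw [hzi]; simp only [mul_assoc, hz2, mul_one]; rw [← mul_assoc, hz2, one_mul]
  have hσσ : ∀ p, σ (σ p) = p := fun p => by
    obtain ⟨x, rfl⟩ := hsur p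
    rw [hσ, show χ x = ψ ⟨z * x * z⁻¹, hstab x x.2⟩ from rfl, hσ]
    exact congrArg ψ (Subtype.ext (hzz x))
  let σe : A5 ≃* A5 := { toFun := σ, invFun := σ, left_inv := hσσ, right_inv := hσσ, map_mul' := map_mul σ }
  have hfix : ∀ w : (centralizer ({f} : Set G)), Commute (w : G) z → χ w = ψ w := fun w hw =>
    congrArg ψ (Subtype.ext (show z * (w : G) * z⁻¹ = w by rw [← hw.eq, mul_inv_cancel_right]))
  have htriv := a5_aut_trivial σe hr hr1 hn hne hc (show σ r = r by rw [← ha, hσ, hfix a haz])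
    (show σ n = n by rw [← hb, hσ, hfix b hbz])
  have hlift : ∀ p, ∃ x : (centralizer ({f} : Set G)), Commute (x : G) z ∧ ψ x = p := fun p => by
    obtain ⟨x, rfl⟩ := hsur p
    have h1 : ψ (⟨z * x * z⁻¹, hstab x x.2⟩ * x⁻¹) = 1 := by
      rw [map_mul, map_inv, mul_inv_eq_one]
      exact (hσ x).symm.trans (htriv _)
    obtain ⟨i, hi⟩ := mem_zpowers_iff.1 ((hker _).1 h1)
    have hxf : Commute (x : G) f := hmC.1 x.2
    have hzx : z * x * z⁻¹ = f ^ i * x := by rw [hi]; simp [mul_assoc]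
    let w : (centralizer ({f} : Set G)) := ⟨f ^ (3 * i), hmC.2 ((Commute.refl f).zpow_left _)⟩
    refine ⟨x * w, ?_, by rw [map_mul, (hker w).2 (zpow_mem (mem_zpowers f) _), mul_one]⟩
    have h5 : f ^ (5 * i) = 1 := by
      rw [zpow_mul, show (5 : ℤ) = ((5 : ℕ) : ℤ) from rfl, zpow_natCast, ← hf, pow_orderOf_eq_one, one_zpow]
    have key : z * ((x : G) * f ^ (3 * i)) * z⁻¹ = x * f ^ (3 * i) := by
      calc z * ((x : G) * f ^ (3 * i)) * z⁻¹ = (z * x * z⁻¹) * (z * f * z⁻¹) ^ (3 * i) := by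
            rw [conj_zpow]; group
        _ = x * (f ^ i * (f ^ (3 * i))⁻¹) := by
            rw [hzx, hzf, inv_zpow, ← (hxf.zpow_right i).eq, mul_assoc]
        _ = x * f ^ (3 * i) := by
            congr 1
            rw [mul_inv_eq_iff_eq_mul, ← zpow_add, show 3 * i + 3 * i = 5 * i + i by ring, zpow_add, h5, one_mul]
    exact (mul_inv_eq_iff_eq_mul.1 key).symm
  have huniq : ∀ x y : (centralizer ({f} : Set G)), Commute (x : G) z → Commute (y : G) z → ψ x = ψ y → x = y := fun x y hx hy h => by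
    obtain ⟨i, hi⟩ := mem_zpowers_iff.1 ((hker (x * y⁻¹)).1 (by rw [map_mul, map_inv, h, mul_inv_cancel]))
    have hc' : Commute (f ^ i) z := by rw [hi]; exact hx.mul_left hy.inv_left
    have h2 : f ^ i = (f ^ i)⁻¹ := by
      calc f ^ i = z * f ^ i * z⁻¹ := by rw [← hc'.eq, mul_inv_cancel_right]
        _ = (f ^ i)⁻¹ := by rw [← conj_zpow, hzf, inv_zpow]
    have h3 : f ^ (i + i) = 1 := by rw [zpow_add]; exact eq_inv_iff_mul_eq_one.1 h2
    rw [← orderOf_dvd_iff_zpow_eq_one, hf] at h3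
    have h4 : f ^ i = 1 := by
      rw [← orderOf_dvd_iff_zpow_eq_one, hf]; omega
    rw [h4] at hi
    exact Subtype.ext (mul_inv_eq_one.1 hi.symm)
  choose L hL hLψ using hlift
  refine ⟨(centralizer ({f} : Set G)).subtype.comp (MonoidHom.mk' L fun p q => huniq _ _ (hL _) ((hL p).mul_left (hL q))
    (by rw [map_mul, hLψ, hLψ, hLψ])), fun p => ⟨hL p, hmC.1 (L p).2⟩, fun x hx => ?_⟩
  exact congrArg Subtype.val (huniq _ x (hL _) hx (hLψ _))

/-- The data of the two copies. -/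
structure Embed (z t : G) (V L : Subgroup G) (θ ψ : A5 →* G) : Prop where
  psi_r : ψ rZero = z
  theta_r : θ rZero = t
  psi_inj : Function.Injective ψ
  theta_inj : Function.Injective θ
  psi_range : ψ.range = L
  V_le : ∀ v ∈ V, ∃ p ∈ kList, θ p = v
  comm_z : ∀ a, Commute (θ a) z
  comm_u : ∀ a, Commute (θ a) (ψ uZero)
  comm_L : ∀ a, last a = 4 → ∀ l, Commute (θ a) (ψ l)

variable (hS : Setup z Q) (ht : Outer z Q t) (hnc : ¬ IsConj z t) {V L : Subgroup G} (hB : Big z t V L)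
include hS ht hnc hB

theorem Setup.exists_embed : ∃ θ ψ : A5 →* G, Embed z t V L θ ψ := by
  classical
  obtain ⟨eL⟩ := hB.iso
  have hz2 : z * z = 1 := hS.ctx.sq_z
  obtain ⟨γ, hγ⟩ := a5_invol_conj rZero (eL ⟨z, hB.z_mem⟩) rZero_two.1 rZero_two.2
    (by rw [← map_mul, ← map_one eL]; exact congrArg eL (Subtype.ext hz2))
    (fun h => hS.ctx.ne_one (congrArg Subtype.val (eL.map_eq_one_iff.1 h)))
  let ψ : A5 →* G := L.subtype.comp (eL.symm.toMonoidHom.comp (MulAut.conj γ).toMonoidHom)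
  have hψi : Function.Injective ψ :=
    L.subtype_injective.comp (eL.symm.injective.comp (MulAut.conj γ).injective)
  have hψr : ψ rZero = z := by simp [ψ, MulAut.conj_apply, hγ]
  have hψrange : ψ.range = L := by
    ext x
    refine ⟨fun ⟨p, hp⟩ => hp ▸ (eL.symm (MulAut.conj γ p)).2, fun hx => ⟨(MulAut.conj γ).symm (eL ⟨x, hx⟩), ?_⟩⟩
    simp [ψ]
    group
  have hψL : ∀ p, ψ p ∈ L := fun p => hψrange ▸ ⟨p, rfl⟩
  obtain ⟨hh5, hh1, hhr⟩ := hZero_five
  haveI : Fact (Nat.Prime 5) := ⟨by norm_num⟩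
  have hf : orderOf (ψ hZero) = 5 := orderOf_eq_prime (by rw [← map_pow, hh5, map_one])
    (fun h => hh1 (hψi (h.trans (map_one ψ).symm)))
  have hzf : z * ψ hZero * z⁻¹ = (ψ hZero)⁻¹ := by
    rw [← hψr, ← map_inv, ← map_mul, ← map_mul, hhr, map_inv]
  have h5L := hS.five_L ht hnc hB (hψL hZero) hf
  set C := centralizer ({ψ hZero} : Set G)
  obtain ⟨ψf, hsur, hker, -⟩ := h5L
  have hmC : ∀ {x}, x ∈ C ↔ Commute x (ψ hZero) := fun {x} => mem_centralizer_singleton_iff
  obtain ⟨A, hAN, hVA, hA12, hAL, -, -⟩ := hB.exists_A4 ht.1 hnc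
  haveI : Fact (Nat.Prime 3) := ⟨by norm_num⟩
  obtain ⟨d', hd'⟩ := exists_prime_orderOf_dvd_card' (G := A) 3 (by rw [hA12]; norm_num)
  have hd3 : (d' : G) ^ 3 = 1 := by rw [← SubgroupClass.coe_pow, ← hd', pow_orderOf_eq_one]; rfl
  have hd1 : (d' : G) ≠ 1 := fun h => by
    rw [show d' = 1 from Subtype.ext h, orderOf_one] at hd'; norm_num at hd'
  set d : G := (d' : G)
  have hdL : ∀ x ∈ L, Commute d x := hAL d d'.2
  have hdC : d ∈ C := hmC.2 (hdL _ (hψL _))
  have hVC : ∀ v ∈ V, v ∈ C := fun v hv => hmC.2 (hB.comm v hv _ (hψL _))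
  have ht2 := mul_self_of_order_two ht.1
  -- injectivity on elements commuting with `z`
  have hinj : ∀ x : C, Commute (x : G) z → ψf x = 1 → (x : G) = 1 := fun x hx h => by
    obtain ⟨i, hi⟩ := mem_zpowers_iff.1 ((hker x).1 h)
    rw [← hi] at hx ⊢
    have h2 : ψ hZero ^ i = (ψ hZero ^ i)⁻¹ := by
      calc ψ hZero ^ i = z * ψ hZero ^ i * z⁻¹ := by rw [← hx.eq, mul_inv_cancel_right]
        _ = (ψ hZero ^ i)⁻¹ := by rw [← conj_zpow, hzf, inv_zpow]
    have h3 : ψ hZero ^ (i + i) = 1 := by rw [zpow_add]; exact eq_inv_iff_mul_eq_one.1 h2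
    rw [← orderOf_dvd_iff_zpow_eq_one, hf] at h3
    rw [← orderOf_dvd_iff_zpow_eq_one, hf]; omega
  have htz : Commute t z := ht.2.1
  have hdz : Commute d z := hdL z hB.z_mem
  have hdt : d * t * d⁻¹ ∈ V := (mem_normalizer_iff.1 (hAN d'.2) t).1 hB.t_mem
  have hdtne : d * t * d⁻¹ ≠ t := fun h => by
    have hdM : d ∈ centralizer ({t} : Set G) := mem_centralizer_singleton_iff.2 (mul_inv_eq_iff_eq_mul.1 h)
    obtain ⟨u, hu, l, hl, hul⟩ := hB.dec d hdM
    have hl1 : l = 1 := hB.center_L hl fun y hy => by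
      rw [show l = u⁻¹ * d by rw [hul]; group]
      exact ((hB.comm u hu y hy).symm.inv_right).mul_right (hdL y hy).symm
    rw [hl1, mul_one] at hul
    apply hd1
    calc d = d ^ 3 * (d * d)⁻¹ := by group
      _ = 1 := by rw [hd3, hul, hB.sq_V u hu, inv_one, mul_one]
  let t' : C := ⟨t, hVC t hB.t_mem⟩
  let dd : C := ⟨d, hdC⟩
  have hr : ψf t' * ψf t' = 1 := by
    rw [← map_mul, ← map_one ψf]; exact congrArg ψf (Subtype.ext ht2.1)
  have hr1 : ψf t' ≠ 1 := fun h => ht2.2 (hinj t' htz h)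
  have hn : ψf dd ^ 3 = 1 := by rw [← map_pow, ← map_one ψf]; exact congrArg ψf (Subtype.ext hd3)
  have hne : ψf dd * ψf t' * (ψf dd)⁻¹ ≠ ψf t' := fun h => hdtne (mul_inv_eq_one.1 (hinj (dd * t' * dd⁻¹ * t'⁻¹)
    (((hdz.mul_left htz).mul_left hdz.inv_left).mul_left htz.inv_left)
    (by rw [map_mul, map_inv, mul_inv_eq_one, map_mul, map_mul, map_inv, h])))
  have hc : ψf dd * ψf t' * (ψf dd)⁻¹ * ψf t' = ψf t' * (ψf dd * ψf t' * (ψf dd)⁻¹) := by
    simp only [← map_inv, ← map_mul]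
    exact congrArg ψf (Subtype.ext (show d * t * d⁻¹ * t = t * (d * t * d⁻¹) from
      (mem_centralizer_singleton_iff.1 (hB.V_le hdt))))
  obtain ⟨θ0, hθ0, hθ0'⟩ := exists_lift hf hzf hz2 ψf hsur hker hr hr1 hn hne hc (a := t') (b := dd) rfl rfl htz hdz
  obtain ⟨γ2, hγ2⟩ := a5_invol_conj rZero (ψf t') rZero_two.1 rZero_two.2 hr hr1
  let θ : A5 →* G := θ0.comp (MulAut.conj γ2).toMonoidHom
  have hθr : θ rZero = t := by
    show θ0 (γ2 * rZero * γ2⁻¹) = t
    rw [hγ2]
    exact hθ0' t' htz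
  have hθi : Function.Injective θ := by
    refine Function.Injective.comp (g := θ0) ((injective_iff_map_eq_one θ0).2 fun p h => ?_)
      (MulAut.conj γ2).injective
    haveI : IsSimpleGroup A5 := alternatingGroup.isSimpleGroup (by simp)
    rcases (MonoidHom.normal_ker θ0).eq_bot_or_eq_top with h' | h'
    · rw [← mem_bot, ← h']; exact MonoidHom.mem_ker.2 h
    · exfalso
      have := MonoidHom.mem_ker.1 (h' ▸ mem_top (ψf t') : ψf t' ∈ θ0.ker)
      rw [hθ0' t' htz] at this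
      exact ht2.2 this
  have hθz : ∀ a, Commute (θ a) z := fun a => (hθ0 _).1
  have hθf : ∀ a, Commute (θ a) (ψ hZero) := fun a => (hθ0 _).2
  have hθu : ∀ a, Commute (θ a) (ψ uZero) := fun a => by
    rw [uZero_eq, map_mul, hψr]; exact (hθz a).mul_right (hθf a)
  have hVk : ∀ v ∈ V, ∃ p ∈ kList, θ p = v := fun v hv => by
    let p := (MulAut.conj γ2).symm (ψf ⟨v, hVC v hv⟩)
    have hp : θ p = v := by
      show θ0 (MulAut.conj γ2 ((MulAut.conj γ2).symm _)) = v
      rw [MulEquiv.apply_symm_apply]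
      exact hθ0' ⟨v, hVC v hv⟩ (hB.V_z v hv)
    refine ⟨p, k_of_commute p (hθi ?_) (hθi ?_), hp⟩
    · rw [map_mul, hp, hB.sq_V v hv, map_one]
    · rw [map_mul, map_mul, hp, hθr]; exact mem_centralizer_singleton_iff.1 (hB.V_le hv)
  have hkV : ∀ p ∈ kList, θ p ∈ V := by
    intro p hp
    let F : V → {q : A5 // q ∈ kList} := fun v => ⟨(hVk v v.2).choose, (hVk v v.2).choose_spec.1⟩
    have hF : Function.Injective F := fun a b h => Subtype.ext (by
      have e : (hVk a a.2).choose = (hVk b b.2).choose := congrArg Subtype.val h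
      rw [← (hVk a a.2).choose_spec.2, ← (hVk b b.2).choose_spec.2, e])
    have hbij : Function.Bijective F := (Nat.bijective_iff_injective_and_card F).2 ⟨hF, by
      rw [hB.card_V, Nat.card_eq_fintype_card]; decide +kernel⟩
    obtain ⟨v, hv⟩ := hbij.2 ⟨p, hp⟩
    rw [← show (hVk v v.2).choose = p from congrArg Subtype.val hv, (hVk v v.2).choose_spec.2]
    exact v.2
  refine ⟨θ, ψ, hψr, hθr, hψi, hθi, hψrange, hVk, hθz, hθu, fun a ha l => ?_⟩
  have hN : θ a ∈ normalizer (V : Set G) := hB.mem_normalizer_of_conj ht.1 hnc (by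
    rw [← hθr, ← map_inv, ← map_mul, ← map_mul]; exact hkV _ (k_of_conj a ha))
  obtain ⟨m, hm, hml⟩ := hB.exists_inner ht.1 hnc hN
  obtain ⟨p, rfl⟩ : ∃ p, ψ p = m := MonoidHom.mem_range.1 (by rw [hψrange]; exact hm)
  have hfix : ∀ q, Commute (θ a) (ψ q) → p * q = q * p := fun q hq => by
    have h := hml (ψ q) (hψL q)
    rw [hq.eq, mul_inv_cancel_right] at h
    refine hψi ?_
    rw [map_mul, map_mul]
    exact (eq_mul_inv_iff_mul_eq.1 h).symm
  have hp : p = 1 := rigid_rh p (hfix _ (by rw [hψr]; exact hθz a)) (hfix _ (hθf a))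
  have h := hml (ψ l) (hψL l)
  rw [hp, map_one, one_mul, inv_one, mul_one] at h
  exact mul_inv_eq_iff_eq_mul.1 h

end Cfsg.Lib.J2Type
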