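import Cfsg.Agent.Lib.J2Type.Involution
import Cfsg.Agent.S0213

/-!
# The order formula
-/

set_option autoImplicit false
set_option linter.style.haveILetI false
set_option linter.unusedSectionVars false

namespace Cfsg.Lib.J2Type

open Cfsg Subgroup
open Cfsg.Lib.Extra (Ctx nci)

variable {G : Type*} [Group G] [Finite G] {z t : G} {Q : Subgroup G}

set_option maxRecDepth 100000 in
set_option maxHeartbeats 2000000 in
theorem a5_odd_pairs : ((Finset.univ.filter fun a : A5 => a * a = 1 ∧ a ≠ 1).sum fun a =>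
    (Finset.univ.filter fun b : A5 => b * b = 1 ∧ (a * b) ^ 15 = 1).card) = 195 := by
  decide +kernel

theorem comm_of_mem {w u v : G} (hw : orderOf w = 2) (hu : orderOf u = 2) (hv : orderOf v = 2)
    (hmem : w ∈ zpowers (u * v)) : Commute u w ∧ Commute v w := by
  obtain ⟨i, rfl⟩ := mem_zpowers_iff.1 hmem
  obtain ⟨hw2, -⟩ := mul_self_of_order_two hw
  obtain ⟨hu2, -⟩ := mul_self_of_order_two hu
  have hinv : u * (u * v) * u⁻¹ = (u * v)⁻¹ := by
    rw [mul_inv_rev, inv_eq_of_mul_eq_one_right (mul_self_of_order_two hv).1, inv_eq_of_mul_eq_one_right hu2,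
      ← mul_assoc, hu2, one_mul]
  have h1 : u * (u * v) ^ i * u⁻¹ = (u * v) ^ i := by
    rw [← conj_zpow, hinv, inv_zpow]; exact inv_eq_of_mul_eq_one_right hw2
  have h2 : Commute u ((u * v) ^ i) := mul_inv_eq_iff_eq_mul.1 h1
  refine ⟨h2, ?_⟩
  have h3 := h2.inv_left.mul_left ((Commute.refl (u * v)).zpow_right i)
  rwa [inv_mul_cancel_left] at h3

theorem zpow_commuting {u v : G} (hu : u * u = 1) (hv : v * v = 1) (h : Commute u v) {w : G}
    (hw : w ∈ zpowers (u * v)) : w = 1 ∨ w = u * v := by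
  obtain ⟨i, rfl⟩ := mem_zpowers_iff.1 hw
  have h2 : (u * v) ^ (2 : ℤ) = 1 := by rw [zpow_two, h.symm.mul_mul_mul_comm, hu, hv, one_mul]
  rcases Int.even_or_odd' i with ⟨j, rfl | rfl⟩
  · exact Or.inl (by rw [zpow_mul, h2, one_zpow])
  · exact Or.inr (by rw [zpow_add_one, zpow_mul, h2, one_zpow, one_mul])

variable (hS : Setup z Q)
include hS
variable (ht : Outer z Q t) (hnc : ¬ IsConj z t)
include ht hnc

theorem Setup.outer_of_tconj {v : G} (hv : IsConj t v) (hvz : Commute v z) : Outer z Q v :=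
  hS.outer_of_not_conj (orderOf_isConj ht.1 hv) hvz fun h => hnc (h.trans hv.symm)

theorem Setup.card_t_class : Nat.card {v : G // IsConj t v ∧ Commute v z} = 120 := by
  have htC : t ∈ centralizer ({z} : Set G) := mem_centralizer_singleton_iff.2 ht.2.1
  have h := card_class_mul (z := t) (centralizer ({z} : Set G)) htC
  obtain ⟨e, -, -, h16, -⟩ := hS.frame ht
  rw [h16, hS.card_C] at h
  have e1 : (fun k => k * t * k⁻¹) '' (centralizer ({z} : Set G) : Set G) = {v | IsConj t v ∧ Commute v z} := by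
    ext v
    constructor
    · rintro ⟨k, hk, rfl⟩
      have hkz : Commute k z := mem_centralizer_singleton_iff.1 hk
      exact ⟨isConj_iff.2 ⟨k, rfl⟩, (hkz.mul_left ht.2.1).mul_left hkz.inv_left⟩
    · rintro ⟨hv, hvz⟩
      obtain ⟨k, hkz, hk⟩ := hS.outer_conj ht (hS.outer_of_tconj ht hnc hv hvz)
      exact ⟨k, mem_centralizer_singleton_iff.2 hkz.eq, hk⟩
  rw [e1, ← Nat.card_coe_set_eq] at h
  change Nat.card {v : G // IsConj t v ∧ Commute v z} * 16 = 1920 at h
  omega

theorem Setup.card_noncommuting {v : G} (hv : IsConj t v ∧ Commute v z) :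
    Nat.card {u : G // u ∈ nci Q z ∧ ¬ Commute u v} = 8 := by
  obtain ⟨f, hf, hfz⟩ := hS.exists_five
  have hvo := hS.outer_of_tconj ht hnc hv.1 hv.2
  obtain ⟨e, he, hev, -, -⟩ := hS.frame hvo
  have hC := hS.fix_Q hvo he hev
  have hze : z * e ∈ nci Q z := hS.ctx.mul_z_mem_nci he
  have e1 : {u : G | u ∈ nci Q z ∧ ¬ Commute u v} = nci Q z \ {e, z * e} := by
    ext u
    simp only [Set.mem_setOf_eq, Set.mem_diff, Set.mem_insert_iff, Set.mem_singleton_iff, and_congr_right_iff]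
    intro hu
    rw [hC u hu.1]
    exact ⟨fun h h' => h (h'.elim (fun e => Or.inr (Or.inr (Or.inl e))) fun e => Or.inr (Or.inr (Or.inr e))),
      fun h h' => by
        rcases h' with h' | h' | h' | h'
        exacts [hu.2.2.1 h', hu.2.2.2 h', h (Or.inl h'), h (Or.inr h')]⟩
  show Nat.card ↑{u : G | u ∈ nci Q z ∧ ¬ Commute u v} = 8
  rw [e1, Nat.card_coe_set_eq, Set.ncard_diff, hS.ctx.ncard_nci hS.card hf hfz,
    Set.ncard_pair fun h => hS.ctx.ne_one (mul_eq_right.1 h.symm)]
  rintro _ (rfl | rfl)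
  exacts [he, hze]

theorem Setup.keyz :
    Nat.card {p : G × G // IsConj z p.1 ∧ IsConj t p.2 ∧ z ∈ zpowers (p.1 * p.2)} = 960 := by
  classical
  have hX := hS.ctx
  have hsplit : ∀ {u v : G}, u ∈ nci Q z → IsConj t v → Commute v z →
      (z ∈ zpowers (u * v) ↔ ¬ Commute u v) := by
    intro u v hu hv hvz
    obtain ⟨hv2, hv1⟩ := mul_self_of_order_two (orderOf_isConj ht.1 hv)
    obtain ⟨huQ, hu2, hu1, huz⟩ := hu
    constructor
    · intro hmem hc
      rcases zpow_commuting hu2 hv2 hc hmem with h | h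
      · exact hX.ne_one h
      · refine (hS.outer_of_tconj ht hnc hv hvz).2.2 ?_
        rw [eq_inv_mul_iff_mul_eq.2 h.symm]
        exact mul_mem (inv_mem huQ) hX.mem
    · intro hnc'
      have hvinv : v⁻¹ = v := inv_eq_of_mul_eq_one_right hv2
      have huc : v * u * v ∈ nci Q z := by
        refine ⟨?_, ?_, fun h => hu1 ?_, fun h => huz ?_⟩
        · have := (mem_normalizer_iff.1 (hX.norm v hvz) u).1 huQ
          rwa [hvinv] at this
        · calc v * u * v * (v * u * v) = v * u * (v * v) * u * v := by simp only [mul_assoc]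
            _ = v * (u * u) * v := by rw [hv2, mul_one]; simp only [mul_assoc]
            _ = 1 := by rw [hu2, mul_one, hv2]
        · exact conj_eq_one_iff.1 (show v * u * v⁻¹ = 1 by rw [hvinv]; exact h)
        · calc u = (v * v) * u * (v * v) := by rw [hv2, one_mul, mul_one]
            _ = v * (v * u * v) * v := by simp only [mul_assoc]
            _ = z := by rw [h, hvz.eq, mul_assoc, hv2, mul_one]
      have huv2 : u * v * (u * v) = u * (v * u * v) := by simp only [mul_assoc]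
      by_cases hc : Commute u (v * u * v)
      · rcases hS.nci_commute ⟨huQ, hu2, hu1, huz⟩ huc hc with h | h
        · exfalso
          exact hnc' ((mul_inv_eq_iff_eq_mul.1 (show v * u * v⁻¹ = u by rw [hvinv]; exact h)).symm)
        · refine mem_zpowers_iff.2 ⟨2, ?_⟩
          rw [zpow_two, huv2, h, ← mul_assoc, ← (hX.central u huQ).eq, mul_assoc, hu2, mul_one]
      · refine mem_zpowers_iff.2 ⟨2 * 2, ?_⟩
        rw [zpow_mul, zpow_two, zpow_two, huv2]
        calc u * (v * u * v) * (u * (v * u * v))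
            = u * (v * u * v) * u⁻¹ * (v * u * v)⁻¹ := by
              rw [inv_eq_of_mul_eq_one_right hu2, inv_eq_of_mul_eq_one_right huc.2.1]; simp only [mul_assoc]
          _ = z := (hX.comm u huQ _ huc.1).resolve_left fun h' =>
              hc (mul_inv_eq_iff_eq_mul.1 (mul_inv_eq_one.1 h'))
  have hnci : ∀ {u v}, IsConj z u → IsConj t v → z ∈ zpowers (u * v) → u ∈ nci Q z ∧ Commute v z := by
    intro u v hu hv hmem
    have hu2 := orderOf_isConj hS.z_two hu
    have hv2 := orderOf_isConj ht.1 hv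
    obtain ⟨huz, hvz⟩ := comm_of_mem hS.z_two hu2 hv2 hmem
    refine ⟨⟨(hS.mem_Q_iff ht hnc hu2 huz).1 hu, (mul_self_of_order_two hu2).1, (mul_self_of_order_two hu2).2, ?_⟩, hvz⟩
    intro h
    rw [h] at hmem
    rcases zpow_commuting hX.sq_z (mul_self_of_order_two hv2).1 hvz.symm hmem with e | e
    · exact hX.ne_one e
    · exact (mul_self_of_order_two hv2).2 (mul_eq_left.1 e.symm)
  have := Fintype.ofFinite {v : G // IsConj t v ∧ Commute v z}
  let e : {p : G × G // IsConj z p.1 ∧ IsConj t p.2 ∧ z ∈ zpowers (p.1 * p.2)} ≃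
      Σ v : {v : G // IsConj t v ∧ Commute v z}, {u : G // u ∈ nci Q z ∧ ¬ Commute u v.1} :=
    { toFun := fun p => ⟨⟨p.1.2, p.2.2.1, (hnci p.2.1 p.2.2.1 p.2.2.2).2⟩, p.1.1, (hnci p.2.1 p.2.2.1 p.2.2.2).1,
        (hsplit (hnci p.2.1 p.2.2.1 p.2.2.2).1 p.2.2.1 (hnci p.2.1 p.2.2.1 p.2.2.2).2).1 p.2.2.2⟩
      invFun := fun s => ⟨(s.2.1, s.1.1), hS.invol_Q_conj s.2.2.1.1 s.2.2.1.2.1 s.2.2.1.2.2.1, s.1.2.1,
        (hsplit s.2.2.1 s.1.2.1 s.1.2.2).2 s.2.2.2⟩
      left_inv := fun p => rfl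
      right_inv := fun s => rfl }
  rw [Nat.card_congr e, Nat.card_sigma, Finset.sum_congr rfl fun v _ => hS.card_noncommuting ht hnc v.2,
    Finset.sum_const, Finset.card_univ, ← Nat.card_eq_fintype_card, hS.card_t_class ht hnc, smul_eq_mul]

/-- The order formula for the two classes. -/
theorem Setup.order_formula : Nat.card G = Nat.card ↥(centralizer ({t} : Set G)) * 960 +
    1920 * Nat.card {p : G × G // IsConj z p.1 ∧ IsConj t p.2 ∧ t ∈ zpowers (p.1 * p.2)} := by
  have h := Cfsg.Agent.S0213.result z t hS.z_two ht.1 hnc (hS.classes ht hnc)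
  rwa [hS.keyz ht hnc, hS.card_C] at h

theorem Setup.keyt_big {V L : Subgroup G} (hB : Big z t V L) :
    Nat.card {p : G × G // IsConj z p.1 ∧ IsConj t p.2 ∧ t ∈ zpowers (p.1 * p.2)} = 195 := by
  classical
  have := Fintype.ofFinite G
  obtain ⟨eB⟩ := hB.iso
  obtain ⟨ht2, ht1⟩ := mul_self_of_order_two ht.1
  have huniq : ∀ {v v' b b' : G}, v ∈ V → v' ∈ V → b ∈ L → b' ∈ L → v * b = v' * b' → v = v' ∧ b = b' := by
    intro v v' b b' hv hv' hb hb' h
    have e : v'⁻¹ * v = b' * b⁻¹ := by rw [eq_mul_inv_iff_mul_eq, mul_assoc, h, inv_mul_cancel_left]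
    have hm : v'⁻¹ * v ∈ V ⊓ L :=
      mem_inf.2 ⟨mul_mem (inv_mem hv') hv, e.symm ▸ mul_mem hb' (inv_mem hb)⟩
    rw [hB.inf, mem_bot] at hm
    have hvv : v = v' := (inv_mul_eq_one.1 hm).symm
    exact ⟨hvv, mul_left_cancel (hvv ▸ h)⟩
  have hodd15 : ∀ g : ↥L, Odd (orderOf g) → g ^ 15 = 1 := by
    intro g hg
    rcases a5_orders (eB g) with h | h | h
    · have h' : g ^ 2 = 1 := eB.injective (by rw [map_pow, h, map_one])
      rcases (Nat.dvd_prime Nat.prime_two).1 (orderOf_dvd_of_pow_eq_one h') with h1 | h1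
      · rw [orderOf_eq_one_iff.1 h1, one_pow]
      · rw [h1] at hg; exact absurd hg (by decide)
    · exact eB.injective (by rw [map_pow, map_one, show (15 : ℕ) = 3 * 5 from rfl, pow_mul, h, one_pow])
    · exact eB.injective (by rw [map_pow, map_one, show (15 : ℕ) = 5 * 3 from rfl, pow_mul, h, one_pow])
  have htL : ∀ {v}, v ∈ V → ∀ {b}, b ∈ L → Commute v b := fun hv _ hb => hB.comm _ hv _ hb
  rw [← a5_odd_pairs, ← Finset.card_sigma, ← Fintype.card_coe, ← Nat.card_eq_fintype_card]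
  have hto : ∀ b : ↥((Finset.univ.filter fun a : A5 => a * a = 1 ∧ a ≠ 1).sigma fun a =>
      Finset.univ.filter fun b : A5 => b * b = 1 ∧ (a * b) ^ 15 = 1),
      IsConj z (eB.symm b.1.1 : G) ∧ IsConj t (t * (eB.symm b.1.2 : G)) ∧
        t ∈ zpowers ((eB.symm b.1.1 : G) * (t * (eB.symm b.1.2 : G))) := by
    rintro ⟨⟨c, d⟩, hb⟩
    simp only [Finset.mem_sigma, Finset.mem_filter, Finset.mem_univ, true_and] at hb
    have hcL : (eB.symm c : G) ∈ L := (eB.symm c).2
    have hdL : (eB.symm d : G) ∈ L := (eB.symm d).2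
    have hd2 : (eB.symm d : G) * (eB.symm d : G) = 1 := by
      rw [← Subgroup.coe_mul, ← map_mul, hb.2.1, map_one]; rfl
    have hu : IsConj z (eB.symm c : G) := hB.conj_L _ hcL (order_two
      (by rw [← Subgroup.coe_mul, ← map_mul, hb.1.1, map_one]; rfl)
      fun h => hb.1.2 (eB.symm.map_eq_one_iff.1 (Subtype.ext h)))
    have hv : IsConj t (t * (eB.symm d : G)) := by
      refine hB.conj_out _ (mul_mem (hB.V_le hB.t_mem) (hB.L_le hdL)) (order_two ?_ ?_) ?_
      · rw [(htL hB.t_mem hdL).symm.mul_mul_mul_comm, ht2, hd2, one_mul]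
      · exact fun h => ht1 ((huniq hB.t_mem (one_mem V) hdL (one_mem L) (by rw [h, one_mul])).1)
      · exact fun h => ht1 ((huniq hB.t_mem (one_mem V) hdL h (by rw [one_mul])).1)
    refine ⟨hu, hv, mem_zpowers_iff.2 ⟨(15 : ℕ), ?_⟩⟩
    rw [zpow_natCast, show (eB.symm c : G) * (t * (eB.symm d : G)) = t * ((eB.symm (c * d) : L) : G) by
      rw [map_mul, Subgroup.coe_mul, ← mul_assoc, ← (htL hB.t_mem hcL).eq, mul_assoc],
      (htL hB.t_mem (eB.symm (c * d)).2).mul_pow,
      ← SubgroupClass.coe_pow, ← map_pow, hb.2.2, map_one, Subgroup.coe_one, mul_one,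
      show (15 : ℕ) = 2 * 7 + 1 from rfl, pow_succ, pow_mul, pow_two, ht2, one_pow, one_mul]
  refine (Nat.card_eq_of_bijective (fun b => ⟨((eB.symm b.1.1 : G), t * (eB.symm b.1.2 : G)), hto b⟩) ⟨?_, ?_⟩).symm
  · rintro ⟨⟨c, d⟩, hb⟩ ⟨⟨c', d'⟩, hb'⟩ h
    have h' := congrArg Subtype.val h
    simp only [Prod.mk.injEq, mul_right_inj] at h'
    have h1 := eB.symm.injective (Subtype.ext h'.1)
    have h2 := eB.symm.injective (Subtype.ext h'.2)
    subst h1 h2
    rfl
  · rintro ⟨⟨u, v⟩, hu, hv, hmem⟩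
    have hu2' := orderOf_isConj hS.z_two hu
    have hv2' := orderOf_isConj ht.1 hv
    obtain ⟨hut, hvt⟩ := comm_of_mem ht.1 hu2' hv2' hmem
    have huM : u ∈ centralizer ({t} : Set G) := mem_centralizer_singleton_iff.2 hut.eq
    have huB : u ∈ L := by_contra fun h => hnc (hu.trans (hB.conj_out u huM hu2' h).symm)
    obtain ⟨hu2, hu1⟩ := mul_self_of_order_two hu2'
    obtain ⟨w, hw, b, hb, rfl⟩ := hB.dec v (mem_centralizer_singleton_iff.2 hvt.eq)
    have hb2 : b * b = 1 := by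
      have h1 := (mul_self_of_order_two hv2').1
      rwa [(htL hw hb).symm.mul_mul_mul_comm, hB.sq_V w hw, one_mul] at h1
    obtain ⟨i, hi⟩ := mem_zpowers_iff.1 hmem
    have e : u * (w * b) = w * (u * b) := by rw [← mul_assoc, ← (htL hw huB).eq, mul_assoc]
    simp only [e] at hi
    rw [(htL hw (mul_mem huB hb)).mul_zpow] at hi
    obtain ⟨h1, h2⟩ := huniq (zpow_mem hw i) hB.t_mem (zpow_mem (mul_mem huB hb) i) (one_mem L)
      (hi.trans (mul_one t).symm)
    have hw2 : w ^ (2 : ℤ) = 1 := by rw [zpow_two]; exact hB.sq_V w hw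
    rcases Int.even_or_odd' i with ⟨j, rfl | rfl⟩
    · rw [zpow_mul, hw2, one_zpow] at h1; exact absurd h1.symm ht1
    rw [zpow_add_one, zpow_mul, hw2, one_zpow, one_mul] at h1
    subst h1
    have hoddo : Odd (orderOf (⟨u * b, mul_mem huB hb⟩ : L)) := by
      rw [← Subgroup.orderOf_coe]
      have hd : (orderOf (u * b) : ℤ) ∣ 2 * j + 1 := orderOf_dvd_iff_zpow_eq_one.2 h2
      rcases Nat.even_or_odd (orderOf (u * b)) with he | ho
      · exfalso
        have : (2 : ℤ) ∣ 2 * j + 1 := (Int.natCast_dvd_natCast.2 (even_iff_two_dvd.1 he)).trans hd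
        omega
      · exact ho
    refine ⟨⟨⟨eB ⟨u, huB⟩, eB ⟨b, hb⟩⟩, ?_⟩, ?_⟩
    · simp only [Finset.mem_sigma, Finset.mem_filter, Finset.mem_univ, true_and]
      refine ⟨⟨?_, fun h => hu1 (congrArg Subtype.val (eB.map_eq_one_iff.1 h))⟩, ?_, ?_⟩
      · rw [← map_mul, ← map_one eB]; exact congrArg eB (Subtype.ext hu2)
      · rw [← map_mul, ← map_one eB]; exact congrArg eB (Subtype.ext hb2)
      · rw [← map_mul, ← map_pow, ← map_one eB]; exact congrArg eB (hodd15 _ hoddo)
    · simp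

theorem Setup.card_G_big {V L : Subgroup G} (hB : Big z t V L) : Nat.card G = 604800 := by
  have h240 : Nat.card ↥(centralizer ({t} : Set G)) = 240 := by
    obtain ⟨eB⟩ := hB.iso
    let F : V × L → centralizer ({t} : Set G) := fun p => ⟨p.1 * p.2, mul_mem (hB.V_le p.1.2) (hB.L_le p.2.2)⟩
    have hFb : Function.Bijective F := by
      constructor
      · rintro ⟨a, b⟩ ⟨a', b'⟩ h
        have h' : (a : G) * b = a' * b' := congrArg Subtype.val h
        have e1 : (a' : G)⁻¹ * a = (b' : G) * (b : G)⁻¹ := by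
          rw [eq_mul_inv_iff_mul_eq, mul_assoc, h', inv_mul_cancel_left]
        have hm : (a' : G)⁻¹ * a ∈ V ⊓ L :=
          mem_inf.2 ⟨mul_mem (inv_mem a'.2) a.2, e1.symm ▸ mul_mem b'.2 (inv_mem b.2)⟩
        rw [hB.inf, mem_bot] at hm
        have ha : (a : G) = a' := (inv_mul_eq_one.1 hm).symm
        rw [ha] at h'
        rw [Subtype.ext ha, Subtype.ext (mul_left_cancel h')]
      · rintro ⟨g, hg⟩
        obtain ⟨v, hv, b, hb, rfl⟩ := hB.dec g hg
        exact ⟨⟨⟨v, hv⟩, ⟨b, hb⟩⟩, rfl⟩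
    rw [← Nat.card_eq_of_bijective F hFb, Nat.card_prod, hB.card_V, Nat.card_congr eB.toEquiv, a5_card]
  rw [hS.order_formula ht hnc, h240, hS.keyt_big ht hnc hB]

theorem Setup.card_G_small (hM : Small z t Q) : Nat.card G = 51840 := by
  classical
  obtain ⟨e, he, het, -, hT⟩ := hS.frame ht
  have hX := hS.ctx
  have hset : {p : G × G | IsConj z p.1 ∧ IsConj t p.2 ∧ t ∈ zpowers (p.1 * p.2)} =
      (fun u => (u, u * t)) '' ({z, e, z * e} : Set G) := by
    ext ⟨u, v⟩
    constructor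
    · rintro ⟨hu, hv, hmem⟩
      have hu2 := orderOf_isConj hS.z_two hu
      have hv2 := orderOf_isConj ht.1 hv
      obtain ⟨hut, hvt⟩ := comm_of_mem ht.1 hu2 hv2 hmem
      obtain ⟨huu, hu1⟩ := mul_self_of_order_two hu2
      obtain ⟨hvv, -⟩ := mul_self_of_order_two hv2
      have huz := hM.invol u hut huu
      have hvz := hM.invol v hvt hvv
      have huv : t = u * v := (zpow_commuting huu hvv (hS.abelian16 ht huz hut hvz hvt) hmem).resolve_left
        (mul_self_of_order_two ht.1).2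
      refine ⟨u, ?_, Prod.ext rfl ?_⟩
      · rcases (hT u huz hut).2 ((hS.mem_Q_iff ht hnc hu2 huz).1 hu) with h | h
        · exact absurd h hu1
        · simpa using h
      · show u * t = v
        rw [huv, ← mul_assoc, huu, one_mul]
    · rintro ⟨r, hr, heq⟩
      obtain ⟨rfl, rfl⟩ := Prod.mk.injEq .. ▸ heq
      simp only [Set.mem_insert_iff, Set.mem_singleton_iff] at hr
      have hrQ : r ∈ Q := by
        rcases hr with rfl | rfl | rfl; exacts [hX.mem, he.1, mul_mem hX.mem he.1]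
      have hr1 : r ≠ 1 := by
        rcases hr with rfl | rfl | rfl
        exacts [hX.ne_one, he.2.2.1, fun h => he.2.2.2 (mul_left_cancel (a := z) (h.trans hX.sq_z.symm))]
      have hrt : Commute r t := by
        rcases hr with rfl | rfl | rfl; exacts [ht.2.1.symm, het, ht.2.1.symm.mul_left het]
      have hrz : Commute r z := (hX.central r hrQ).symm
      have hr2 : r * r = 1 := (hT r hrz hrt).1
      have ho : Outer z Q (r * t) := by
        have hnQ : r * t ∉ Q := fun h => ht.2.2 (by simpa using mul_mem (inv_mem hrQ) h)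
        refine ⟨order_two (hT _ (hrz.mul_left ht.2.1) (hrt.mul_left (Commute.refl t))).1 (fun h => hnQ (h ▸ one_mem _)),
          hrz.mul_left ht.2.1, hnQ⟩
      refine ⟨hS.invol_Q_conj hrQ hr2 hr1, hS.outer_isConj ht ho, ?_⟩
      show t ∈ zpowers (r * (r * t))
      rw [← mul_assoc, hr2, one_mul]
      exact mem_zpowers t
  have hkey : Nat.card {p : G × G // IsConj z p.1 ∧ IsConj t p.2 ∧ t ∈ zpowers (p.1 * p.2)} = 3 := by
    show Nat.card ↑{p : G × G | IsConj z p.1 ∧ IsConj t p.2 ∧ t ∈ zpowers (p.1 * p.2)} = 3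
    rw [hset, Nat.card_coe_set_eq, Set.ncard_image_of_injective _ fun a b h => congrArg Prod.fst h]
    exact Set.ncard_eq_three.2 ⟨z, e, z * e, fun h => he.2.2.2 h.symm,
      fun h => he.2.2.1 (mul_eq_left.1 h.symm), fun h => hX.ne_one (mul_eq_right.1 h.symm), rfl⟩
  rw [hS.order_formula ht hnc, hM.card, hkey]

end Cfsg.Lib.J2Type
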