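import Cfsg.Agent.Lib.J2Type.Centralizer
import Cfsg.Agent.Lib.Core.Basic

/-!
# Involutions outside the extraspecial subgroup

An involution `t` of `C(z)` outside `Q` has an elementary abelian centralizer of order 16 in `C(z)`,
meeting `Q` in a four group.
-/

set_option autoImplicit false
set_option linter.style.haveILetI false
set_option linter.unusedSectionVars false

namespace Cfsg.Lib.J2Type

open Cfsg Subgroup
open Cfsg.Lib.Extra (Ctx nci)

variable {G : Type*} [Group G] [Finite G] {z : G} {Q : Subgroup G}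

/-- `k` centralizes the coset of `q` modulo the centre. -/
def InW (z : G) (Q : Subgroup G) (k q : G) : Prop := q ∈ Q ∧ (k * q * k⁻¹ = q ∨ k * q * k⁻¹ = z * q)

theorem InW.conj {k q : G} (hk : InW z Q k q) (h : G) (hz : Commute h z)
    (hn : h ∈ normalizer (Q : Set G)) : InW z Q (h * k * h⁻¹) (h * q * h⁻¹) := by
  have e : h * k * h⁻¹ * (h * q * h⁻¹) * (h * k * h⁻¹)⁻¹ = h * (k * q * k⁻¹) * h⁻¹ := by group
  refine ⟨(mem_normalizer_iff.1 hn q).1 hk.1, hk.2.imp (fun e' => ?_) fun e' => ?_⟩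
  · rw [e, e']
  · rw [e, e', ← mul_assoc, hz.eq]; group

variable (hS : Setup z Q)
include hS

theorem Setup.q_conj {p x : G} (hp : p ∈ Q) (hx : x ∈ Q) : p * x * p⁻¹ = x ∨ p * x * p⁻¹ = z * x :=
  (hS.ctx.comm p hp x hx).imp (fun h => mul_inv_eq_one.1 h) fun h => mul_inv_eq_iff_eq_mul.1 h

theorem Setup.z_mul {x : G} : z * (z * x) = x := by rw [← mul_assoc, hS.ctx.sq_z, one_mul]

theorem Setup.conj_z_mul {k x : G} (hk : Commute k z) : k * (z * x) * k⁻¹ = z * (k * x * k⁻¹) := by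
  rw [← mul_assoc, hk.eq]; group

theorem Setup.inW_q_mul {p k x : G} (hp : p ∈ Q) (h : InW z Q k x) : InW z Q (p * k) x := by
  refine ⟨h.1, ?_⟩
  have hkx : k * x * k⁻¹ ∈ Q := by
    rcases h.2 with e | e <;> rw [e]
    exacts [h.1, mul_mem hS.ctx.mem h.1]
  have e : p * k * x * (p * k)⁻¹ = p * (k * x * k⁻¹) * p⁻¹ := by group
  rw [e]
  rcases hS.q_conj hp hkx with e1 | e1 <;> rw [e1]
  · exact h.2
  · rcases h.2 with e2 | e2 <;> rw [e2]
    · exact Or.inr rfl
    · exact Or.inl hS.z_mul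

variable (φ : centralizer ({z} : Set G) →* A5) (hker : ∀ x, φ x = 1 ↔ (x : G) ∈ Q)
include hker

theorem inW_congr {k l x : G} (hk : k ∈ centralizer ({z} : Set G)) (hl : l ∈ centralizer ({z} : Set G))
    (h : φ ⟨k, hk⟩ = φ ⟨l, hl⟩) : InW z Q k x ↔ InW z Q l x := by
  have hp : k * l⁻¹ ∈ Q := (hker (⟨k, hk⟩ * ⟨l, hl⟩⁻¹)).1 (by rw [map_mul, map_inv, h, mul_inv_cancel])
  constructor
  · intro hx
    have := hS.inW_q_mul (inv_mem hp) hx
    rwa [show (k * l⁻¹)⁻¹ * k = l by group] at this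
  · intro hx
    have := hS.inW_q_mul hp hx
    rwa [inv_mul_cancel_right] at this

omit hker

theorem Setup.exists_inverted_five {t : G} (ht : Outer z Q t) :
    ∃ f, orderOf f = 5 ∧ Commute f z ∧ t * f * t⁻¹ = f⁻¹ := by
  obtain ⟨φ, hφ, hker⟩ := hS.proj
  haveI : Fact (Nat.Prime 5) := ⟨by norm_num⟩
  obtain ⟨ht2, -⟩ := mul_self_of_order_two ht.1
  let t' : centralizer ({z} : Set G) := ⟨t, mem_centralizer_singleton_iff.2 ht.2.1⟩
  have hx1 : φ t' ≠ 1 := fun h => ht.2.2 ((hker t').1 h)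
  have hxx : φ t' * φ t' = 1 := by
    rw [← map_mul, show t' * t' = 1 from Subtype.ext ht2, map_one]
  obtain ⟨f5, hf5, hf1, hfx⟩ := a5_inverts _ hxx hx1
  obtain ⟨f0, hf0⟩ := hφ f5
  let c := t' * f0 * t'⁻¹ * f0⁻¹
  have hc : φ c = f5⁻¹ * f5⁻¹ := by simp only [c, map_mul, map_inv, hf0, hfx]
  have htc : t' * c * t'⁻¹ = c⁻¹ := by
    have e : t'⁻¹ = t' := inv_eq_of_mul_eq_one_right (Subtype.ext ht2)
    simp only [c, mul_inv_rev, inv_inv, e]
    calc t' * (t' * f0 * t' * f0⁻¹) * t' = (t' * t') * f0 * t' * f0⁻¹ * t' := by simp only [mul_assoc]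
      _ = f0 * (t' * (f0⁻¹ * t')) := by
        rw [show t' * t' = 1 from Subtype.ext ht2]; simp only [one_mul, mul_assoc]
  refine ⟨((c ^ 4 : centralizer ({z} : Set G)) : G), orderOf_eq_prime ?_ ?_,
    mem_centralizer_singleton_iff.1 (c ^ 4).2, ?_⟩
  · have hq : ((c ^ 5 : centralizer ({z} : Set G)) : G) ∈ Q := (hker _).1 (by
      rw [map_pow, hc, (Commute.refl f5⁻¹).mul_pow, inv_pow, hf5]; simp)
    have h4 : ((c ^ 5 : centralizer ({z} : Set G)) : G) ^ 4 = 1 := by
      rw [show (4 : ℕ) = 2 * 2 from rfl, pow_mul, pow_two ((c ^ 5 : centralizer ({z} : Set G)) : G)]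
      rcases hS.ctx.sq _ hq with e | e <;> rw [e]
      · rw [one_pow]
      · rw [pow_two, hS.ctx.sq_z]
    rw [← SubgroupClass.coe_pow, ← pow_mul] at h4
    rw [← SubgroupClass.coe_pow, ← pow_mul]
    exact h4
  · intro h
    have h' : φ (c ^ 4) = 1 := by rw [show c ^ 4 = 1 from Subtype.ext h, map_one]
    rw [map_pow, hc] at h'
    apply hf1
    have h8 : f5 ^ 8 = 1 := by
      have : (f5⁻¹ * f5⁻¹) ^ 4 = 1 := by simpa using h'
      rwa [← pow_two, ← pow_mul, inv_pow, inv_eq_one] at this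
    calc f5 = f5 ^ (8 * 2) * (f5 ^ (5 * 3))⁻¹ := by
          rw [show 8 * 2 = 5 * 3 + 1 from rfl, pow_succ, pow_mul, hf5]; simp
      _ = 1 := by rw [pow_mul, pow_mul, h8, hf5]; simp
  · have h : t' * c ^ 4 * t'⁻¹ = (c ^ 4)⁻¹ := by rw [← conj_pow, htc, inv_pow]
    exact congrArg Subtype.val h

/-- The fixed points of an involution outside `Q` on `Q` and on its central quotient. -/
theorem Setup.outer_W {t : G} (ht : Outer z Q t) :
    ∃ W : Subgroup G, ∃ e ∈ nci Q z, (∀ q, q ∈ W ↔ InW z Q t q) ∧ Nat.card W = 8 ∧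
      (∀ w ∈ W, t * w * t⁻¹ = w⁻¹) ∧ (∀ w ∈ W, ∃ p ∈ Q, p * t * p⁻¹ * t⁻¹ = w) ∧
      (∀ a ∈ W, ∀ b ∈ W, Commute a b) ∧ e ∈ W ∧
      ∀ x ∈ Q, (Commute x t ↔ x = 1 ∨ x = z ∨ x = e ∨ x = z * e) := by
  classical
  have hX := hS.ctx
  have hzt : Commute t z := ht.2.1
  have htn : ∀ q ∈ Q, t * q * t⁻¹ ∈ Q := fun q hq => (mem_normalizer_iff.1 (hX.norm t hzt) q).1 hq
  obtain ⟨ht2, -⟩ := mul_self_of_order_two ht.1
  have hti : t⁻¹ = t := inv_eq_of_mul_eq_one_right ht2
  have htt : ∀ q, t * (t * q * t⁻¹) * t⁻¹ = q := fun q => by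
    rw [hti]; simp only [mul_assoc, ht2, mul_one]; rw [← mul_assoc, ht2, one_mul]
  let W : Subgroup G :=
    { carrier := {q | InW z Q t q}
      one_mem' := ⟨one_mem _, Or.inl (by simp)⟩
      inv_mem' := fun {q} hq => ⟨inv_mem hq.1, by
        have e : t * q⁻¹ * t⁻¹ = (t * q * t⁻¹)⁻¹ := by group
        rcases hq.2 with h | h
        · exact Or.inl (by rw [e, h])
        · exact Or.inr (by rw [e, h, mul_inv_rev, hX.inv_z, ← (hX.central q⁻¹ (inv_mem hq.1)).eq])⟩
      mul_mem' := fun {a b} ha hb => ⟨mul_mem ha.1 hb.1, by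
        have e : t * (a * b) * t⁻¹ = t * a * t⁻¹ * (t * b * t⁻¹) := by group
        rcases ha.2 with h | h <;> rcases hb.2 with h' | h' <;> rw [e, h, h']
        · exact Or.inl rfl
        · exact Or.inr (by rw [← mul_assoc, ← (hX.central a ha.1).eq, mul_assoc])
        · exact Or.inr (by rw [mul_assoc])
        · refine Or.inl ?_
          rw [mul_assoc z a, ← mul_assoc a z b, ← (hX.central a ha.1).eq, mul_assoc z a b, hS.z_mul]⟩ }
  have hW : ∀ q, q ∈ W ↔ InW z Q t q := fun q => Iff.rfl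
  have hWQ : W ≤ Q := fun q hq => hq.1
  have hzW : z ∈ W := ⟨hX.mem, Or.inl (mul_inv_eq_iff_eq_mul.2 hzt.eq)⟩
  let δ : G → G := fun q => q * (t * q * t⁻¹)⁻¹
  have hδQ : ∀ q ∈ Q, δ q ∈ Q := fun q hq => mul_mem hq (inv_mem (htn q hq))
  have hδinv : ∀ q, t * δ q * t⁻¹ = (δ q)⁻¹ := fun q => by
    calc t * δ q * t⁻¹ = t * q * t⁻¹ * (t * (t * q * t⁻¹) * t⁻¹)⁻¹ := by simp only [δ]; group
      _ = (δ q)⁻¹ := by rw [htt]; simp only [δ, mul_inv_rev, inv_inv]
  have hinvW : ∀ w ∈ Q, t * w * t⁻¹ = w⁻¹ → w ∈ W := fun w hw h => by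
    refine ⟨hw, ?_⟩
    rw [h]
    rcases hX.sq w hw with e | e
    · exact Or.inl (inv_eq_of_mul_eq_one_right e)
    · exact Or.inr (inv_eq_of_mul_eq_one_left (by rw [mul_assoc, e, hX.sq_z]))
  have hδW : ∀ q ∈ Q, δ q ∈ W := fun q hq => hinvW _ (hδQ q hq) (hδinv q)
  have hδw : ∀ w ∈ W, δ w = 1 ∨ δ w = z := by
    rintro w ⟨hw, h | h⟩
    · exact Or.inl (by simp only [δ, h, mul_inv_cancel])
    · refine Or.inr ?_
      show w * (t * w * t⁻¹)⁻¹ = z
      rw [h, mul_inv_rev, hX.inv_z, ← mul_assoc, mul_inv_cancel, one_mul]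
  have hδmul : ∀ q w, q ∈ Q → w ∈ W → δ (q * w) = δ w * δ q := by
    intro q w hq hw
    have hc : Commute (δ w) q := by
      rcases hδw w hw with e | e <;> rw [e]
      exacts [Commute.one_left q, hX.central q hq]
    calc δ (q * w) = q * δ w * (t * q * t⁻¹)⁻¹ := by simp only [δ]; group
      _ = δ w * δ q := by rw [← hc.eq]; simp only [δ, mul_assoc]
  -- the two quotients
  let W' : Subgroup Q := W.subgroupOf Q
  let Z' : Subgroup W := (zpowers z).subgroupOf W
  have hzpow : ∀ x ∈ zpowers z, x = 1 ∨ x = z := by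
    intro x hx
    obtain ⟨i, rfl⟩ := mem_zpowers_iff.1 hx
    rw [← zpow_mod_orderOf z i, hS.z_two]
    rcases Int.emod_two_eq i with e | e <;> norm_num [e]
  let F : Q ⧸ W' → W ⧸ Z' := Quotient.lift (fun q : Q => ((⟨δ q, hδW q q.2⟩ : W) : W ⧸ Z')) (by
    intro a b hab
    replace hab : (a : G)⁻¹ * b ∈ W := ((QuotientGroup.leftRel_apply (s := W') (x := a) (y := b)).1 hab)
    rw [QuotientGroup.eq]
    show ((δ (a : G))⁻¹ * δ (b : G)) ∈ zpowers z
    rw [show (b : G) = a * ((a : G)⁻¹ * b) by group, hδmul _ _ a.2 hab]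
    rcases hδw _ hab with e | e <;> rw [e]
    · simp
    · rw [(hX.central _ (hδQ _ a.2)).eq, inv_mul_cancel_left]; exact mem_zpowers z)
  have hF : Function.Injective F := by
    intro a b
    induction a using Quotient.inductionOn with
    | _ a =>
    induction b using Quotient.inductionOn with
    | _ b =>
    intro h
    refine Quotient.sound ?_
    change QuotientGroup.leftRel W' a b
    rw [QuotientGroup.leftRel_apply, mem_subgroupOf, Subgroup.coe_mul, Subgroup.coe_inv]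
    have h0 : ((⟨δ (a : G), hδW _ a.2⟩ : W) : W ⧸ Z') = ((⟨δ (b : G), hδW _ b.2⟩ : W) : W ⧸ Z') := h
    have h1 := QuotientGroup.eq.1 h0
    have h' : (δ (a : G))⁻¹ * δ (b : G) ∈ zpowers z := h1
    set w := (a : G)⁻¹ * b with hw
    have hwQ : w ∈ Q := mul_mem (inv_mem a.2) b.2
    have e : δ (b : G) = a * δ w * (t * a * t⁻¹)⁻¹ := by simp only [δ, hw]; group
    refine ⟨hwQ, ?_⟩
    have h2 : δ w = 1 ∨ δ w = z := by
      rcases hzpow _ h' with e1 | e1
      · left
        have h3 : δ (b : G) = δ (a : G) := (inv_mul_eq_one.1 e1).symm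
        rw [e] at h3
        simp only [δ] at h3
        have := mul_right_cancel h3
        exact mul_eq_left.1 this
      · right
        have h3 : δ (b : G) = δ (a : G) * z := inv_mul_eq_iff_eq_mul.1 e1
        have h4 : (a : G) * δ w * (t * a * t⁻¹)⁻¹ = (a : G) * z * (t * a * t⁻¹)⁻¹ := by
          rw [← e, h3, ← (hX.central _ (hδQ _ a.2)).eq, ← (hX.central _ a.2).eq]
          show z * ((a : G) * (t * a * t⁻¹)⁻¹) = _
          simp only [mul_assoc]
        exact mul_left_cancel (mul_right_cancel h4)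
    rcases h2 with h2 | h2
    · exact Or.inl (mul_inv_eq_one.1 h2).symm
    · refine Or.inr ?_
      have := mul_inv_eq_iff_eq_mul.1 h2
      rw [← hS.z_mul (x := t * w * t⁻¹), ← this]
  have hWW : Nat.card W * (W.relIndex Q) = 32 := hS.card ▸ Cfsg.Lib.Core.card_mul_relIndex hWQ
  have hZW : 2 * (zpowers z).relIndex W = Nat.card W := by
    rw [← Cfsg.Lib.Core.card_mul_relIndex (zpowers_le.2 hzW), Nat.card_zpowers, hS.z_two]
  have hqq : W.relIndex Q ≤ (zpowers z).relIndex W := Nat.card_le_card_of_injective F hF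
  -- at most eight elements
  obtain ⟨f, hf, hfz, hft⟩ := hS.exists_inverted_five ht
  let W2 : Subgroup G := W.map (MulAut.conj f).toMonoidHom
  have hW2Q : W2 ≤ Q := by
    rintro x ⟨w, hw, rfl⟩
    exact (mem_normalizer_iff.1 (hX.norm f hfz) w).1 hw.1
  have hint : ∀ q ∈ W ⊓ W2, q = 1 ∨ q = z := by
    intro q hq
    have h1 : InW z Q t q := hq.1
    have h2 : InW z Q t (f⁻¹ * q * f) := Cfsg.Lib.Sig.mem_map_conj_iff.1 hq.2
    have h3 : InW z Q (f * t * f⁻¹) q := by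
      have := h2.conj f hfz (hX.norm f hfz)
      rwa [show f * (f⁻¹ * q * f) * f⁻¹ = q by group] at this
    have hff : f * t * f⁻¹ = f * f * t := by
      have : t * f⁻¹ = f * t := by
        have := congrArg (fun x => x⁻¹) hft
        simp only [mul_inv_rev, inv_inv] at this
        exact mul_inv_eq_iff_eq_mul.1 (by rw [mul_assoc]; exact this)
      rw [mul_assoc, this, mul_assoc]
    have h4 : InW z Q (f * f) q := by
      refine ⟨h1.1, ?_⟩
      have e : f * t * f⁻¹ * q * (f * t * f⁻¹)⁻¹ = f * f * (t * q * t⁻¹) * (f * f)⁻¹ := by rw [hff]; group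
      rcases h1.2 with e1 | e1 <;> rcases h3.2 with e2 | e2 <;> rw [e, e1] at e2
      · exact Or.inl e2
      · exact Or.inr e2
      · rw [hS.conj_z_mul (hfz.mul_left hfz)] at e2
        exact Or.inr (by rw [← hS.z_mul (x := f * f * q * (f * f)⁻¹), e2])
      · rw [hS.conj_z_mul (hfz.mul_left hfz)] at e2
        exact Or.inl (mul_left_cancel e2)
    have hf4 : Commute ((f * f) * (f * f)) q := by
      refine mul_inv_eq_iff_eq_mul.1 ?_
      have e : f * f * (f * f) * q * (f * f * (f * f))⁻¹ = f * f * (f * f * q * (f * f)⁻¹) * (f * f)⁻¹ := by group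
      rw [e]
      rcases h4.2 with e1 | e1
      · rw [e1, e1]
      · rw [e1, hS.conj_z_mul (hfz.mul_left hfz), e1, hS.z_mul]
    have hfq : Commute f q := by
      have h5 : (f * f * (f * f)) ^ 4 = f := by
        have hf5 : f ^ 5 = 1 := hf ▸ pow_orderOf_eq_one f
        rw [← pow_two, ← pow_two, ← pow_mul, ← pow_mul, show 2 * 2 * 4 = 5 * 3 + 1 from rfl, pow_succ,
          pow_mul, hf5, one_pow, one_mul]
      rw [← h5]; exact hf4.pow_left 4
    exact hX.fixed_five hS.card hf hfz h1.1 hfq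
  have hW8 : Nat.card W = 8 := by
    have hi2 : Nat.card ↥(W2 ⊓ W) ≤ 2 := by
      have hsub : ((W2 ⊓ W : Subgroup G) : Set G) ⊆ {1, z} := fun q hq => by
        simpa using hint q ⟨hq.2, hq.1⟩
      have := Set.ncard_le_ncard hsub
      rw [← Nat.card_coe_set_eq] at this
      exact this.trans ((Set.ncard_insert_le _ _).trans (by simp))
    have h2 : Nat.card ↥(W2 ⊓ W) * W2.relIndex W = Nat.card W := by
      rw [← inf_relIndex_right]; exact Cfsg.Lib.Core.card_mul_relIndex inf_le_right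
    have h3 : Nat.card W * W2.relIndex Q = 32 := by
      rw [← hS.card, ← Cfsg.Lib.Core.card_mul_relIndex hW2Q, Cfsg.Lib.Sig.card_map_conj]
    have h4 : W2.relIndex W ≤ W2.relIndex Q := relIndex_le_of_le_right hWQ (fun h => by rw [h] at h3; simp at h3)
    have h5 : Nat.card W * Nat.card W ≤ 64 := by
      calc Nat.card W * Nat.card W ≤ Nat.card W * (2 * W2.relIndex Q) :=
            Nat.mul_le_mul_left _ (h2 ▸ Nat.mul_le_mul hi2 h4)
        _ = 2 * (Nat.card W * W2.relIndex Q) := by ring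
        _ = 64 := by rw [h3]
    have h6 : 64 ≤ Nat.card W * Nat.card W := by
      calc 64 = 2 * (Nat.card W * W.relIndex Q) := by rw [hWW]
        _ ≤ 2 * (Nat.card W * (zpowers z).relIndex W) := by gcongr
        _ = Nat.card W * Nat.card W := by rw [mul_left_comm, hZW]
    rcases lt_trichotomy (Nat.card W) 8 with h | h | h
    · nlinarith
    · exact h
    · nlinarith
  have hqeq : (zpowers z).relIndex W = W.relIndex Q := by rw [hW8] at hWW hZW; omega
  have hFb := (Nat.bijective_iff_injective_and_card F).2 ⟨hF, hqeq.symm⟩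
  have hkey : ∀ d ∈ Q, (d * z)⁻¹ = d⁻¹ * z := fun d hd => by
    rw [mul_inv_rev, hX.inv_z, (hX.central _ (inv_mem hd)).eq]
  have hWinv : ∀ w ∈ W, t * w * t⁻¹ = w⁻¹ := by
    intro w hw
    obtain ⟨q, hq⟩ := hFb.2 ((⟨w, hw⟩ : W) : W ⧸ Z')
    induction q using Quotient.inductionOn with
    | _ q =>
    have h0 : ((⟨δ (q : G), hδW _ q.2⟩ : W) : W ⧸ Z') = ((⟨w, hw⟩ : W) : W ⧸ Z') := hq
    have h1 := QuotientGroup.eq.1 h0
    have h' : (δ (q : G))⁻¹ * w ∈ zpowers z := h1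
    rcases hzpow _ h' with e | e
    · rw [← inv_mul_eq_one.1 e]; exact hδinv q
    · rw [inv_mul_eq_iff_eq_mul.1 e, show t * (δ (q : G) * z) * t⁻¹ = t * δ (q : G) * t⁻¹ * (t * z * t⁻¹) by group,
        hδinv, mul_inv_eq_iff_eq_mul.2 hzt.eq, hkey _ (hδQ _ q.2)]
  have hWab : ∀ a ∈ W, ∀ b ∈ W, Commute a b := by
    intro a ha b hb
    have h := hWinv _ (mul_mem ha hb)
    rw [show t * (a * b) * t⁻¹ = t * a * t⁻¹ * (t * b * t⁻¹) by group, hWinv a ha, hWinv b hb,
      ← mul_inv_rev, inv_inj] at h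
    exact h.symm
  have hcomm_iff : ∀ w ∈ W, Commute w t ↔ w * w = 1 := fun w hw => by
    have hh := hWinv w hw
    constructor
    · intro h
      rw [mul_inv_eq_iff_eq_mul.2 h.symm.eq] at hh
      exact (mul_eq_one_iff_eq_inv).2 hh
    · intro h
      rw [inv_eq_of_mul_eq_one_right h] at hh
      exact (mul_inv_eq_iff_eq_mul.1 hh).symm
  -- an element of order four
  obtain ⟨w0, hw0, hw0z⟩ : ∃ w0 ∈ W, w0 * w0 = z := by
    by_contra hcon
    push Not at hcon
    have hsq : ∀ w ∈ W, w * w = 1 := fun w hw => (hX.sq w hw.1).resolve_right (hcon w hw)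
    obtain ⟨a, ha, hane⟩ : ∃ a ∈ W, a ∉ ({1, z} : Set G) := by
      by_contra h; push Not at h
      have h' := Set.ncard_le_ncard (show (W : Set G) ⊆ {1, z} from h)
      rw [← Nat.card_coe_set_eq] at h'
      have h2 : ({1, z} : Set G).ncard ≤ 2 := (Set.ncard_insert_le _ _).trans (by simp)
      change Nat.card W ≤ _ at h'
      omega
    obtain ⟨b, hb, hbne⟩ : ∃ b ∈ W, b ∉ ({1, z, a, z * a} : Set G) := by
      by_contra h; push Not at h
      have h' := Set.ncard_le_ncard (show (W : Set G) ⊆ {1, z, a, z * a} from h)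
      rw [← Nat.card_coe_set_eq] at h'
      have h2 : ({1, z, a, z * a} : Set G).ncard ≤ 4 :=
        (Set.ncard_insert_le _ _).trans (Nat.succ_le_succ ((Set.ncard_insert_le _ _).trans
          (Nat.succ_le_succ ((Set.ncard_insert_le _ _).trans (by simp)))))
      change Nat.card W ≤ _ at h'
      omega
    simp only [Set.mem_insert_iff, Set.mem_singleton_iff, not_or] at hane hbne
    rcases hS.nci_commute (a := a) (b := b) ⟨ha.1, hsq a ha, hane.1, hane.2⟩ ⟨hb.1, hsq b hb, hbne.1, hbne.2.1⟩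
      (hWab a ha b hb) with h | h
    exacts [hbne.2.2.1 h, hbne.2.2.2 h]
  have hdec : ∀ w ∈ W, ∃ a ∈ W, a * a = 1 ∧ (w = a ∨ w = w0 * a) := by
    intro w hw
    rcases hX.sq w hw.1 with h | h
    · exact ⟨w, hw, h, Or.inl rfl⟩
    · refine ⟨w0⁻¹ * w, mul_mem (inv_mem hw0) hw, ?_, Or.inr (by group)⟩
      rw [((hWab _ hw0 _ hw).inv_left).symm.mul_mul_mul_comm, ← mul_inv_rev, hw0z, h, hX.inv_z, hX.sq_z]
  obtain ⟨e, heW, he2, he⟩ : ∃ e ∈ W, e * e = 1 ∧ e ∉ ({1, z} : Set G) := by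
    by_contra h; push Not at h
    have h' := Set.ncard_le_ncard (show (W : Set G) ⊆ {1, z, w0 * 1, w0 * z} from fun w hw => by
      obtain ⟨a, ha, ha2, hwa⟩ := hdec w hw
      have := h a ha ha2
      simp only [Set.mem_insert_iff, Set.mem_singleton_iff] at this
      rcases hwa with rfl | rfl <;> rcases this with e | e <;> simp [e])
    rw [← Nat.card_coe_set_eq] at h'
    have h2 : ({1, z, w0 * 1, w0 * z} : Set G).ncard ≤ 4 :=
      (Set.ncard_insert_le _ _).trans (Nat.succ_le_succ ((Set.ncard_insert_le _ _).trans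
        (Nat.succ_le_succ ((Set.ncard_insert_le _ _).trans (by simp)))))
    change Nat.card W ≤ _ at h'
    omega
  simp only [Set.mem_insert_iff, Set.mem_singleton_iff, not_or] at he
  refine ⟨W, e, ⟨heW.1, he2, he.1, he.2⟩, hW, hW8, hWinv, fun w hw => ?_, hWab, heW, fun x hx => ?_⟩
  · -- every element of `W` is a commutator with `t`
    obtain ⟨q, hq⟩ := hFb.2 ((⟨w, hw⟩ : W) : W ⧸ Z')
    induction q using Quotient.inductionOn with
    | _ q =>
    have hd : ∀ p, p * t * p⁻¹ * t⁻¹ = δ p := fun p => by simp only [δ]; group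
    have h0 : ((⟨δ (q : G), hδW _ q.2⟩ : W) : W ⧸ Z') = ((⟨w, hw⟩ : W) : W ⧸ Z') := hq
    have h1 := QuotientGroup.eq.1 h0
    have h' : (δ (q : G))⁻¹ * w ∈ zpowers z := h1
    rcases hzpow _ h' with e1 | e1
    · exact ⟨q, q.2, by rw [hd, inv_mul_eq_one.1 e1]⟩
    · refine ⟨q * w0, mul_mem q.2 hw0.1, ?_⟩
      have hw0δ : δ w0 = z := by
        simp only [δ]; rw [hWinv w0 hw0, inv_inv, hw0z]
      rw [hd, hδmul _ _ q.2 hw0, hw0δ, inv_mul_eq_iff_eq_mul.1 e1, (hX.central _ (hδQ _ q.2)).eq]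
  · constructor
    · intro h
      have hxW : x ∈ W := ⟨hx, Or.inl (mul_inv_eq_iff_eq_mul.2 h.symm.eq)⟩
      have hx2 := (hcomm_iff x hxW).1 h
      by_cases h1 : x = 1; · exact Or.inl h1
      by_cases h2 : x = z; · exact Or.inr (Or.inl h2)
      rcases hS.nci_commute (a := e) (b := x) ⟨heW.1, he2, he.1, he.2⟩ ⟨hx, hx2, h1, h2⟩ (hWab e heW x hxW)
        with h | h
      exacts [Or.inr (Or.inr (Or.inl h)), Or.inr (Or.inr (Or.inr h))]
    · rintro (rfl | rfl | rfl | rfl)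
      exacts [Commute.one_left t, hzt.symm, (hcomm_iff _ heW).2 he2, hzt.symm.mul_left ((hcomm_iff _ heW).2 he2)]

omit hS in
/-- A commutator with an element of order three that it fixes has order dividing three. -/
theorem eq_one_of_cube {d w c : G} (hd : d ^ 3 = 1) (h : d * w * d⁻¹ = c * w) (hc : Commute d c)
    (h4 : c ^ 4 = 1) : c = 1 := by
  have hcd : d * c * d⁻¹ = c := mul_inv_eq_iff_eq_mul.2 hc.eq
  have e2 : ∀ x, d * (c * x) * d⁻¹ = c * (d * x * d⁻¹) := fun x => by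
    rw [show d * (c * x) * d⁻¹ = d * c * d⁻¹ * (d * x * d⁻¹) by group, hcd]
  have e : d ^ 3 * w * (d ^ 3)⁻¹ = c ^ 3 * w := by
    calc d ^ 3 * w * (d ^ 3)⁻¹ = d * (d * (d * w * d⁻¹) * d⁻¹) * d⁻¹ := by
          rw [pow_three]; simp only [mul_inv_rev, mul_assoc]
      _ = c ^ 3 * w := by rw [h, e2, h, e2, e2, h, pow_three]; simp only [mul_assoc]
  rw [hd] at e
  have h3 : c ^ 3 = 1 := by simpa using e.symm
  calc c = c ^ 4 * (c ^ 3)⁻¹ := by group
    _ = 1 := by rw [h4, h3]; simp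

omit hS in
/-- An element of order two in a group of elements fixed by an automorphism of order three. -/
theorem fix_of_index_two {K W : Subgroup G} (hle : K ≤ W) (hcard : Nat.card W = 2 * Nat.card K) {d : G}
    (hd : d ^ 3 = 1) (hdW : ∀ w ∈ W, d * w * d⁻¹ ∈ W) (hdK : ∀ k ∈ K, Commute d k)
    (h4 : ∀ k ∈ K, k ^ 4 = 1) : ∀ w ∈ W, Commute d w := by
  intro w hw
  by_cases hwK : w ∈ K
  · exact hdK w hwK
  have hi : (K.subgroupOf W).index = 2 := by
    have h := Cfsg.Lib.Core.card_mul_relIndex hle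
    rw [hcard, mul_comm 2] at h
    exact Nat.eq_of_mul_eq_mul_left Nat.card_pos h
  have hnK : d * w * d⁻¹ ∉ K := fun h => hwK (by
    have e : w = d * w * d⁻¹ := by
      calc w = d⁻¹ * (d * w * d⁻¹) * d := by group
        _ = d * w * d⁻¹ := by rw [mul_assoc d⁻¹, ← (hdK _ h).eq, inv_mul_cancel_left]
    exact e.symm ▸ h)
  have hk : d * w * d⁻¹ * w⁻¹ ∈ K :=
    (mul_mem_iff_of_index_two hi (a := ⟨_, hdW w hw⟩) (b := (⟨w, hw⟩ : W)⁻¹)).2
      (iff_of_false hnK fun h => hwK ((inv_mem_iff (H := K)).1 h))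
  have hdw : d * w * d⁻¹ = d * w * d⁻¹ * w⁻¹ * w := by group
  rw [eq_one_of_cube hd hdw (hdK _ hk) (h4 _ hk), one_mul] at hdw
  exact mul_inv_eq_iff_eq_mul.1 hdw

/-- Elements of `Q` inverted by `u` are fixed modulo the centre. -/
theorem Setup.inW_of_inv {u q : G} (hq : q ∈ Q) (h : u * q * u⁻¹ = q⁻¹) : InW z Q u q := by
  refine ⟨hq, ?_⟩
  rw [h]
  rcases hS.ctx.sq q hq with e | e
  · exact Or.inl (inv_eq_of_mul_eq_one_right e)
  · exact Or.inr (inv_eq_of_mul_eq_one_left (by rw [mul_assoc, e, hS.ctx.sq_z]))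

theorem Setup.pow_four {q : G} (hq : q ∈ Q) : q ^ 4 = 1 := by
  rw [show (4 : ℕ) = 2 * 2 from rfl, pow_mul, pow_two q]
  rcases hS.ctx.sq q hq with e | e <;> rw [e]
  · rw [one_pow]
  · rw [pow_two, hS.ctx.sq_z]

theorem Setup.conj_coset {t u : G} (ht : Outer z Q t) (hu : Outer z Q u) (h : u * t ∈ Q) :
    ∃ p ∈ Q, p * t * p⁻¹ = u := by
  obtain ⟨W, e, -, hW, -, -, hp, -⟩ := hS.outer_W ht
  obtain ⟨ht2, -⟩ := mul_self_of_order_two ht.1
  have hti : t⁻¹ = t := inv_eq_of_mul_eq_one_right ht2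
  have hui : u⁻¹ = u := inv_eq_of_mul_eq_one_right (mul_self_of_order_two hu.1).1
  have hinv : t * (u * t) * t⁻¹ = (u * t)⁻¹ := by rw [mul_inv_rev, hui, hti, mul_assoc, mul_assoc, ht2, mul_one]
  obtain ⟨p, hpQ, he⟩ := hp _ ((hW _).2 (hS.inW_of_inv h hinv))
  refine ⟨p, hpQ, ?_⟩
  have := mul_inv_eq_iff_eq_mul.1 he
  rwa [mul_assoc u, ht2, mul_one] at this

theorem Setup.outer_conj {t u : G} (ht : Outer z Q t) (hu : Outer z Q u) :
    ∃ h, Commute h z ∧ h * t * h⁻¹ = u := by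
  obtain ⟨φ, hφ, hker⟩ := hS.proj
  have hinv : ∀ {x : G} (hx : Outer z Q x), φ ⟨x, mem_centralizer_singleton_iff.2 hx.2.1⟩ *
      φ ⟨x, mem_centralizer_singleton_iff.2 hx.2.1⟩ = 1 ∧ φ ⟨x, mem_centralizer_singleton_iff.2 hx.2.1⟩ ≠ 1 :=
    fun {x} hx => ⟨by rw [← map_mul, show (⟨x, _⟩ : centralizer ({z} : Set G)) * ⟨x, _⟩ = 1 from
      Subtype.ext (mul_self_of_order_two hx.1).1, map_one], fun h => hx.2.2 ((hker _).1 h)⟩
  obtain ⟨c, hc⟩ := a5_invol_conj _ _ (hinv ht).1 (hinv ht).2 (hinv hu).1 (hinv hu).2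
  obtain ⟨g, rfl⟩ := hφ c
  have hgz : Commute (g : G) z := mem_centralizer_singleton_iff.1 g.2
  set t1 := (g : G) * t * (g : G)⁻¹ with ht1
  have ht1o : Outer z Q t1 := by
    refine ⟨by rw [ht1, Cfsg.Lib.Invol.orderOf_conj_eq, ht.1], (hgz.mul_left ht.2.1).mul_left hgz.inv_left,
      fun h => ht.2.2 ?_⟩
    exact (mem_normalizer_iff.1 (hS.ctx.norm _ hgz) t).2 h
  have hq : u * t1 ∈ Q := by
    have hu2 := (hinv hu).1
    have := (hker (⟨u, mem_centralizer_singleton_iff.2 hu.2.1⟩ *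
      (g * ⟨t, mem_centralizer_singleton_iff.2 ht.2.1⟩ * g⁻¹))).1 (by
        rw [map_mul, map_mul φ (g * _), map_mul φ g, map_inv, hc, hu2])
    simpa using this
  obtain ⟨p, hp, e⟩ := hS.conj_coset ht1o hu hq
  refine ⟨p * g, (hS.ctx.central p hp).symm.mul_left hgz, ?_⟩
  rw [← e, ht1]; group

/-- The noncentral involution fixed by `t` determines its fixed points on `Q`. -/
theorem Setup.fix_Q {t e : G} (ht : Outer z Q t) (he : e ∈ nci Q z) (hc : Commute e t) :
    ∀ x ∈ Q, (Commute x t ↔ x = 1 ∨ x = z ∨ x = e ∨ x = z * e) := by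
  obtain ⟨W, e', -, -, -, -, -, -, -, hC⟩ := hS.outer_W ht
  intro x hx
  rcases (hC e he.1).1 hc with h | h | h | h
  · exact absurd h he.2.2.1
  · exact absurd h he.2.2.2
  · rw [h]; exact hC x hx
  · rw [h, hS.z_mul]; exact (hC x hx).trans ⟨fun h => by tauto, fun h => by tauto⟩

/-- Two outer involutions commuting modulo `Q` have the same fixed points on `Q`. -/
theorem Setup.commute_nci {t u e : G} (ht : Outer z Q t) (hu : Outer z Q u) (he : e ∈ nci Q z)
    (hc : Commute e t) (h : u * t * u⁻¹ * t ∈ Q) : Commute e u := by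
  have hX := hS.ctx
  obtain ⟨W, -, -, hW, -, hinv, -⟩ := hS.outer_W hu
  have hn := mem_normalizer_iff.1 (hX.norm u hu.2.1)
  have ht' : Outer z Q (u * t * u⁻¹) := ⟨by rw [Cfsg.Lib.Invol.orderOf_conj_eq, ht.1],
    (hu.2.1.mul_left ht.2.1).mul_left hu.2.1.inv_left, fun h' => ht.2.2 ((hn t).2 h')⟩
  obtain ⟨p, hp, hpt⟩ := hS.conj_coset ht ht' h
  have hx : u * e * u⁻¹ ∈ Q := (hn e).1 he.1
  have hy : p⁻¹ * (u * e * u⁻¹) * p ∈ Q := mul_mem (mul_mem (inv_mem hp) hx) hp
  have hyt : Commute (p⁻¹ * (u * e * u⁻¹) * p) t := by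
    have h1 : Commute (u * e * u⁻¹) (p * t * p⁻¹) := by
      rw [hpt]
      show u * e * u⁻¹ * (u * t * u⁻¹) = u * t * u⁻¹ * (u * e * u⁻¹)
      calc u * e * u⁻¹ * (u * t * u⁻¹) = u * (e * t) * u⁻¹ := by group
        _ = u * t * u⁻¹ * (u * e * u⁻¹) := by rw [hc.eq]; group
    calc p⁻¹ * (u * e * u⁻¹) * p * t = p⁻¹ * (u * e * u⁻¹ * (p * t * p⁻¹)) * p := by group
      _ = t * (p⁻¹ * (u * e * u⁻¹) * p) := by rw [h1.eq]; group
  have hxe : u * e * u⁻¹ = p * (p⁻¹ * (u * e * u⁻¹) * p) * p⁻¹ := by group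
  have hin : InW z Q u e := by
    refine ⟨he.1, ?_⟩
    rcases (hS.fix_Q ht he hc _ hy).1 hyt with h' | h' | h' | h' <;> rw [h'] at hxe
    · rw [mul_one, mul_inv_cancel] at hxe; exact absurd (conj_eq_one_iff.1 hxe) he.2.2.1
    · refine absurd ?_ he.2.2.2
      rw [mul_inv_eq_iff_eq_mul.2 (hX.central p hp).symm.eq] at hxe
      rw [← mul_left_cancel_iff (a := u), mul_inv_eq_iff_eq_mul.1 hxe, hu.2.1.eq]
    · rw [hxe]; exact hS.q_conj hp he.1
    · rw [hS.conj_z_mul (hX.central p hp).symm] at hxe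
      rcases hS.q_conj hp he.1 with e1 | e1 <;> rw [e1] at hxe
      · exact Or.inr hxe
      · exact Or.inl (hxe.trans hS.z_mul)
  have h2 := hinv e ((hW e).2 hin)
  rw [inv_eq_of_mul_eq_one_right he.2.1] at h2
  exact (mul_inv_eq_iff_eq_mul.1 h2).symm

/-- The centralizer in `C(z)` of an involution outside `Q`. -/
theorem Setup.frame {t : G} (ht : Outer z Q t) : ∃ e ∈ nci Q z, Commute e t ∧
    Nat.card ↥(centralizer ({z} : Set G) ⊓ centralizer {t}) = 16 ∧
    ∀ x, Commute x z → Commute x t → x * x = 1 ∧ (x ∈ Q → x = 1 ∨ x = z ∨ x = e ∨ x = z * e) := by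
  classical
  have hX := hS.ctx
  obtain ⟨Wt, e, he, hWt, hWt8, hWtinv, -, -, heW, hCt⟩ := hS.outer_W ht
  have het : Commute e t := (hCt e he.1).2 (by simp)
  obtain ⟨φ, hφ, hker⟩ := hS.proj
  have hker' : ∀ {a : G} (ha : a ∈ centralizer ({z} : Set G)), φ ⟨a, ha⟩ = 1 ↔ a ∈ Q := fun ha => hker _
  let t' : centralizer ({z} : Set G) := ⟨t, mem_centralizer_singleton_iff.2 ht.2.1⟩
  obtain ⟨ht2, -⟩ := mul_self_of_order_two ht.1
  have htt' : t' * t' = 1 := Subtype.ext ht2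
  have hx2 : φ t' * φ t' = 1 := by rw [← map_mul, htt', map_one]
  have hx1 : φ t' ≠ 1 := fun h => ht.2.2 ((hker t').1 h)
  obtain ⟨d5, y, hd3, hd1, hy2, hy1, hyx, hyc, hdx, hdy, hdxy⟩ := a5_cycle _ hx2 hx1
  obtain ⟨d0, hd0⟩ := hφ d5
  let d' : centralizer ({z} : Set G) := d0 ^ 4
  have hφd : φ d' = d5 := by rw [map_pow, hd0, pow_succ, hd3, one_mul]
  have hd' : d' ^ 3 = 1 := by
    apply Subtype.ext
    have hm : ((d0 ^ 3 : centralizer ({z} : Set G)) : G) ∈ Q := (hker _).1 (by rw [map_pow, hd0, hd3])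
    have := hS.pow_four hm
    rw [← SubgroupClass.coe_pow, ← pow_mul] at this
    rw [← pow_mul]; exact this
  let u' := d' * t' * d'⁻¹
  let v' := d' * u' * d'⁻¹
  have hφu : φ u' = y := by simp only [u', map_mul, map_inv, hφd, hdx]
  have hφv : φ v' = φ t' * y := by simp only [v', map_mul, map_inv, hφd, hφu, hdy]
  obtain ⟨d, hdd⟩ : ∃ d, d = (d' : G) := ⟨_, rfl⟩
  obtain ⟨u, huu⟩ : ∃ u, u = d * t * d⁻¹ := ⟨_, rfl⟩
  obtain ⟨v, hvv⟩ : ∃ v, v = d * u * d⁻¹ := ⟨_, rfl⟩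
  have hd3' : d ^ 3 = 1 := by rw [hdd, ← SubgroupClass.coe_pow, hd', OneMemClass.coe_one]
  have hdz : Commute d z := hdd ▸ mem_centralizer_singleton_iff.1 d'.2
  have hue : u = (u' : G) := by rw [huu, hdd]; rfl
  have hve : v = (v' : G) := by rw [hvv, hue, hdd]; rfl
  have hu : Outer z Q u := ⟨by rw [huu, Cfsg.Lib.Invol.orderOf_conj_eq, ht.1],
    hue ▸ mem_centralizer_singleton_iff.1 u'.2, fun h => hy1 (hφu ▸ (hker u').2 (hue ▸ h))⟩
  have hv : Outer z Q v := ⟨by rw [hvv, Cfsg.Lib.Invol.orderOf_conj_eq, hu.1],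
    hve ▸ mem_centralizer_singleton_iff.1 v'.2,
    fun h => hyx (by
      have h' : φ v' = 1 := (hker v').2 (hve ▸ h)
      rw [hφv] at h'
      calc y = φ t' * (φ t' * y) := by rw [← mul_assoc, hx2, one_mul]
        _ = φ t' := by rw [h', mul_one])⟩
  have hdv : d * v * d⁻¹ = t := by
    calc d * v * d⁻¹ = d ^ 3 * t * (d ^ 3)⁻¹ := by rw [hvv, huu, pow_three]; simp only [mul_inv_rev, mul_assoc]
      _ = t := by rw [hd3']; simp
  -- the fixed point `e` is common
  have hct : ∀ a' : centralizer ({z} : Set G), φ a' * φ t' = φ t' * φ a' → (a' : G) * t * (a' : G)⁻¹ * t ∈ Q := by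
    intro a' ha
    have := (hker (a' * t' * a'⁻¹ * t')).1 (by
      rw [map_mul, map_mul φ (a' * t'), map_mul φ a', map_inv, ha, mul_assoc (φ t') (φ a'),
        mul_inv_cancel, mul_one, hx2])
    simpa [t'] using this
  have heu : Commute e u := hS.commute_nci ht hu he het (hue ▸ hct u' (by rw [hφu, hyc]))
  have hev : Commute e v := hS.commute_nci ht hv he het (hve ▸ hct v' (by rw [hφv, mul_assoc, hyc]))
  have hde : Commute d e := by
    have hm : d * e * d⁻¹ ∈ Q := (mem_normalizer_iff.1 (hX.norm d hdz) e).1 he.1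
    have hc : Commute (d * e * d⁻¹) u := by
      rw [huu]
      calc d * e * d⁻¹ * (d * t * d⁻¹) = d * (e * t) * d⁻¹ := by group
        _ = d * t * d⁻¹ * (d * e * d⁻¹) := by rw [het.eq]; group
    rcases (hS.fix_Q hu he heu _ hm).1 hc with h | h | h | h
    · exact absurd (conj_eq_one_iff.1 h) he.2.2.1
    · exact absurd (mul_left_cancel (a := d) (by rw [mul_inv_eq_iff_eq_mul.1 h, hdz.eq])) he.2.2.2
    · exact mul_inv_eq_iff_eq_mul.1 h
    · exfalso
      have e3 : d ^ 3 * e * (d ^ 3)⁻¹ = z * e := by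
        calc d ^ 3 * e * (d ^ 3)⁻¹ = d * (d * (d * e * d⁻¹) * d⁻¹) * d⁻¹ := by
              rw [pow_three]; simp only [mul_inv_rev, mul_assoc]
          _ = z * e := by rw [h, hS.conj_z_mul hdz, h, hS.z_mul, h]
      rw [hd3'] at e3
      exact hX.ne_one (by simpa using e3.symm)
  -- the fixed points of `e` and of `t`
  let K : Subgroup G := Q ⊓ centralizer {t}
  let R : Subgroup G := Q ⊓ centralizer {e}
  have hK : ∀ x, x ∈ K ↔ x = 1 ∨ x = z ∨ x = e ∨ x = z * e := fun x => by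
    refine ⟨fun h => (hCt x h.1).1 (mem_centralizer_singleton_iff.1 h.2), fun h => ?_⟩
    have hxQ : x ∈ Q := by rcases h with rfl | rfl | rfl | rfl; exacts [one_mem _, hX.mem, he.1, mul_mem hX.mem he.1]
    exact ⟨hxQ, mem_centralizer_singleton_iff.2 ((hCt x hxQ).2 h)⟩
  have hK4 : Nat.card K = 4 := by
    have hs : (K : Set G) = {1, z, e, z * e} := by
      ext x; simpa using hK x
    change Nat.card (K : Set G) = 4
    rw [hs, Nat.card_coe_set_eq, Set.ncard_eq_toFinset_card']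
    have h1 : (1 : G) ≠ z * e := fun h => he.2.2.2 (mul_left_cancel (a := z) (h.symm.trans hX.sq_z.symm))
    have h2 : z ≠ z * e := fun h => he.2.2.1 (mul_eq_left.1 h.symm)
    have h3 : e ≠ z * e := fun h => hX.ne_one (mul_eq_right.1 h.symm)
    simp [Ne.symm hX.ne_one, Ne.symm he.2.2.1, Ne.symm he.2.2.2, h1, h2, h3]
  have hKc : ∀ {a}, Commute e a → Commute a z → ∀ k ∈ K, Commute k a := fun hea haz k hk => by
    rcases (hK k).1 hk with rfl | rfl | rfl | rfl
    exacts [Commute.one_left _, haz.symm, hea, haz.symm.mul_left hea]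
  have hKR : K ≤ R := fun x hx => ⟨hx.1, mem_centralizer_singleton_iff.2
    (hKc (Commute.refl e) (hX.central e he.1).symm x hx).eq⟩
  have hiR : (R.subgroupOf Q).index = 2 := by
    obtain ⟨a, ha, hae⟩ := hX.exists_move he.1 he.2.2.1 he.2.2.2
    refine index_eq_two_iff.2 ⟨⟨a, ha⟩, fun b => ?_⟩
    have key : ∀ q ∈ Q, q ∈ R ↔ q * e * q⁻¹ = e := fun q hq =>
      ⟨fun h => mul_inv_eq_iff_eq_mul.2 (mem_centralizer_singleton_iff.1 h.2),
        fun h => ⟨hq, mem_centralizer_singleton_iff.2 (mul_inv_eq_iff_eq_mul.1 h)⟩⟩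
    have hbz := (hX.central _ b.2).symm
    have e1 : ((b * ⟨a, ha⟩ : Q) : G) * e * ((b * ⟨a, ha⟩ : Q) : G)⁻¹ = z * ((b : G) * e * (b : G)⁻¹) := by
      rw [Subgroup.coe_mul, show (b : G) * a * e * ((b : G) * a)⁻¹ = (b : G) * (a * e * a⁻¹) * (b : G)⁻¹ by group, hae,
        hS.conj_z_mul hbz]
    rw [mem_subgroupOf, mem_subgroupOf, key _ (b * ⟨a, ha⟩ : Q).2, key _ b.2, e1, xor_iff_iff_not]
    rcases hS.q_conj b.2 he.1 with h | h <;> rw [h]
    · simp [hX.ne_one]
    · simp [hX.ne_one, hS.z_mul]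
  have hR16 : Nat.card R = 16 := by
    have h : Nat.card R * (R.subgroupOf Q).index = Nat.card Q :=
      Cfsg.Lib.Core.card_mul_relIndex (inf_le_left : R ≤ Q)
    rw [hiR, hS.card] at h; omega
  obtain ⟨Wu, -, -, hWu, hWu8, hWuinv, -, hWuab, -, -⟩ := hS.outer_W hu
  have heWu : e ∈ Wu := (hWu e).2 ⟨he.1, Or.inl (mul_inv_eq_iff_eq_mul.2 heu.symm.eq)⟩
  have hKW : ∀ {a : G} {W : Subgroup G}, (∀ q, q ∈ W ↔ InW z Q a q) → Commute e a → Commute a z → K ≤ W :=
    fun hW hea haz x hx => (hW x).2 ⟨hx.1, Or.inl (mul_inv_eq_iff_eq_mul.2 (hKc hea haz x hx).symm.eq)⟩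
  have hWuR : Wu ≤ R := fun w hw => ⟨((hWu w).1 hw).1, mem_centralizer_singleton_iff.2 (hWuab w hw e heWu).eq⟩
  -- `d` does not centralize `R`
  have hne : ¬ Wt ≤ Wu := by
    intro hle
    have hEq : Wt = Wu := eq_of_le_of_card_ge hle (by rw [hWt8, hWu8])
    have hdW : ∀ w ∈ Wt, d * w * d⁻¹ ∈ Wt := fun w hw => by
      have h1 := ((hWt w).1 hw).conj d hdz (hX.norm d hdz)
      rw [← huu] at h1
      rw [hEq]; exact (hWu _).2 h1
    have h1 := fix_of_index_two (hKW hWt het ht.2.1) (by rw [hWt8, hK4]) hd3' hdW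
      (fun k hk => (hKc hde.symm hdz k hk).symm) fun k hk => hS.pow_four hk.1
    have hWtR : Wt ≤ R := hEq ▸ hWuR
    have hdR : ∀ r ∈ R, d * r * d⁻¹ ∈ R := fun r hr => by
      refine ⟨(mem_normalizer_iff.1 (hX.norm d hdz) r).1 hr.1, mem_centralizer_singleton_iff.2 ?_⟩
      have hre : Commute r e := mem_centralizer_singleton_iff.1 hr.2
      exact (((hde.mul_left hre).mul_left hde.inv_left)).eq
    have h2 := fix_of_index_two hWtR (by rw [hR16, hWt8]) hd3' hdR h1 fun k hk => hS.pow_four ((hWt k).1 hk).1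
    -- then `d` centralizes `Q`
    have h3 : ∀ q ∈ Q, Commute d q := by
      intro q hq
      have hdq := (mem_normalizer_iff.1 (hX.norm d hdz) q).1 hq
      obtain ⟨c, hc, hce⟩ : ∃ c ∈ Q, d * q * d⁻¹ = c * q :=
        ⟨d * q * d⁻¹ * q⁻¹, mul_mem hdq (inv_mem hq), by group⟩
      have hcc : c ∈ R := by
        refine ⟨hc, mem_centralizer_singleton_iff.2 ?_⟩
        obtain ⟨e1, he1, he1'⟩ : ∃ e1 ∈ R, q * e * q⁻¹ = e1 := by
          refine ⟨_, ?_, rfl⟩
          rcases hS.q_conj hq he.1 with h | h <;> rw [h]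
          · exact hKR ((hK e).2 (by simp))
          · exact hKR ((hK (z * e)).2 (by simp))
        have e2 : c * e1 * c⁻¹ = e1 := by
          calc c * e1 * c⁻¹ = d * q * d⁻¹ * e * (d * q * d⁻¹)⁻¹ := by rw [hce, ← he1']; group
            _ = d * (q * (d⁻¹ * e * d) * q⁻¹) * d⁻¹ := by group
            _ = d * e1 * d⁻¹ := by rw [mul_assoc d⁻¹, ← hde.eq, inv_mul_cancel_left, he1']
            _ = e1 := mul_inv_eq_iff_eq_mul.2 (h2 _ he1).eq
        have e3 : q * e * q⁻¹ = e ∨ q * e * q⁻¹ = z * e := hS.q_conj hq he.1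
        rw [he1'] at e3
        rcases e3 with rfl | h
        · exact mul_inv_eq_iff_eq_mul.1 e2
        · rw [h, hS.conj_z_mul (hX.central c hc).symm] at e2
          exact mul_inv_eq_iff_eq_mul.1 (mul_left_cancel e2)
      have hc1 : c = 1 := eq_one_of_cube hd3' hce (h2 c hcc) (hS.pow_four hc)
      rw [hc1, one_mul] at hce
      exact mul_inv_eq_iff_eq_mul.1 hce
    have hdQ : d ∈ Q := by
      rcases hX.cent d h3 with h | h <;> rw [h]
      exacts [one_mem _, hX.mem]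
    exact hd1 (hφd ▸ (hker d').2 (hdd ▸ hdQ))
  -- `t` acts trivially on `R / K`
  have hint : Wt ⊓ Wu ≤ K := by
    intro w hw
    by_contra hwK
    refine hne fun x hx => ?_
    by_cases hxK : x ∈ K
    · exact hKW hWu heu hu.2.1 hxK
    have hi : (K.subgroupOf Wt).index = 2 := by
      have h := Cfsg.Lib.Core.card_mul_relIndex (hKW hWt het ht.2.1)
      rw [hWt8, hK4] at h
      change 4 * (K.subgroupOf Wt).index = 8 at h
      omega
    have hk : w⁻¹ * x ∈ K := (mul_mem_iff_of_index_two hi (a := (⟨w, hw.1⟩ : Wt)⁻¹) (b := ⟨x, hx⟩)).2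
      (iff_of_false (fun h => hwK ((inv_mem_iff (H := K)).1 h)) hxK)
    rw [show x = w * (w⁻¹ * x) by group]
    exact mul_mem hw.2 (hKW hWu heu hu.2.1 hk)
  obtain ⟨s, hs⟩ : ∃ s, s = t * u * v := ⟨_, rfl⟩
  have hsQ : s ∈ Q := by
    have := (hker (t' * u' * v')).1 (by
      rw [map_mul, map_mul, hφu, hφv, mul_assoc (φ t'), ← mul_assoc y, hyc, ← mul_assoc (φ t'), ← mul_assoc (φ t'),
        hx2, one_mul, hy2])
    rw [hs, hue, hve]; simpa [t'] using this
  have hsR : s ∈ R := ⟨hsQ, mem_centralizer_singleton_iff.2 (by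
    rw [hs]; exact (((het.mul_right heu).mul_right hev).symm).eq)⟩
  have htR : t * s * t⁻¹ ∈ R := ⟨(mem_normalizer_iff.1 (hX.norm t ht.2.1) s).1 hsR.1,
    mem_centralizer_singleton_iff.2
      (((het.symm.mul_left (mem_centralizer_singleton_iff.1 hsR.2)).mul_left het.symm.inv_left)).eq⟩
  have htWu : ∀ w ∈ Wu, t * w * t⁻¹ ∈ Wu := fun w hw => by
    have h1 := ((hWu w).1 hw).conj t ht.2.1 (hX.norm t ht.2.1)
    have m1 : t * u * t⁻¹ ∈ centralizer ({z} : Set G) :=
      mem_centralizer_singleton_iff.2 ((ht.2.1.mul_left hu.2.1).mul_left ht.2.1.inv_left).eq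
    have m2 : u ∈ centralizer ({z} : Set G) := mem_centralizer_singleton_iff.2 hu.2.1.eq
    have e0 : φ ⟨t * u * t⁻¹, m1⟩ = φ ⟨u, m2⟩ := by
      have e1 : (⟨t * u * t⁻¹, m1⟩ : centralizer ({z} : Set G)) = t' * u' * t'⁻¹ := Subtype.ext (by simp [t', hue])
      have e2 : (⟨u, m2⟩ : centralizer ({z} : Set G)) = u' := Subtype.ext hue
      rw [e1, e2, map_mul, map_mul, map_inv, hφu, ← hyc, mul_inv_cancel_right]
    exact (hWu _).2 ((inW_congr hS φ hker m1 m2 e0).1 h1)
  have hmov : s * (t * s * t⁻¹)⁻¹ ∈ K := by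
    refine hint ⟨(hWt _).2 (hS.inW_of_inv (mul_mem hsR.1 (inv_mem htR.1)) ?_), ?_⟩
    · calc t * (s * (t * s * t⁻¹)⁻¹) * t⁻¹ = t * s * t⁻¹ * ((t * t) * s⁻¹ * (t * t)⁻¹) := by group
        _ = _ := by rw [ht2]; group
    · show s * (t * s * t⁻¹)⁻¹ ∈ Wu
      by_cases hsW : s ∈ Wu
      · exact mul_mem hsW (inv_mem (htWu s hsW))
      have hi : (Wu.subgroupOf R).index = 2 := by
        have h := Cfsg.Lib.Core.card_mul_relIndex hWuR
        rw [hWu8, hR16] at h
        change 8 * (Wu.subgroupOf R).index = 16 at h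
        omega
      have hn : t * s * t⁻¹ ∉ Wu := fun h => hsW (by
        have h2 := htWu _ h
        rwa [show t * (t * s * t⁻¹) * t⁻¹ = (t * t) * s * (t * t)⁻¹ by group, ht2, one_mul, inv_one, mul_one] at h2)
      exact (mul_mem_iff_of_index_two hi (a := (⟨s, hsR⟩ : R)) (b := (⟨_, htR⟩ : R)⁻¹)).2
        (iff_of_false hsW fun h => hn ((inv_mem_iff (H := Wu)).1 h))
  have hdts : d * s * d⁻¹ = t * s * t⁻¹ := by
    calc d * s * d⁻¹ = d * t * d⁻¹ * (d * u * d⁻¹) * (d * v * d⁻¹) := by rw [hs]; group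
      _ = u * v * t := by rw [← huu, ← hvv, hdv]
      _ = t * s * t⁻¹ := by
        rw [hs, inv_eq_of_mul_eq_one_right ht2]; simp only [← mul_assoc]; rw [ht2, one_mul]
  have hst : t * s * t⁻¹ = s := by
    obtain ⟨k, hk, hke⟩ : ∃ k ∈ K, t * s * t⁻¹ = k * s := ⟨(s * (t * s * t⁻¹)⁻¹)⁻¹, inv_mem hmov, by group⟩
    rw [hke] at hdts ⊢
    have hk1 : k = 1 := eq_one_of_cube hd3' hdts (hKc hde.symm hdz k hk).symm (hS.pow_four hk.1)
    rw [hk1, one_mul]
  have hsK : s ∈ K := ⟨hsQ, mem_centralizer_singleton_iff.2 (mul_inv_eq_iff_eq_mul.1 hst).symm⟩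
  -- `u` commutes with `t`
  obtain ⟨hu2, -⟩ := mul_self_of_order_two hu.1
  obtain ⟨hv2, -⟩ := mul_self_of_order_two hv.1
  have hcut : Commute u t := by
    have hv' : v = u * t * s := by
      rw [hs]; calc v = u * ((t * t) * u) * v := by rw [ht2, one_mul, hu2, one_mul]
        _ = u * t * (t * u * v) := by group
    have hst' : Commute s t := hKc het ht.2.1 s hsK
    have hsu : Commute s u := hKc heu hu.2.1 s hsK
    have hs2 : s * s = 1 := by
      rcases (hK s).1 hsK with h | h | h | h <;> rw [h]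
      · rw [one_mul]
      · exact hX.sq_z
      · exact he.2.1
      · rw [(hX.central e he.1).symm.mul_mul_mul_comm, hX.sq_z, he.2.1, one_mul]
    have h1 : u * t * (u * t) = 1 := by
      have : u * t * s * (u * t * s) = 1 := hv' ▸ hv2
      rwa [(hsu.mul_right hst').mul_mul_mul_comm, hs2, mul_one] at this
    calc u * t = (u * t)⁻¹ := eq_inv_of_mul_eq_one_left h1
      _ = t * u := by rw [mul_inv_rev, inv_eq_of_mul_eq_one_right ht2, inv_eq_of_mul_eq_one_right hu2]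
  have hcvt : Commute v t := by
    have hv' : v = u * t * s := by
      rw [hs]; calc v = u * ((t * t) * u) * v := by rw [ht2, one_mul, hu2, one_mul]
        _ = u * t * (t * u * v) := by group
    rw [hv']; exact (hcut.mul_left (Commute.refl t)).mul_left (hKc het ht.2.1 s hsK)
  -- the centralizer of `t`
  have hcent : ∀ g : A5, g * φ t' = φ t' * g → g = 1 ∨ g = φ t' ∨ g = y ∨ g = φ t' * y := by
    intro g hg
    have hsub : ({1, φ t', y, φ t' * y} : Finset A5) ⊆ Finset.univ.filter fun a : A5 => a * φ t' = φ t' * a := by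
      intro a ha
      simp only [Finset.mem_insert, Finset.mem_singleton] at ha
      rw [Finset.mem_filter]
      refine ⟨Finset.mem_univ _, ?_⟩
      rcases ha with rfl | rfl | rfl | rfl
      · rw [one_mul, mul_one]
      · rfl
      · exact hyc
      · rw [mul_assoc, hyc]
    have h4 : ({1, φ t', y, φ t' * y} : Finset A5).card = 4 := by
      have h1 : (1 : A5) ≠ φ t' * y := fun h => hyx (by
        calc y = φ t' * (φ t' * y) := by rw [← mul_assoc, hx2, one_mul]
          _ = φ t' := by rw [← h, mul_one])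
      have h2 : φ t' ≠ φ t' * y := fun h => hy1 (mul_eq_left.1 h.symm)
      have h3 : y ≠ φ t' * y := fun h => hx1 (mul_eq_right.1 h.symm)
      simp [Ne.symm hx1, Ne.symm hy1, Ne.symm hyx, h1, h2, h3]
    have := Finset.eq_of_subset_of_card_le hsub (by rw [h4, a5_invol_centralizer _ hx2 hx1])
    have hgm : g ∈ ({1, φ t', y, φ t' * y} : Finset A5) := by rw [this]; simp [hg]
    simpa using hgm
  have hel : ∀ x, Commute x z → Commute x t → x * x = 1 := by
    intro x hxz hxt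
    let x' : centralizer ({z} : Set G) := ⟨x, mem_centralizer_singleton_iff.2 hxz⟩
    have hxx : φ x' * φ t' = φ t' * φ x' := by
      rw [← map_mul, ← map_mul, show x' * t' = t' * x' from Subtype.ext hxt]
    have hmain : ∀ a' : centralizer ({z} : Set G), (a' : G) * a' = 1 → Commute (a' : G) t → Commute e (a' : G) →
        φ x' = φ a' → x * x = 1 := by
      intro a' ha2 hat hae hφe
      have hk : x * (a' : G)⁻¹ ∈ K := ⟨(hker (x' * a'⁻¹)).1 (by rw [map_mul, map_inv, hφe, mul_inv_cancel]),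
        mem_centralizer_singleton_iff.2 (hxt.mul_left hat.inv_left).eq⟩
      obtain ⟨k, hk', hxk⟩ : ∃ k ∈ K, x = k * a' := ⟨_, hk, by group⟩
      have hka := hKc hae (mem_centralizer_singleton_iff.1 a'.2) k hk'
      rw [hxk, hka.symm.mul_mul_mul_comm, ha2, mul_one]
      rcases (hK k).1 hk' with h | h | h | h <;> rw [h]
      · rw [one_mul]
      · exact hX.sq_z
      · exact he.2.1
      · rw [(hX.central e he.1).symm.mul_mul_mul_comm, hX.sq_z, he.2.1, one_mul]
    rcases hcent _ hxx with h | h | h | h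
    · exact hmain 1 (by simp) (by simp) (by simp) (by rw [h, map_one])
    · exact hmain t' ht2 (Commute.refl t) het h
    · exact hmain u' (hue ▸ hu2) (hue ▸ hcut) (hue ▸ heu) (h.trans hφu.symm)
    · exact hmain v' (hve ▸ hv2) (hve ▸ hcvt) (hve ▸ hev) (h.trans hφv.symm)
  refine ⟨e, he, het, ?_, fun x hxz hxt => ⟨hel x hxz hxt, fun hx => (hCt x hx).1 hxt⟩⟩
  set C := centralizer ({z} : Set G) ⊓ centralizer {t} with hC
  rw [card_sub_eq hS φ hker C inf_le_left, card_A5_filter (fun a => a * φ t' = φ t' * a),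
    a5_invol_centralizer _ hx2 hx1]
  · have : C ⊓ Q = K := by
      ext x; exact ⟨fun h => ⟨h.2, h.1.2⟩, fun h => ⟨⟨hS.Q_le h.1, h.2⟩, h.1⟩⟩
    rw [this, hK4]
  · intro g
    constructor
    · rintro ⟨x, hx, rfl⟩
      rw [← map_mul, ← map_mul]
      exact congrArg φ (Subtype.ext (mem_centralizer_singleton_iff.1 hx.2))
    · intro hg
      have hmem : ∀ a' : centralizer ({z} : Set G), Commute (a' : G) t → φ a' ∈ (C.subgroupOf _).map φ :=
        fun a' h => mem_map_of_mem _ ⟨a'.2, mem_centralizer_singleton_iff.2 h⟩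
      rcases hcent g hg with rfl | rfl | rfl | rfl
      · exact one_mem _
      · exact hmem t' (Commute.refl t)
      · rw [← hφu]; exact hmem u' (hue ▸ hcut)
      · rw [← hφv]; exact hmem v' (hve ▸ hcvt)

/-- The centralizer in `C(z)` of an involution outside `Q` is elementary abelian of order 16. -/
theorem Setup.abelian16 {t : G} (ht : Outer z Q t) {a b : G} (ha : Commute a z) (ha' : Commute a t)
    (hb : Commute b z) (hb' : Commute b t) : Commute a b := by
  obtain ⟨e, -, -, -, hT⟩ := hS.frame ht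
  have h1 := (hT a ha ha').1
  have h2 := (hT b hb hb').1
  have h3 := (hT _ (ha.mul_left hb) (ha'.mul_left hb')).1
  calc a * b = (a * b)⁻¹ := eq_inv_of_mul_eq_one_left h3
    _ = b * a := by rw [mul_inv_rev, inv_eq_of_mul_eq_one_right h1, inv_eq_of_mul_eq_one_right h2]

/-- An involution of `C(z) ∩ C(t)` outside `Q` is moved to `t` within the normalizer of that subgroup. -/
theorem Setup.transitive {t x : G} (ht : Outer z Q t) (hxz : Commute x z) (hxt : Commute x t) (hxQ : x ∉ Q) :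
    ∃ h, Commute h z ∧ h * x * h⁻¹ = t ∧
      h ∈ normalizer ((centralizer ({z} : Set G) ⊓ centralizer {t} : Subgroup G) : Set G) := by
  obtain ⟨e, -, -, h16, hT⟩ := hS.frame ht
  have hx : Outer z Q x := ⟨order_two (hT x hxz hxt).1 (fun h => hxQ (h ▸ one_mem _)), hxz, hxQ⟩
  obtain ⟨h, hhz, hh⟩ := hS.outer_conj hx ht
  obtain ⟨ex, -, -, h16x, -⟩ := hS.frame hx
  have hEq : centralizer ({z} : Set G) ⊓ centralizer {x} = centralizer ({z} : Set G) ⊓ centralizer {t} := by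
    have hle : centralizer ({z} : Set G) ⊓ centralizer {t} ≤ centralizer ({z} : Set G) ⊓ centralizer {x} :=
      fun a ha => ⟨ha.1, mem_centralizer_singleton_iff.2
        (hS.abelian16 ht (mem_centralizer_singleton_iff.1 ha.1) (mem_centralizer_singleton_iff.1 ha.2) hxz hxt).eq⟩
    exact (eq_of_le_of_card_ge hle (by rw [h16, h16x])).symm
  refine ⟨h, hhz, hh, mem_normalizer_iff.2 fun a => ?_⟩
  have hm : ∀ w, a ∈ centralizer ({w} : Set G) ↔ h * a * h⁻¹ ∈ centralizer ({h * w * h⁻¹} : Set G) := fun w => by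
    rw [mem_centralizer_singleton_iff, mem_centralizer_singleton_iff,
      show h * a * h⁻¹ * (h * w * h⁻¹) = h * (a * w) * h⁻¹ by group,
      show h * w * h⁻¹ * (h * a * h⁻¹) = h * (w * a) * h⁻¹ by group, mul_left_inj, mul_right_inj]
  calc a ∈ centralizer ({z} : Set G) ⊓ centralizer {t} ↔ a ∈ centralizer ({z} : Set G) ⊓ centralizer {x} := by rw [hEq]
    _ ↔ _ := by
      rw [mem_inf, mem_inf, hm z, hm x, hh, mul_inv_eq_iff_eq_mul.2 hhz.eq]

end Cfsg.Lib.J2Type
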