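import Cfsg.Agent.Lib.J2Type.Frame

/-!
# Elements of odd order in `C(z)`
-/

set_option autoImplicit false
set_option linter.style.haveILetI false
set_option linter.unusedSectionVars false

namespace Cfsg.Lib.J2Type

open Cfsg Subgroup
open Cfsg.Lib.Extra (Ctx nci)

variable {G : Type*} [Group G] [Finite G] {z : G} {Q : Subgroup G}

/-- Counting the fixed points of a conjugation of prime order. -/
theorem card_modEq_fixed {p : ℕ} [Fact p.Prime] {h : G} (ho : orderOf h = p) (S : Set G)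
    (hc : ∀ x ∈ S, h * x * h⁻¹ ∈ S) : S.ncard ≡ {x ∈ S | Commute h x}.ncard [MOD p] := by
  classical
  have hn : ∀ g : zpowers h, ∀ x ∈ S, (g : G) * x * (g : G)⁻¹ ∈ S := by
    intro g x hx
    obtain ⟨n, hn⟩ := Submonoid.mem_powers_iff _ _ |>.1 ((isOfFinOrder_of_finite h).mem_powers_iff_mem_zpowers.2 g.2)
    rw [← hn]
    clear hn
    induction n with
    | zero => simpa using hx
    | succ n ih =>
      rw [show h ^ (n + 1) * x * (h ^ (n + 1))⁻¹ = h * (h ^ n * x * (h ^ n)⁻¹) * h⁻¹ by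
        rw [pow_succ']; group]
      exact hc _ ih
  letI : MulAction (zpowers h) S :=
    { smul := fun g x => ⟨(g : G) * (x : G) * (g : G)⁻¹, hn g x x.2⟩
      one_smul := fun x => Subtype.ext (show (1 : G) * (x : G) * (1 : G)⁻¹ = x by simp)
      mul_smul := fun g k x => Subtype.ext
        (show ((g : G) * k) * (x : G) * ((g : G) * k)⁻¹ = g * ((k : G) * (x : G) * (k : G)⁻¹) * (g : G)⁻¹ by group) }
  have hP : IsPGroup p (zpowers h) := IsPGroup.of_card (n := 1) (by rw [Nat.card_zpowers, ho, pow_one])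
  have h1 := hP.card_modEq_card_fixedPoints S
  have hfix : ∀ x : S, x ∈ MulAction.fixedPoints (zpowers h) S ↔ Commute h (x : G) := fun x => by
    constructor
    · intro hx
      exact mul_inv_eq_iff_eq_mul.1 (congrArg Subtype.val (hx ⟨h, mem_zpowers h⟩))
    · intro hx g
      obtain ⟨i, hi⟩ := mem_zpowers_iff.1 g.2
      refine Subtype.ext ?_
      show (g : G) * x * (g : G)⁻¹ = x
      rw [← hi, (hx.zpow_left i).eq, mul_inv_cancel_right]
  have h2 : Nat.card (MulAction.fixedPoints (zpowers h) S) = {x ∈ S | Commute h x}.ncard := by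
    rw [← Nat.card_coe_set_eq {x ∈ S | Commute h x}]
    exact Nat.card_congr ⟨fun x => ⟨x.1, x.1.2, (hfix x.1).1 x.2⟩, fun x => ⟨⟨x.1, x.2.1⟩, (hfix _).2 x.2.2⟩,
      fun x => rfl, fun x => rfl⟩
  rwa [h2, Nat.card_coe_set_eq] at h1

variable (hS : Setup z Q)
include hS

theorem Setup.conj_mem {g x : G} (hg : Commute g z) (hx : x ∈ Q) : g * x * g⁻¹ ∈ Q :=
  (mem_normalizer_iff.1 (hS.ctx.norm g hg) x).1 hx

theorem Setup.notMem_odd {p : ℕ} (hp : p.Prime) (hp2 : p ≠ 2) {x : G} (hx : orderOf x = p) : x ∉ Q := by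
  intro h
  have hd : p ∣ 2 ^ 5 := by
    have := (Subgroup.orderOf_mk (H := Q) x h) ▸ orderOf_dvd_natCard (⟨x, h⟩ : Q)
    rwa [hS.card, hx] at this
  exact hp2 ((Nat.prime_dvd_prime_iff_eq hp Nat.prime_two).1 (hp.dvd_of_dvd_pow hd))

/-- The centralizer in `C(z)` of an element of prime order. -/
theorem Setup.card_centralizer_aux {p : ℕ} [Fact p.Prime] (hp2 : p ≠ 2) {h : G} (ho : orderOf h = p)
    (hz : Commute h z) (hA : ∀ d : A5, d ^ p = 1 → d ≠ 1 → (Finset.univ.filter fun y : A5 => y * d = d * y).card = p) :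
    Nat.card ↥(centralizer ({z} : Set G) ⊓ centralizer {h}) = p * Nat.card ↥(Q ⊓ centralizer {h}) := by
  classical
  obtain ⟨φ, hφ, hker⟩ := hS.proj
  let h' : centralizer ({z} : Set G) := ⟨h, mem_centralizer_singleton_iff.2 hz⟩
  have hpow : h' ^ p = 1 := Subtype.ext (by simp [h', ← ho, pow_orderOf_eq_one])
  have hd : φ h' ^ p = 1 := by rw [← map_pow, hpow, map_one]
  have hd1 : φ h' ≠ 1 := fun e => hS.notMem_odd (Fact.out) hp2 ho ((hker h').1 e)
  set C := centralizer ({z} : Set G) ⊓ centralizer {h}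
  set I := (C.subgroupOf (centralizer ({z} : Set G))).map φ
  have hI : ∀ y, y ∈ I → y * φ h' = φ h' * y := by
    rintro _ ⟨x, hx, rfl⟩
    rw [← map_mul, ← map_mul]
    exact congrArg φ (Subtype.ext (mem_centralizer_singleton_iff.1 hx.2))
  have hzI : zpowers (φ h') ≤ I := zpowers_le.2 (mem_map_of_mem _
    (⟨h'.2, mem_centralizer_singleton_iff.2 rfl⟩ : h ∈ C))
  have hle : Nat.card I ≤ p := by
    rw [← hA _ hd hd1, ← Fintype.card_coe, ← Nat.card_eq_fintype_card]
    exact Nat.card_le_card_of_injective (fun y : I => (⟨y.1, by simpa using hI _ y.2⟩ :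
      ↥(Finset.univ.filter fun y : A5 => y * φ h' = φ h' * y))) fun a b e => Subtype.ext (congrArg (fun w => w.1) e)
  have hge : p ≤ Nat.card I := by
    rw [← orderOf_eq_prime hd hd1, ← Nat.card_zpowers]
    exact card_le_of_le hzI
  rw [card_sub_eq hS φ hker C inf_le_left, le_antisymm hle hge]
  have hCQ : C ⊓ Q = Q ⊓ centralizer {h} := by
    ext x
    exact ⟨fun hx => ⟨hx.2, hx.1.2⟩, fun hx => ⟨⟨hS.Q_le hx.1, hx.2⟩, hx.1⟩⟩
  rw [hCQ]

theorem Setup.five_centralizer {f : G} (hf : orderOf f = 5) (hz : Commute f z) :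
    Nat.card ↥(centralizer ({z} : Set G) ⊓ centralizer {f}) = 10 := by
  haveI : Fact (Nat.Prime 5) := ⟨by norm_num⟩
  rw [hS.card_centralizer_aux (by norm_num) hf hz a5_five_centralizer_card]
  have : ((Q ⊓ centralizer ({f} : Set G) : Subgroup G) : Set G) = {1, z} := by
    ext x
    constructor
    · rintro ⟨hx, hxf⟩
      exact hS.ctx.fixed_five hS.card hf hz hx (Commute.symm (mem_centralizer_singleton_iff.1 hxf))
    · rintro (rfl | rfl)
      exacts [one_mem _, ⟨hS.ctx.mem, mem_centralizer_singleton_iff.2 hz.symm.eq⟩]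
  change 5 * Nat.card ↥((Q ⊓ centralizer ({f} : Set G) : Subgroup G) : Set G) = 10
  rw [this, Nat.card_coe_set_eq, Set.ncard_pair hS.ctx.ne_one.symm]

theorem Setup.three_fixed {h : G} (hh : orderOf h = 3) (hz : Commute h z) :
    Nat.card ↥(Q ⊓ centralizer ({h} : Set G)) = 8 := by
  haveI : Fact (Nat.Prime 3) := ⟨by norm_num⟩
  haveI : Fact (Nat.Prime 2) := ⟨Nat.prime_two⟩
  have hX := hS.ctx
  set F := Q ⊓ centralizer ({h} : Set G)
  have hset : (F : Set G) = {x ∈ (Q : Set G) | Commute h x} := by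
    ext x
    simp [F, mem_centralizer_singleton_iff, Commute, SemiconjBy, eq_comm]
  have h1 := card_modEq_fixed hh (Q : Set G) fun x hx => hS.conj_mem hz hx
  rw [← hset, ← Nat.card_coe_set_eq, ← Nat.card_coe_set_eq] at h1
  change Nat.card Q ≡ Nat.card F [MOD 3] at h1
  rw [hS.card] at h1
  -- a fixed noncentral involution
  obtain ⟨f, hf, hfz⟩ := hS.exists_five
  have h2 := card_modEq_fixed hh (nci Q z) fun x hx => by
    obtain ⟨hxQ, hx2, hx1, hxz⟩ := hx
    refine ⟨hS.conj_mem hz hxQ, ?_, fun e => hx1 (conj_eq_one_iff.1 e), fun e => hxz ?_⟩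
    · rw [show h * x * h⁻¹ * (h * x * h⁻¹) = h * (x * x) * h⁻¹ by group, hx2]; simp
    · calc x = h⁻¹ * (h * x * h⁻¹) * h := by group
        _ = z := by rw [e, mul_assoc, ← hz.eq, inv_mul_cancel_left]
  rw [hX.ncard_nci hS.card hf hfz] at h2
  obtain ⟨a, ha, hha⟩ : ∃ a ∈ nci Q z, Commute h a := by
    by_contra hcon
    push Not at hcon
    rw [show {x ∈ nci Q z | Commute h x} = ∅ from Set.eq_empty_of_forall_notMem fun x hx => hcon x hx.1 hx.2,
      Set.ncard_empty] at h2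
    exact absurd h2 (by decide)
  have h3 : 3 ≤ Nat.card F := by
    have hsub : ({1, z, a} : Set G) ⊆ F := by
      rw [hset]
      rintro _ (rfl | rfl | rfl)
      exacts [⟨one_mem _, Commute.one_right h⟩, ⟨hX.mem, hz⟩, ⟨ha.1, hha⟩]
    have h4 := Set.ncard_le_ncard hsub
    rw [Set.ncard_eq_three.2 ⟨_, _, _, hX.ne_one.symm, ha.2.2.1.symm, ha.2.2.2.symm, rfl⟩,
      ← Nat.card_coe_set_eq] at h4
    exact h4
  have h5 : Nat.card F < 32 := by
    refine lt_of_le_of_ne (hS.card ▸ card_le_of_le inf_le_left) fun e => ?_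
    have hFQ : F = Q := eq_of_le_of_card_ge inf_le_left (by rw [e, hS.card])
    have hc : ∀ q ∈ Q, Commute h q := fun q hq =>
      (mem_centralizer_singleton_iff.1 ((hFQ.symm ▸ hq : q ∈ F)).2).symm
    rcases hX.cent h hc with e' | e'
    · rw [e', orderOf_one] at hh; norm_num at hh
    · rw [e', hS.z_two] at hh; norm_num at hh
  obtain ⟨i, hi⟩ := (hX.two.to_le (inf_le_left : F ≤ Q)).exists_card_eq
  rw [hi] at h1 h3 h5 ⊢
  have : i < 5 := (Nat.pow_lt_pow_iff_right (by norm_num : 1 < 2)).1 (by simpa using h5)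
  unfold Nat.ModEq at h1
  interval_cases i <;> omega

theorem Setup.three_centralizer {h : G} (hh : orderOf h = 3) (hz : Commute h z) :
    Nat.card ↥(centralizer ({z} : Set G) ⊓ centralizer {h}) = 24 := by
  haveI : Fact (Nat.Prime 3) := ⟨by norm_num⟩
  rw [hS.card_centralizer_aux (by norm_num) hh hz a5_three_centralizer_card, hS.three_fixed hh hz]

/-- Elements of odd prime order congruent modulo `Q` are conjugate. -/
theorem Setup.lift_conj (φ : centralizer ({z} : Set G) →* A5) (hφ : Function.Surjective φ)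
    (hker : ∀ x, φ x = 1 ↔ (x : G) ∈ Q) {p : ℕ} [Fact p.Prime] (hp2 : p ≠ 2)
    {x y : centralizer ({z} : Set G)} (hx : orderOf x = p) (hy : orderOf y = p) (h : φ x = φ y) :
    ∃ s, s * x * s⁻¹ = y := by
  have hy' : orderOf (y : G) = p := by rw [Subgroup.orderOf_coe, hy]
  have hd1 : φ y ≠ 1 := fun e => hS.notMem_odd Fact.out hp2 hy' ((hker y).1 e)
  have hd : φ y ^ p = 1 := by rw [← map_pow, ← hy, pow_orderOf_eq_one, map_one]
  set K := ((zpowers (φ y)).comap φ).map (centralizer ({z} : Set G)).subtype with hK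
  have hKC : K ≤ centralizer ({z} : Set G) := map_subtype_le _
  have hKs : K.subgroupOf (centralizer ({z} : Set G)) = (zpowers (φ y)).comap φ :=
    comap_map_eq_self_of_injective (subtype_injective _) _
  have hQK : Q ≤ K := fun q hq => ⟨⟨q, hS.Q_le hq⟩, by
    show φ ⟨q, _⟩ ∈ zpowers (φ y); rw [(hker ⟨q, hS.Q_le hq⟩).2 hq]; exact one_mem _, rfl⟩
  have hcard : Nat.card K = p * 32 := by
    rw [card_sub_eq hS φ hker K hKC, hKs, map_comap_eq_self_of_surjective hφ, inf_eq_right.2 hQK, hS.card,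
      Nat.card_zpowers, orderOf_eq_prime hd hd1]
  have hmem : ∀ w : centralizer ({z} : Set G), φ w ∈ zpowers (φ y) → (w : G) ∈ K := fun w hw => ⟨w, hw, rfl⟩
  have hP : ∀ w : centralizer ({z} : Set G), orderOf w = p → IsPGroup p (zpowers (w : G)) := fun w hw =>
    IsPGroup.of_card (n := 1) (by rw [Nat.card_zpowers, Subgroup.orderOf_coe, hw, pow_one])
  have hyK : zpowers (y : G) ≤ K := zpowers_le.2 (hmem y (mem_zpowers _))
  have hidx : ¬ p ∣ (zpowers (y : G)).relIndex K := by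
    have := Cfsg.Lib.Core.card_mul_relIndex hyK
    rw [Nat.card_zpowers, hy', hcard] at this
    rw [Nat.eq_of_mul_eq_mul_left (Fact.out : p.Prime).pos this]
    intro hd
    exact hp2 ((Nat.prime_dvd_prime_iff_eq Fact.out Nat.prime_two).1 ((Fact.out : p.Prime).dvd_of_dvd_pow (show p ∣ 2 ^ 5 from hd)))
  obtain ⟨c, hc, hle⟩ := Cfsg.Lib.Sig.exists_conj_le_of_relIndex hyK (hP y hy) hidx
    (zpowers_le.2 (hmem x (h ▸ mem_zpowers _))) (hP x hx)
  obtain ⟨c', hc', rfl⟩ := hc
  refine ⟨c', ?_⟩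
  have hw : (c' * x * c'⁻¹ : centralizer ({z} : Set G)) * y⁻¹ = 1 := by
    have h1 : ((c' * x * c'⁻¹ : centralizer ({z} : Set G)) : G) * (y : G)⁻¹ ∈ zpowers (y : G) :=
      mul_mem (by simpa using hle (Cfsg.Lib.Sig.conj_mem_map_conj (g := (c' : G)) (mem_zpowers (x : G))))
        (inv_mem (mem_zpowers _))
    have h2 : ((c' * x * c'⁻¹ : centralizer ({z} : Set G)) : G) * (y : G)⁻¹ ∈ Q := by
      refine (hker ((c' * x * c'⁻¹) * y⁻¹)).1 ?_
      obtain ⟨i, hi⟩ := mem_zpowers_iff.1 (hc' : φ c' ∈ zpowers (φ y))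
      rw [map_mul, map_inv, map_mul, map_mul, map_inv, h, ← hi, (((Commute.refl (φ y)).zpow_left i)).eq,
        mul_inv_cancel_right, mul_inv_cancel]
    have h3 : zpowers (y : G) ⊓ Q = ⊥ := inf_eq_bot_of_coprime (by
      rw [Nat.card_zpowers, hy', hS.card]
      exact (show Nat.Coprime p (2 ^ 5) from Nat.Coprime.pow_right 5
        ((Nat.coprime_primes Fact.out Nat.prime_two).2 hp2)))
    have h4 : ((c' * x * c'⁻¹ : centralizer ({z} : Set G)) : G) * (y : G)⁻¹ ∈ (⊥ : Subgroup G) := h3 ▸ ⟨h1, h2⟩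
    exact Subtype.ext (mem_bot.1 h4)
  exact mul_inv_eq_one.1 hw

/-- Elements of order three of `C(z)` form one class there. -/
theorem Setup.three_conj {a b : G} (ha : orderOf a = 3) (haz : Commute a z) (hb : orderOf b = 3)
    (hbz : Commute b z) : ∃ s, Commute s z ∧ s * a * s⁻¹ = b := by
  haveI : Fact (Nat.Prime 3) := ⟨by norm_num⟩
  obtain ⟨φ, hφ, hker⟩ := hS.proj
  let a' : centralizer ({z} : Set G) := ⟨a, mem_centralizer_singleton_iff.2 haz⟩
  let b' : centralizer ({z} : Set G) := ⟨b, mem_centralizer_singleton_iff.2 hbz⟩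
  have ha' : orderOf a' = 3 := by rw [← Subgroup.orderOf_coe]; exact ha
  have hb' : orderOf b' = 3 := by rw [← Subgroup.orderOf_coe]; exact hb
  have h3 : ∀ w : centralizer ({z} : Set G), orderOf w = 3 → φ w ^ 3 = 1 ∧ φ w ≠ 1 := fun w hw =>
    ⟨by rw [← map_pow, ← hw, pow_orderOf_eq_one, map_one],
      fun e => hS.notMem_odd (by norm_num) (by norm_num) (show orderOf (w : G) = 3 by rw [Subgroup.orderOf_coe, hw])
        ((hker w).1 e)⟩
  obtain ⟨c, hc⟩ := a5_three_conj _ _ (h3 a' ha').1 (h3 a' ha').2 (h3 b' hb').1 (h3 b' hb').2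
  obtain ⟨g, rfl⟩ := hφ c
  obtain ⟨s, hs⟩ := hS.lift_conj φ hφ hker (p := 3) (by norm_num) (x := g * a' * g⁻¹) (y := b')
    (by rw [Cfsg.Lib.Invol.orderOf_conj_eq, ha']) hb' (by rw [map_mul, map_mul, map_inv, hc])
  refine ⟨((s * g : centralizer ({z} : Set G)) : G), mem_centralizer_singleton_iff.1 (s * g).2, ?_⟩
  have e : (s * g) * a' * (s * g)⁻¹ = b' := by rw [← hs]; group
  exact congrArg Subtype.val e

/-- An element of order five of `C(z)` is inverted there. -/
theorem Setup.five_inverted {f : G} (hf : orderOf f = 5) (hfz : Commute f z) :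
    ∃ s, Commute s z ∧ s * f * s⁻¹ = f⁻¹ := by
  haveI : Fact (Nat.Prime 5) := ⟨by norm_num⟩
  obtain ⟨φ, hφ, hker⟩ := hS.proj
  let f' : centralizer ({z} : Set G) := ⟨f, mem_centralizer_singleton_iff.2 hfz⟩
  have hf' : orderOf f' = 5 := by rw [← Subgroup.orderOf_coe]; exact hf
  obtain ⟨c, -, -, hc⟩ := a5_five_inverted (φ f') (by rw [← map_pow, show f' ^ 5 = 1 from hf' ▸ pow_orderOf_eq_one f', map_one])
    fun e => hS.notMem_odd (by norm_num) (by norm_num) hf ((hker f').1 e)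
  obtain ⟨g, rfl⟩ := hφ c
  obtain ⟨s, hs⟩ := hS.lift_conj φ hφ hker (p := 5) (by norm_num) (x := g * f' * g⁻¹) (y := f'⁻¹)
    (by rw [Cfsg.Lib.Invol.orderOf_conj_eq, hf']) (by rw [orderOf_inv, hf'])
    (by rw [map_mul, map_mul, map_inv, map_inv, hc])
  refine ⟨((s * g : centralizer ({z} : Set G)) : G), mem_centralizer_singleton_iff.1 (s * g).2, ?_⟩
  have e : (s * g) * f' * (s * g)⁻¹ = f'⁻¹ := by rw [← hs]; group
  exact congrArg Subtype.val e

end Cfsg.Lib.J2Type
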