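import Cfsg.Agent.Lib.J2Type.Classes
import Cfsg.Agent.Lib.J2Type.Odd
import Cfsg.Agent.Lib.Fusion.Abelian
import Cfsg.Agent.Lib.Invol.BrauerFowler
import Cfsg.Agent.S3277

/-!
# The centralizer of an involution not conjugate to `z`
-/

set_option autoImplicit false
set_option linter.style.haveILetI false
set_option linter.unusedSectionVars false

namespace Cfsg.Lib.J2Type

open Cfsg Subgroup
open Cfsg.Lib.Extra (Ctx nci)

variable {G : Type*} [Group G] [Finite G] {z t : G} {Q : Subgroup G}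

/-- Orbit counting for the conjugation of a subgroup on one of its elements. -/
theorem card_class_mul (K : Subgroup G) (hzK : z ∈ K) :
    ((fun k => k * z * k⁻¹) '' (K : Set G)).ncard * Nat.card ↥(K ⊓ centralizer ({z} : Set G)) = Nat.card K := by
  have h := Cfsg.Lib.Invol.card_conj_mul_centralizer (⟨z, hzK⟩ : K)
  rw [← h, ← Nat.card_coe_set_eq]
  congr 1
  · refine (Nat.card_congr (Equiv.ofBijective (fun a : {a : K // IsConj (⟨z, hzK⟩ : K) a} =>
      (⟨(a.1 : G), by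
        obtain ⟨k, hk⟩ := isConj_iff.1 a.2
        exact ⟨k, k.2, by rw [← hk]; simp⟩⟩ : ((fun k => k * z * k⁻¹) '' (K : Set G)))) ⟨fun a b h => ?_, ?_⟩)).symm
    · exact Subtype.ext (Subtype.ext (by simpa using congrArg Subtype.val h))
    · rintro ⟨_, k, hk, rfl⟩
      exact ⟨⟨⟨k, hk⟩ * ⟨z, hzK⟩ * ⟨k, hk⟩⁻¹, isConj_iff.2 ⟨⟨k, hk⟩, rfl⟩⟩, rfl⟩
  · exact Nat.card_congr
      ⟨fun x => ⟨⟨x.1, x.2.1⟩, mem_centralizer_singleton_iff.2 (Subtype.ext (mem_centralizer_singleton_iff.1 x.2.2))⟩,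
      fun x => ⟨x.1.1, x.1.2, mem_centralizer_singleton_iff.2 (congrArg Subtype.val (mem_centralizer_singleton_iff.1 x.2))⟩,
      fun x => rfl, fun x => rfl⟩

theorem card_modEq_fixed' {p : ℕ} [Fact p.Prime] {h : G} (ho : orderOf h = p) (T : Subgroup G)
    (hc : ∀ x ∈ T, h * x * h⁻¹ ∈ T) : Nat.card T ≡ Nat.card ↥(T ⊓ centralizer ({h} : Set G)) [MOD p] := by
  have h1 := card_modEq_fixed ho (T : Set G) hc
  have h2 : {x ∈ (T : Set G) | Commute h x} = ((T ⊓ centralizer ({h} : Set G) : Subgroup G) : Set G) := by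
    ext x
    simp [mem_centralizer_singleton_iff, Commute, SemiconjBy, eq_comm]
  rwa [h2, ← Nat.card_coe_set_eq, ← Nat.card_coe_set_eq] at h1

/-- An automorphism of `A₅` induced by conjugation that fixes a frame is trivial. -/
theorem commute_of_fix {L : Subgroup G} (eL : L ≃* A5) {v r n : G} (hv : ∀ x ∈ L, v * x * v⁻¹ ∈ L)
    (hr : r ∈ L) (hn : n ∈ L) (hr2 : r * r = 1) (hr1 : r ≠ 1) (hn3 : n ^ 3 = 1) (hne : n * r * n⁻¹ ≠ r)
    (hcr : n * r * n⁻¹ * r = r * (n * r * n⁻¹)) (hvr : Commute v r) (hvn : Commute v n) {l : G} (hl : l ∈ L) :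
    Commute v l := by
  let c : L →* L :=
    { toFun := fun x => ⟨v * x * v⁻¹, hv x x.2⟩
      map_one' := Subtype.ext (show v * 1 * v⁻¹ = (1 : G) by simp)
      map_mul' := fun a b => Subtype.ext
        (show v * ((a : G) * b) * v⁻¹ = v * a * v⁻¹ * (v * b * v⁻¹) by group) }
  have hc : Function.Bijective c := Finite.injective_iff_bijective.1 fun a b h =>
    Subtype.ext (mul_left_cancel (mul_right_cancel (congrArg Subtype.val h)))
  let σ : A5 ≃* A5 := (eL.symm.trans (MulEquiv.ofBijective c hc)).trans eL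
  have hσ : ∀ x : L, σ (eL x) = eL (c x) := fun x => by simp [σ]
  have h := a5_aut_trivial σ (r := eL ⟨r, hr⟩) (n := eL ⟨n, hn⟩)
    (by rw [← map_mul, ← map_one eL]; exact congrArg eL (Subtype.ext hr2))
    (fun h => hr1 (congrArg Subtype.val (eL.map_eq_one_iff.1 h)))
    (by rw [← map_pow, ← map_one eL]; exact congrArg eL (Subtype.ext hn3))
    (fun h => hne (congrArg Subtype.val (eL.injective (by simpa only [← map_mul, ← map_inv] using h) :
      (⟨n, hn⟩ * ⟨r, hr⟩ * ⟨n, hn⟩⁻¹ : L) = ⟨r, hr⟩)))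
    (by simp only [← map_mul, ← map_inv]; exact congrArg eL (Subtype.ext hcr))
    (by rw [hσ]; exact congrArg eL (Subtype.ext (mul_inv_eq_iff_eq_mul.2 hvr.eq)))
    (by rw [hσ]; exact congrArg eL (Subtype.ext (mul_inv_eq_iff_eq_mul.2 hvn.eq)))
    (eL ⟨l, hl⟩)
  rw [hσ] at h
  exact mul_inv_eq_iff_eq_mul.1 (congrArg Subtype.val (eL.injective h))

/-- The shape `V × A₅` of the centralizer of `t`. -/
structure Big (z t : G) (V L : Subgroup G) : Prop where
  V_le : V ≤ centralizer ({t} : Set G)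
  L_le : L ≤ centralizer ({t} : Set G)
  comm : ∀ v ∈ V, ∀ l ∈ L, Commute v l
  inf : V ⊓ L = ⊥
  dec : ∀ g ∈ centralizer ({t} : Set G), ∃ v ∈ V, ∃ l ∈ L, g = v * l
  card_V : Nat.card V = 4
  sq_V : ∀ v ∈ V, v * v = 1
  t_mem : t ∈ V
  V_z : ∀ v ∈ V, Commute v z
  z_mem : z ∈ L
  iso : Nonempty (L ≃* A5)
  conj_L : ∀ x ∈ L, orderOf x = 2 → IsConj z x
  conj_out : ∀ x ∈ centralizer ({t} : Set G), orderOf x = 2 → x ∉ L → IsConj t x

/-- The degenerate shape of order 48. -/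
structure Small (z t : G) (Q : Subgroup G) : Prop where
  card : Nat.card ↥(centralizer ({t} : Set G)) = 48
  invol : ∀ x, Commute x t → x * x = 1 → Commute x z

variable (hS : Setup z Q)
include hS
variable (ht : Outer z Q t) (hnc : ¬ IsConj z t)
include ht hnc

set_option maxHeartbeats 1000000 in
theorem Setup.centralizer_shape : (∃ V L, Big z t V L) ∨ Small z t Q := by
  classical
  haveI : Fact (Nat.Prime 2) := ⟨Nat.prime_two⟩
  haveI : Fact (Nat.Prime 3) := ⟨by norm_num⟩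
  have hX := hS.ctx
  obtain ⟨e, he, het, h16, hT⟩ := hS.frame ht
  have hzt : Commute z t := ht.2.1.symm
  set M := centralizer ({t} : Set G) with hM
  set T := centralizer ({z} : Set G) ⊓ M with hTdef
  have hmT : ∀ {x}, x ∈ T ↔ Commute x z ∧ Commute x t := fun {x} => by
    rw [hTdef, hM, mem_inf, mem_centralizer_singleton_iff, mem_centralizer_singleton_iff]; rfl
  have hTM : T ≤ M := inf_le_right
  have hab : ∀ a ∈ T, ∀ b ∈ T, Commute a b := fun a ha b hb =>
    hS.abelian16 ht (hmT.1 ha).1 (hmT.1 ha).2 (hmT.1 hb).1 (hmT.1 hb).2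
  have hsq : ∀ a ∈ T, a * a = 1 := fun a ha => (hT a (hmT.1 ha).1 (hmT.1 ha).2).1
  have hzT : z ∈ T := hmT.2 ⟨Commute.refl z, hzt⟩
  have htT : t ∈ T := hmT.2 ⟨ht.2.1, Commute.refl t⟩
  -- the conjugates of `z` in `T`
  let R : Subgroup G := Q ⊓ M
  have hRT : R ≤ T := fun x hx => ⟨hS.Q_le hx.1, hx.2⟩
  have hR : ∀ {x}, x ∈ R → x = 1 ∨ x = z ∨ x = e ∨ x = z * e := fun {x} hx =>
    (hT x (hmT.1 (hRT hx)).1 (hmT.1 (hRT hx)).2).2 hx.1
  have hzc : ∀ {x}, x ∈ T → IsConj z x → x = z ∨ x = e ∨ x = z * e := fun {x} hx h => by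
    have ho := orderOf_isConj hS.z_two h
    rcases hR ⟨(hS.mem_Q_iff ht hnc ho (hmT.1 hx).1).1 h, hTM hx⟩ with e1 | e1
    · exact absurd e1 (mul_self_of_order_two ho).2
    · exact e1
  have hzeQ : z * e ∈ Q := mul_mem hX.mem he.1
  have heR : e ∈ R := ⟨he.1, mem_centralizer_singleton_iff.2 het.eq⟩
  have hzR : z ∈ R := ⟨hX.mem, mem_centralizer_singleton_iff.2 hzt.eq⟩
  have hzeR : z * e ∈ R := mul_mem hzR heR
  have hne : z * e ≠ 1 ∧ z * e ≠ z ∧ z * e ≠ e :=
    ⟨fun h => he.2.2.2 (mul_left_cancel (a := z) (h.trans hX.sq_z.symm)),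
      fun h => he.2.2.1 (mul_eq_left.1 h), fun h => hX.ne_one (mul_eq_right.1 h)⟩
  have hconjR : ∀ {r}, r = z ∨ r = e ∨ r = z * e → r ∈ R ∧ IsConj z r := by
    rintro r (rfl | rfl | rfl)
    · exact ⟨hzR, IsConj.refl _⟩
    · exact ⟨heR, hS.invol_Q_conj he.1 he.2.1 he.2.2.1⟩
    · exact ⟨hzeR, hS.invol_Q_conj hzeQ
        (by rw [(hX.central e he.1).symm.mul_mul_mul_comm, hX.sq_z, he.2.1, one_mul]) hne.1⟩
  have hpair : ∀ {r}, r = z ∨ r = e ∨ r = z * e → centralizer ({r} : Set G) ⊓ M = T := by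
    intro r hr
    obtain ⟨hrR, hrc⟩ := hconjR hr
    have hle : T ≤ centralizer ({r} : Set G) ⊓ M := fun a ha =>
      ⟨mem_centralizer_singleton_iff.2 (hab a ha r (hRT hrR)).eq, hTM ha⟩
    refine (eq_of_le_of_card_ge hle ?_).symm
    rw [hS.card_pair ht hnc hrc (IsConj.refl t) (hmT.1 (hRT hrR)).2, hTdef, h16]
  -- the normalizer of `T` in `M`
  let N : Subgroup G := normalizer (T : Set G) ⊓ M
  have hTN : T ≤ N := fun a ha => ⟨le_normalizer ha, hTM ha⟩
  have hNconj : ∀ {m r}, m ∈ N → r = z ∨ r = e ∨ r = z * e →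
      m * r * m⁻¹ = z ∨ m * r * m⁻¹ = e ∨ m * r * m⁻¹ = z * e := by
    intro m r hm hr
    obtain ⟨hrR, hrc⟩ := hconjR hr
    exact hzc ((mem_normalizer_iff.1 hm.1 r).1 (hRT hrR)) (hrc.trans (isConj_iff.2 ⟨m, rfl⟩))
  have hto : ∀ {r}, r = z ∨ r = e ∨ r = z * e → ∃ m ∈ N, m * z * m⁻¹ = r := by
    intro r hr
    obtain ⟨hrR, hrc⟩ := hconjR hr
    obtain ⟨g, hg⟩ := isConj_iff.1 hrc.symm
    have hrt : Commute r t := (hmT.1 (hRT hrR)).2
    have ht' : Outer z Q (g * t * g⁻¹) := by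
      refine hS.outer_of_not_conj (by rw [Cfsg.Lib.Invol.orderOf_conj_eq, ht.1]) ?_
        fun h => hnc (h.trans (isConj_iff.2 ⟨g⁻¹, by group⟩))
      rw [← hg]; exact (Commute.conj_iff g).2 hrt.symm
    obtain ⟨h, hhz, hh⟩ := hS.outer_conj ht' ht
    have h1 : h * g * r * (h * g)⁻¹ = z := by
      rw [show h * g * r * (h * g)⁻¹ = h * (g * r * g⁻¹) * h⁻¹ by group, hg, hhz.eq, mul_inv_cancel_right]
    have h2 : h * g * t * (h * g)⁻¹ = t := by
      rw [show h * g * t * (h * g)⁻¹ = h * (g * t * g⁻¹) * h⁻¹ by group, hh]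
    refine ⟨(h * g)⁻¹, inv_mem ⟨Cfsg.Lib.Fusion.le_normalizer_of_conj_mem fun x hx => ?_,
      mem_centralizer_singleton_iff.2 (mul_inv_eq_iff_eq_mul.1 h2)⟩, ?_⟩
    · have hx' : x ∈ centralizer ({r} : Set G) ⊓ M := by rw [hpair hr]; exact hx
      have h3 := conj_mem_centralizer (g := h * g).2 hx'.1
      have h4 := conj_mem_centralizer (g := h * g).2 (show x ∈ centralizer ({t} : Set G) from hx'.2)
      rw [h1] at h3
      rw [h2] at h4
      exact ⟨h3, h4⟩
    · rw [← h1]; group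
  have hstab : N ⊓ centralizer ({z} : Set G) = T :=
    le_antisymm (fun a ha => ⟨ha.2, ha.1.2⟩) fun a ha => ⟨hTN ha, ha.1⟩
  have h3 : ({z, e, z * e} : Set G).ncard = 3 :=
    Set.ncard_eq_three.2 ⟨z, e, z * e, fun h => he.2.2.2 h.symm, hne.2.1.symm, hne.2.2.symm, rfl⟩
  have hN48 : Nat.card N = 48 := by
    have horb : (fun k => k * z * k⁻¹) '' (N : Set G) = {z, e, z * e} := by
      ext r
      simp only [Set.mem_image, SetLike.mem_coe, Set.mem_insert_iff, Set.mem_singleton_iff]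
      exact ⟨fun ⟨m, hm, e1⟩ => e1 ▸ hNconj hm (Or.inl rfl), fun hr => hto hr⟩
    rw [← card_class_mul N (hTN hzT), horb, h3, hstab, hTdef, h16]
  have hfixr : ∀ {m r}, m ∈ M → r = z ∨ r = e ∨ r = z * e → Commute m r → m ∈ T := fun hm hr hc => by
    rw [← hpair hr]; exact ⟨mem_centralizer_singleton_iff.2 hc.eq, hm⟩
  obtain ⟨n', hn'⟩ := exists_prime_orderOf_dvd_card' (G := N) 3 (by rw [hN48]; norm_num)
  obtain ⟨n, hn3, hnN⟩ : ∃ n, orderOf n = 3 ∧ n ∈ N := ⟨n', by rw [Subgroup.orderOf_coe, hn'], n'.2⟩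
  have hnT : n ∉ T := fun h => by
    have h2 : orderOf n ∣ 2 := orderOf_dvd_of_pow_eq_one (by rw [pow_two, hsq n h])
    rw [hn3] at h2
    exact absurd h2 (by norm_num)
  have hnmove : ∀ {r}, r = z ∨ r = e ∨ r = z * e → n * r * n⁻¹ ≠ r := fun hr h =>
    hnT (hfixr hnN.2 hr (mul_inv_eq_iff_eq_mul.1 h))
  have hnnorm : ∀ x ∈ T, n * x * n⁻¹ ∈ T := fun x hx => (mem_normalizer_iff.1 hnN.1 x).1 hx
  -- the fixed points of `n`
  let V : Subgroup G := T ⊓ centralizer {n}
  have htn : Commute t n := (mem_centralizer_singleton_iff.1 hnN.2).symm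
  have hVR : ∀ x ∈ V, x ∈ R → x = 1 := by
    intro x hx hxR
    rcases hR hxR with h | h
    · exact h
    · exact absurd (mul_inv_eq_iff_eq_mul.2 (mem_centralizer_singleton_iff.1 hx.2).symm) (hnmove h)
  have hV4 : Nat.card V = 4 := by
    have h1 := card_modEq_fixed' hn3 T hnnorm
    obtain ⟨i, hi⟩ := ((IsPGroup.of_card (n := 4) (show Nat.card T = 2 ^ 4 by rw [hTdef, h16]; norm_num)).to_le
      (inf_le_left : V ≤ T)).exists_card_eq
    have hle : Nat.card V ≤ 16 := h16 ▸ card_le_of_le inf_le_left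
    have h2 : 2 ≤ Nat.card V := by
      have hsub : ({1, t} : Set G) ⊆ V := by
        rintro _ (rfl | rfl)
        exacts [one_mem _, ⟨htT, mem_centralizer_singleton_iff.2 htn.eq⟩]
      have := Set.ncard_le_ncard hsub
      rwa [Set.ncard_pair (mul_self_of_order_two ht.1).2.symm, ← Nat.card_coe_set_eq] at this
    have h5 : Nat.card V ≠ 16 := fun h => by
      have hVT : V = T := eq_of_le_of_card_ge inf_le_left (by rw [h, hTdef, h16])
      exact hX.ne_one (hVR z (hVT.symm ▸ hzT) hzR)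
    rw [h16] at h1
    change 16 ≡ Nat.card V [MOD 3] at h1
    rw [hi] at h1 hle h2 h5 ⊢
    have : i ≤ 4 := (Nat.pow_le_pow_iff_right (by norm_num : 1 < 2)).1 (by simpa using hle)
    unfold Nat.ModEq at h1
    interval_cases i <;> omega
  have hR4 : Nat.card R = 4 := by
    have hs : (R : Set G) = {1, z, e, z * e} := by
      ext x
      simp only [SetLike.mem_coe, Set.mem_insert_iff, Set.mem_singleton_iff]
      refine ⟨fun h => hR h, fun h => ?_⟩
      rcases h with rfl | rfl | rfl | rfl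
      exacts [one_mem _, hzR, heR, hzeR]
    change Nat.card (R : Set G) = 4
    rw [hs, Nat.card_coe_set_eq, Set.ncard_insert_of_notMem, h3]
    simp [hX.ne_one.symm, he.2.2.1.symm, hne.1.symm]
  have hVRdec : ∀ x ∈ T, ∃ r ∈ R, ∃ v ∈ V, x = r * v := by
    intro x hx
    let F : R × V → T := fun p => ⟨p.1 * p.2, mul_mem (hRT p.1.2) p.2.2.1⟩
    have hF : Function.Injective F := by
      rintro ⟨a, b⟩ ⟨a', b'⟩ h
      have h' : (a : G) * b = a' * b' := congrArg Subtype.val h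
      have e1 : (a' : G)⁻¹ * a = (b' : G) * (b : G)⁻¹ := by
        rw [eq_mul_inv_iff_mul_eq, mul_assoc, h', inv_mul_cancel_left]
      have hm := hVR _ (e1 ▸ mul_mem b'.2 (inv_mem b.2)) (mul_mem (inv_mem a'.2) a.2)
      have ha : (a : G) = a' := (inv_mul_eq_one.1 hm).symm
      rw [ha] at h'
      rw [Subtype.ext ha, Subtype.ext (mul_left_cancel h')]
    obtain ⟨⟨r, v⟩, hrv⟩ := ((Nat.bijective_iff_injective_and_card F).2
      ⟨hF, by rw [Nat.card_prod, hR4, hV4, hTdef, h16]⟩).2 ⟨x, hx⟩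
    exact ⟨r, r.2, v, v.2, (congrArg Subtype.val hrv).symm⟩
  -- `T` is a Sylow subgroup
  have hTp : IsPGroup 2 (T.subgroupOf M) :=
    (IsPGroup.of_card (n := 4) (show Nat.card T = 2 ^ 4 by rw [hTdef, h16]; norm_num)).of_equiv
      (subgroupOfEquivOfLe hTM).symm
  have hT16' : Nat.card (T.subgroupOf M) = 16 := by
    rw [Nat.card_congr (subgroupOfEquivOfLe hTM).toEquiv, hTdef, h16]
  have hidx : ¬ 2 ∣ (T.subgroupOf M).index := by
    intro h
    have hdvd : 2 ^ (4 + 1) ∣ Nat.card M := by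
      rw [← card_mul_index (T.subgroupOf M), hT16', pow_succ]
      exact mul_dvd_mul (by norm_num) h
    obtain ⟨K, hK, hTK⟩ := Sylow.exists_subgroup_card_pow_succ hdvd (H := T.subgroupOf M) (by rw [hT16']; norm_num)
    have hKi : ((T.subgroupOf M).subgroupOf K).index = 2 := by
      have := Cfsg.Lib.Core.card_mul_relIndex hTK
      rw [hT16', hK] at this
      change 16 * ((T.subgroupOf M).subgroupOf K).index = 2 ^ (4 + 1) at this
      omega
    have hKN : K.map M.subtype ≤ N := by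
      rintro _ ⟨k, hk, rfl⟩
      refine ⟨Cfsg.Lib.Fusion.le_normalizer_of_conj_mem fun x hx => ?_, k.2⟩
      have := (normal_of_index_eq_two hKi).conj_mem ⟨⟨x, hTM hx⟩, hTK hx⟩ hx ⟨k, hk⟩
      exact this
    have := card_dvd_of_le hKN
    rw [card_map_of_injective (subtype_injective M), hK, hN48] at this
    norm_num at this
  let P : Sylow 2 M := hTp.toSylow hidx
  have hP : (P : Subgroup M) = T.subgroupOf M := hTp.toSylow_coe hidx
  haveI : IsMulCommutative (P : Subgroup M) := ⟨⟨fun a b => Subtype.ext (Subtype.ext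
    (hab _ (hP ▸ a.2 : (a : M) ∈ T.subgroupOf M) _ (hP ▸ b.2 : (b : M) ∈ T.subgroupOf M)).eq)⟩⟩
  set L' := Cfsg.pResidual 2 M with hL'
  have hkey : L' ⊓ T.subgroupOf M = R.subgroupOf M := by
    rw [hL', ← hP, Cfsg.Lib.Fusion.pResidual_inf_eq_of_abelian P, hP]
    have hNiff : ∀ m : M, m ∈ normalizer ((T.subgroupOf M : Subgroup M) : Set M) ↔ (m : G) ∈ N := fun m => by
      rw [mem_normalizer_iff]
      constructor
      · intro h
        exact ⟨Cfsg.Lib.Fusion.le_normalizer_of_conj_mem fun x hx => (h ⟨x, hTM hx⟩).1 hx, m.2⟩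
      · intro h x
        exact mem_normalizer_iff.1 h.1 (x : G)
    refine le_antisymm (commutator_le.2 fun a ha m hm => ?_) fun r hr => ?_
    · rw [mem_subgroupOf, commutatorElement_def]
      obtain ⟨r, hr, v, hv, hrv⟩ := hVRdec (a : G) ha
      have hm' := (hNiff m).1 hm
      have hvm : (m : G) * v * (m : G)⁻¹ = v := by
        have hle : zpowers n ≤ N := zpowers_le.2 hnN
        -- `N` is generated by `T` and `n`
        have hsup : T ⊔ zpowers n = N := by
          refine eq_of_le_of_card_ge (sup_le hTN hle) ?_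
          have h1 : 16 ∣ Nat.card ↥(T ⊔ zpowers n) := h16 ▸ card_dvd_of_le le_sup_left
          have h2 : 3 ∣ Nat.card ↥(T ⊔ zpowers n) := by
            rw [← hn3, ← Nat.card_zpowers]; exact card_dvd_of_le le_sup_right
          rw [hN48]
          exact Nat.le_of_dvd Nat.card_pos (Nat.Coprime.mul_dvd_of_dvd_of_dvd (by norm_num : Nat.Coprime 16 3) h1 h2)
        have hcv : N ≤ centralizer ({v} : Set G) := by
          rw [← hsup]
          refine sup_le (fun a ha => mem_centralizer_singleton_iff.2 (hab a ha v hv.1).eq) (zpowers_le.2 ?_)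
          exact mem_centralizer_singleton_iff.2 (mem_centralizer_singleton_iff.1 hv.2).symm
        exact mul_inv_eq_iff_eq_mul.2 (mem_centralizer_singleton_iff.1 (hcv hm'))
      have hmr : (m : G) * r⁻¹ * (m : G)⁻¹ ∈ R := by
        rcases hR hr with h | h
        · simp [h]
        · have h' : r⁻¹ = r := inv_eq_of_mul_eq_one_right (hsq r (hRT hr))
          rw [h']
          exact (hconjR (hNconj hm' h)).1
      have hvr : Commute v r := hab v hv.1 r (hRT hr)
      have hvi : v⁻¹ = v := inv_eq_of_mul_eq_one_right (hsq v hv.1)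
      have : (a : G) * m * (a : G)⁻¹ * (m : G)⁻¹ = r * ((m : G) * r⁻¹ * (m : G)⁻¹) := by
        calc (a : G) * m * (a : G)⁻¹ * (m : G)⁻¹ = r * v * m * (r * v)⁻¹ * (m : G)⁻¹ := by rw [hrv]
          _ = r * v * ((m : G) * v⁻¹ * (m : G)⁻¹) * ((m : G) * r⁻¹ * (m : G)⁻¹) := by group
          _ = r * ((m : G) * r⁻¹ * (m : G)⁻¹) := by
            rw [hvi, hvm, mul_assoc r v v, hsq v hv.1, mul_one]
      simp only [Subgroup.coe_mul, InvMemClass.coe_inv]
      rw [this]
      exact mul_mem hr hmr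
    · -- the commutators with `n` give all of `R`
      rw [mem_subgroupOf] at hr
      let n1 : M := ⟨n, hnN.2⟩
      set C' := ⁅T.subgroupOf M, normalizer ((T.subgroupOf M : Subgroup M) : Set M)⁆ with hC'
      let D : Subgroup G := C'.map M.subtype ⊓ R
      have hgen : ∀ {s}, (s = z ∨ s = e ∨ s = z * e) → s * (n * s * n⁻¹) ∈ D := fun {s} hs => by
        obtain ⟨hsR, -⟩ := hconjR hs
        let s1 : M := ⟨s, hTM (hRT hsR)⟩
        have := commutator_mem_commutator (show s1 ∈ T.subgroupOf M from hRT hsR) ((hNiff n1).2 hnN)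
        refine ⟨⟨_, this, ?_⟩, mul_mem hsR (hconjR (hNconj hnN hs)).1⟩
        show s * n * s⁻¹ * n⁻¹ = s * (n * s * n⁻¹)
        rw [inv_eq_of_mul_eq_one_right (hsq s (hRT hsR))]
        simp only [mul_assoc]
      have hd1 : ∀ {s}, (s = z ∨ s = e ∨ s = z * e) → s * (n * s * n⁻¹) ≠ 1 := fun {s} hs h => by
        obtain ⟨hsR, -⟩ := hconjR hs
        exact hnmove hs ((eq_inv_of_mul_eq_one_right h).trans (inv_eq_of_mul_eq_one_right (hsq s (hRT hsR))))
      have hd2 : z * (n * z * n⁻¹) ≠ e * (n * e * n⁻¹) := fun h => hnmove (Or.inr (Or.inr rfl)) (by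
        calc n * (z * e) * n⁻¹ = n * z * n⁻¹ * (n * e * n⁻¹) := by group
          _ = z * (e * (n * e * n⁻¹)) * (n * e * n⁻¹) := by rw [← h, hS.z_mul]
          _ = z * e * (n * (e * e) * n⁻¹) := by group
          _ = z * e := by rw [he.2.1]; simp)
      have h3D : 3 ≤ Nat.card D := by
        have hsub : ({1, z * (n * z * n⁻¹), e * (n * e * n⁻¹)} : Set G) ⊆ D := by
          rintro _ (rfl | rfl | rfl)
          exacts [one_mem _, hgen (Or.inl rfl), hgen (Or.inr (Or.inl rfl))]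
        have h4 := Set.ncard_le_ncard hsub
        rw [Set.ncard_eq_three.2 ⟨_, _, _, (hd1 (Or.inl rfl)).symm, (hd1 (Or.inr (Or.inl rfl))).symm, hd2, rfl⟩,
          ← Nat.card_coe_set_eq] at h4
        exact h4
      have hD4 : Nat.card D = 4 := by
        have hd : Nat.card D ∣ 4 := hR4 ▸ card_dvd_of_le inf_le_right
        have := Nat.le_of_dvd (by norm_num) hd
        have h3' : Nat.card D ≠ 3 := fun h => by rw [h] at hd; norm_num at hd
        omega
      have hDR : D = R := eq_of_le_of_card_ge inf_le_right (by rw [hR4, hD4])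
      have hr' : (r : G) ∈ D := hDR.symm ▸ hr
      obtain ⟨w, hw, hwr⟩ := hr'.1
      exact (Subtype.ext hwr : w = r) ▸ hw
  set L := L'.map M.subtype with hL
  have hLM : L ≤ M := map_subtype_le _
  have hLs : L.subgroupOf M = L' := comap_map_eq_self_of_injective (subtype_injective _) _
  have hLT : L ⊓ T = R := by
    ext x
    constructor
    · rintro ⟨⟨y, hy, rfl⟩, hx⟩
      have : y ∈ L' ⊓ T.subgroupOf M := ⟨hy, hx⟩
      rw [hkey] at this; exact this
    · intro hx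
      have : (⟨x, hTM (hRT hx)⟩ : M) ∈ L' ⊓ T.subgroupOf M := by rw [hkey]; exact hx
      exact ⟨⟨_, this.1, rfl⟩, this.2⟩
  have hzL : z ∈ L := (hLT.symm.le hzR).1
  haveI hL'n : L'.Normal := Cfsg.Lib.Fusion.pResidual_normal 2 M
  have hLi : L'.index = 4 := by
    have h1 := relIndex_sup_right (H := (P : Subgroup M)) (K := L')
    rw [Cfsg.Lib.Fusion.sylow_sup_pResidual P, relIndex_top_right] at h1
    rw [h1, hP, ← inf_relIndex_right]
    have h2 := Cfsg.Lib.Core.card_mul_relIndex (inf_le_right : L' ⊓ T.subgroupOf M ≤ T.subgroupOf M)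
    have h5 : Nat.card ↥(L' ⊓ T.subgroupOf M) = 4 := by
      rw [hkey, Nat.card_congr (subgroupOfEquivOfLe (hRT.trans hTM)).toEquiv, hR4]
    rw [hT16', h5] at h2
    omega
  have hMcard : Nat.card M = 4 * Nat.card L := by
    rw [hL, card_map_of_injective (subtype_injective M), ← card_mul_index L', hLi, mul_comm]
  have hodd : Odd (Nat.card L / 4) ∧ 4 ∣ Nat.card L := by
    have h1 := card_mul_index (T.subgroupOf M)
    rw [hT16', hMcard] at h1
    have h2 : Nat.card L = 4 * (T.subgroupOf M).index := by omega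
    rw [h2, Nat.mul_div_cancel_left _ (by norm_num : 0 < 4)]
    exact ⟨Nat.odd_iff.2 (Nat.two_dvd_ne_zero.1 hidx), dvd_mul_right _ _⟩
  have hLC : L ⊓ centralizer ({z} : Set G) = R := by
    refine le_antisymm (fun a ha => hLT.le ⟨ha.1, ha.2, hLM ha.1⟩) fun a ha => ?_
    exact ⟨(hLT.symm.le ha).1, (hRT ha).1⟩
  have hnL : n ∈ L := ⟨⟨n, hnN.2⟩, Cfsg.Lib.Fusion.mem_pResidual_of_coprime
    (by rw [← Subgroup.orderOf_coe]; show Nat.Coprime (orderOf n) 2; rw [hn3]; norm_num), rfl⟩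
  by_cases h48 : Nat.card M = 48
  · right
    refine ⟨h48, fun x hxt hx2 => ?_⟩
    have hNM : N = M := eq_of_le_of_card_ge inf_le_right (by rw [hN48, h48])
    have hxN : x ∈ N := hNM.symm ▸ mem_centralizer_singleton_iff.2 hxt.eq
    by_cases hx1 : x = 1
    · rw [hx1]; exact Commute.one_left z
    obtain ⟨r, hr, hfix⟩ : ∃ r, (r = z ∨ r = e ∨ r = z * e) ∧ x * r * x⁻¹ = r := by
      by_contra hcon
      push Not at hcon
      have hinv : ∀ r, x * (x * r * x⁻¹) * x⁻¹ = r := fun r => by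
        rw [show x * (x * r * x⁻¹) * x⁻¹ = (x * x) * r * (x * x)⁻¹ by group, hx2]; simp
      rcases hNconj hxN (Or.inl rfl) with h | h | h
      · exact hcon z (Or.inl rfl) h
      all_goals
        have h' : ∀ {a}, x * z * x⁻¹ = a → x * a * x⁻¹ = z := fun ha => by rw [← ha, hinv]
      · refine hcon (z * e) (Or.inr (Or.inr rfl)) ?_
        rw [show x * (z * e) * x⁻¹ = x * z * x⁻¹ * (x * e * x⁻¹) by group, h, h' h, (hX.central e he.1).eq]
      · refine hcon e (Or.inr (Or.inl rfl)) ?_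
        have h2 := h' h
        rw [show x * (z * e) * x⁻¹ = x * z * x⁻¹ * (x * e * x⁻¹) by group, h] at h2
        calc x * e * x⁻¹ = (z * e)⁻¹ * (z * e * (x * e * x⁻¹)) := by group
          _ = e := by rw [h2, inv_eq_of_mul_eq_one_right (hsq _ (hRT hzeR)), mul_assoc,
              ← (hX.central e he.1).eq, hS.z_mul]
    exact (hmT.1 (hfixr hxN.2 hr (mul_inv_eq_iff_eq_mul.1 hfix))).1
  left
  -- `L` is alternating of degree five
  haveI : Finite L := inferInstance
  let z1 : L := ⟨z, hzL⟩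
  have hC4 : Nat.card ↥(centralizer ({z1} : Set L)) = 4 := by
    rw [← hR4, ← hLC]
    exact Nat.card_congr
      ⟨fun x => ⟨(x.1 : G), x.1.2, mem_centralizer_singleton_iff.2 (congrArg Subtype.val (mem_centralizer_singleton_iff.1 x.2))⟩,
      fun x => ⟨⟨x.1, x.2.1⟩, mem_centralizer_singleton_iff.2 (Subtype.ext (mem_centralizer_singleton_iff.1 x.2.2))⟩,
      fun x => rfl, fun x => rfl⟩
  have hCe : ∀ c ∈ centralizer ({z1} : Set L), c ^ 2 = 1 := fun c hc => by
    have hcR : (c : G) ∈ R := hLC ▸ ⟨c.2, mem_centralizer_singleton_iff.2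
      (congrArg Subtype.val (mem_centralizer_singleton_iff.1 hc))⟩
    exact Subtype.ext (by rw [SubgroupClass.coe_pow, pow_two, hsq _ (hRT hcR)]; rfl)
  have hres : Cfsg.pResidual 2 L' = ⊤ := Cfsg.Lib.Fusion.pResidual_pResidual 2 M
  have hno : ¬ Cfsg.HasNormalPComplement 2 L := fun h => by
    have h' : Cfsg.HasNormalPComplement 2 L' :=
      (Cfsg.Lib.Fusion.hasNormalPComplement_congr (L'.equivMapOfInjective _ (subtype_injective M))).2 h
    rw [Cfsg.Lib.Fusion.hasNormalPComplement_iff_coprime, hres, card_top,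
      Nat.card_congr (L'.equivMapOfInjective _ (subtype_injective M)).toEquiv] at h'
    have h2 : (2 : ℕ) ∣ Nat.card L := (by norm_num : (2 : ℕ) ∣ 4).trans hodd.2
    exact absurd (Nat.eq_one_of_dvd_coprimes h' h2 dvd_rfl) (by norm_num)
  have hnoE : ∀ E : Subgroup L, E.Normal → Cfsg.IsElementaryAbelian 2 E → Nat.card E ≠ 2 ∧ Nat.card E ≠ 4 := by
    intro E hEn hEe
    have hEp : IsPGroup 2 E := fun a => ⟨1, Subtype.ext (by simpa using hEe.2 a.1 a.2)⟩
    have hR' : Nat.card (R.subgroupOf L) = 4 := by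
      rw [Nat.card_congr (subgroupOfEquivOfLe (hLT.symm.le.trans inf_le_left)).toEquiv, hR4]
    have hER : E ≤ R.subgroupOf L := by
      haveI := hEn
      have hsup : IsPGroup 2 ↥(E ⊔ R.subgroupOf L) :=
        hEp.to_sup_of_normal_left (IsPGroup.of_card (n := 2) (by rw [hR']; norm_num))
      obtain ⟨i, hi⟩ := hsup.exists_card_eq
      have hd : 2 ^ i ∣ Nat.card L := hi ▸ card_subgroup_dvd_card _
      have hi2 : i ≤ 2 := by
        by_contra hi3
        have h8 : 2 ^ 3 ∣ Nat.card L := (pow_dvd_pow 2 (by omega)).trans hd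
        obtain ⟨⟨k, hk⟩, m, hm⟩ := hodd
        obtain ⟨j, hj⟩ := h8
        omega
      have : R.subgroupOf L = E ⊔ R.subgroupOf L := eq_of_le_of_card_ge le_sup_right (by
        rw [hi, hR']; exact (Nat.pow_le_pow_right (by norm_num) hi2).trans (by norm_num))
      rw [this]; exact le_sup_left
    constructor
    · intro h2
      obtain ⟨a, b, hab', -⟩ := Nat.card_eq_two_iff.1 h2
      obtain ⟨r, hr1⟩ : ∃ r : E, r ≠ 1 := by
        by_cases ha : a = 1
        · exact ⟨b, fun hb => hab' (ha.trans hb.symm)⟩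
        · exact ⟨a, ha⟩
      have hrR : ((r : L) : G) ∈ R := hER r.2
      have hconj := hEn.conj_mem r r.2 ⟨n, hnL⟩
      have huniq : ∀ w : E, w ≠ 1 → w = r := fun w hw => by
        obtain ⟨a', b', hne', huv⟩ := Nat.card_eq_two_iff.1 h2
        have h1 : ∀ u : E, u = a' ∨ u = b' := fun u => by
          simpa using (huv.symm ▸ Set.mem_univ u : u ∈ ({a', b'} : Set E))
        rcases h1 w with rfl | rfl <;> rcases h1 r with rfl | rfl <;> rcases h1 1 with e1 | e1 <;>
          first | rfl | exact absurd e1.symm hw | exact absurd e1.symm hr1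
      have hw : (⟨_, hconj⟩ : E) = r := huniq _ fun h =>
        hr1 (Subtype.ext (conj_eq_one_iff.1 (congrArg Subtype.val h)))
      have hc : n * ((r : L) : G) * n⁻¹ = ((r : L) : G) :=
        congrArg (fun w : E => ((w : L) : G)) hw
      rcases hR hrR with h | h
      · exact hr1 (Subtype.ext (Subtype.ext h))
      · exact hnmove h hc
    · intro h4
      have hEq : E = R.subgroupOf L := eq_of_le_of_card_ge hER (by rw [h4, hR'])
      have horb : (fun k => k * z * k⁻¹) '' (L : Set G) ⊆ {z, e, z * e} := by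
        rintro _ ⟨k, hk, rfl⟩
        have := hEn.conj_mem ⟨z, hzL⟩ (hEq.symm ▸ hzR) ⟨k, hk⟩
        rw [hEq] at this
        rcases hR (show k * z * k⁻¹ ∈ R from this) with h | h
        · exact absurd (conj_eq_one_iff.1 h) hX.ne_one
        · simpa using h
      have h12 : Nat.card L ≤ 12 := by
        rw [← card_class_mul L hzL, hLC, hR4]
        calc _ ≤ ({z, e, z * e} : Set G).ncard * 4 := Nat.mul_le_mul_right _ (Set.ncard_le_ncard horb)
          _ = 12 := by rw [h3]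
      have h48' : 48 ≤ Nat.card M := hN48 ▸ card_le_of_le inf_le_right
      exact h48 (by omega)
  obtain ⟨eL⟩ := Cfsg.Agent.S3277.result z1 (by rw [← Subgroup.orderOf_coe]; exact hS.z_two) hC4 hCe hno hnoE
  have hVM : V ≤ M := inf_le_left.trans hTM
  -- `V` centralizes `L`
  have hzn : n * z * n⁻¹ ∈ T := hnnorm z hzT
  have hcomm : ∀ v ∈ V, ∀ l ∈ L, Commute v l := fun v hv l hl =>
    commute_of_fix eL (fun x hx => by
        obtain ⟨y, hy, rfl⟩ := hx
        exact ⟨⟨v, hVM hv⟩ * y * ⟨v, hVM hv⟩⁻¹, hL'n.conj_mem y hy _, rfl⟩)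
      hzL hnL hX.sq_z hX.ne_one (hn3 ▸ pow_orderOf_eq_one n) (hnmove (Or.inl rfl))
      (hab _ hzn _ hzT).eq (hmT.1 hv.1).1 (mem_centralizer_singleton_iff.1 hv.2) hl
  have hVL : V ⊓ L = ⊥ := by
    rw [eq_bot_iff]
    intro x hx
    rw [mem_bot]
    exact hVR x hx.1 (hLT ▸ ⟨hx.2, hx.1.1⟩)
  have hdec : ∀ g ∈ M, ∃ v ∈ V, ∃ l ∈ L, g = v * l := by
    intro g hg
    let F : V × L → M := fun p => ⟨p.1 * p.2, mul_mem (hVM p.1.2) (hLM p.2.2)⟩
    have hF : Function.Injective F := by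
      rintro ⟨a, b⟩ ⟨a', b'⟩ h
      have h' : (a : G) * b = a' * b' := congrArg Subtype.val h
      have e1 : (a' : G)⁻¹ * a = (b' : G) * (b : G)⁻¹ := by
        rw [eq_mul_inv_iff_mul_eq, mul_assoc, h', inv_mul_cancel_left]
      have hm : (a' : G)⁻¹ * a ∈ V ⊓ L :=
        mem_inf.2 ⟨mul_mem (inv_mem a'.2) a.2, e1.symm ▸ mul_mem b'.2 (inv_mem b.2)⟩
      rw [hVL, mem_bot] at hm
      have ha : (a : G) = a' := (inv_mul_eq_one.1 hm).symm
      rw [ha] at h'
      rw [Subtype.ext ha, Subtype.ext (mul_left_cancel h')]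
    obtain ⟨⟨v, l⟩, hvl⟩ := ((Nat.bijective_iff_injective_and_card F).2
      ⟨hF, by rw [Nat.card_prod, hV4, hMcard]⟩).2 ⟨g, hg⟩
    exact ⟨v, v.2, l, l.2, (congrArg Subtype.val hvl).symm⟩
  have hinvL : ∀ x ∈ L, x * x = 1 → x ≠ 1 → ∃ c ∈ L, c * z * c⁻¹ = x := by
    intro x hx h2 h1
    obtain ⟨c, hc⟩ := a5_invol_conj (eL z1) (eL ⟨x, hx⟩)
      (by rw [← map_mul, ← map_one eL]; exact congrArg eL (Subtype.ext hX.sq_z))
      (fun h => hX.ne_one (congrArg Subtype.val (eL.map_eq_one_iff.1 h)))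
      (by rw [← map_mul, ← map_one eL]; exact congrArg eL (Subtype.ext h2))
      (fun h => h1 (congrArg Subtype.val (eL.map_eq_one_iff.1 h)))
    obtain ⟨c', rfl⟩ := eL.surjective c
    rw [← map_mul, ← map_inv, ← map_mul] at hc
    exact ⟨c', c'.2, congrArg Subtype.val (eL.injective hc)⟩
  refine ⟨V, L, hVM, hLM, hcomm, hVL, hdec, hV4, fun v hv => hsq v hv.1, ⟨htT, mem_centralizer_singleton_iff.2 htn.eq⟩,
    fun v hv => (hmT.1 hv.1).1, hzL, ⟨eL⟩, fun x hx hx2 => ?_, fun x hx hx2 hxL => ?_⟩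
  · obtain ⟨c, -, hc⟩ := hinvL x hx (mul_self_of_order_two hx2).1 (mul_self_of_order_two hx2).2
    exact isConj_iff.2 ⟨c, hc⟩
  · obtain ⟨v, hv, l, hl, rfl⟩ := hdec x hx
    have hv1 : v ≠ 1 := fun h => hxL (by rw [h, one_mul]; exact hl)
    have hl2 : l * l = 1 := by
      have h2 := (mul_self_of_order_two hx2).1
      rwa [(hcomm v hv l hl).symm.mul_mul_mul_comm, hsq v hv.1, one_mul] at h2
    have hout : ∀ w, w ∈ R → IsConj t (v * w) := fun w hw => by
      have hvw : v * w ∈ T := mul_mem hv.1 (hRT hw)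
      have hnQ : v * w ∉ Q := fun h => hv1 (hVR v hv (by
        have : v * w ∈ R := ⟨h, hTM hvw⟩
        simpa using mul_mem this (inv_mem hw)))
      exact hS.outer_isConj ht ⟨order_two (hsq _ hvw) (fun h => hnQ (h ▸ one_mem _)), (hmT.1 hvw).1, hnQ⟩
    by_cases hl1 : l = 1
    · subst hl1; exact hout 1 (one_mem _)
    obtain ⟨c, hc, hcl⟩ := hinvL l hl hl2 hl1
    refine (hout z hzR).trans (isConj_iff.2 ⟨c, ?_⟩)
    rw [show c * (v * z) * c⁻¹ = c * v * c⁻¹ * (c * z * c⁻¹) by group, hcl,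
      ← (hcomm v hv c hc).eq, mul_inv_cancel_right]

end Cfsg.Lib.J2Type
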