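import Cfsg.Agent.Lib.J2Type.Main
import Mathlib.GroupTheory.SpecificGroups.KleinFour

/-!
# The normalizer of the four group attached to an involution outside `z^G`
-/

set_option autoImplicit false
set_option linter.style.haveILetI false
set_option linter.unusedSectionVars false

namespace Cfsg.Lib.J2Type

open Cfsg Subgroup

set_option maxRecDepth 100000 in
set_option maxHeartbeats 2000000 in
theorem a5_center : ∀ x : A5, (∀ y : A5, y * x = x * y) → x = 1 := by decide +kernel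

/-- An automorphism of `A₅` whose cube is inner is inner. -/
theorem a5_inner (σ : A5 ≃* A5) (m : A5) (h : ∀ x, σ (σ (σ x)) = m * x * m⁻¹) :
    ∃ c, ∀ x, σ x = c * x * c⁻¹ := by
  have hr : rZero * rZero = 1 ∧ rZero ≠ 1 ∧ nZero ^ 3 = 1 ∧ nZero * rZero * nZero⁻¹ ≠ rZero ∧
      nZero * rZero * nZero⁻¹ * rZero = rZero * (nZero * rZero * nZero⁻¹) := by decide +kernel
  obtain ⟨hr2, hr1, hn3, hne, hcom⟩ := hr
  suffices ∃ c, σ rZero = c * rZero * c⁻¹ ∧ σ nZero = c * nZero * c⁻¹ by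
    obtain ⟨c, h1, h2⟩ := this
    refine ⟨c, fun x => ?_⟩
    have h3 := a5_aut_trivial (σ.trans (MulAut.conj c⁻¹)) hr2 hr1 hn3 hne hcom
      (show MulAut.conj c⁻¹ (σ rZero) = rZero by rw [h1, MulAut.conj_apply]; group)
      (show MulAut.conj c⁻¹ (σ nZero) = nZero by rw [h2, MulAut.conj_apply]; group) x
    change c⁻¹ * σ x * c⁻¹⁻¹ = x at h3
    calc σ x = c * (c⁻¹ * σ x * c⁻¹⁻¹) * c⁻¹ := by group
      _ = _ := by rw [h3]
  obtain ⟨a, ha1, ha2⟩ := a5_frame (σ rZero) (σ nZero) (by rw [← map_mul, hr2, map_one])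
    (fun e => hr1 (σ.map_eq_one_iff.1 e)) (by rw [← map_pow, hn3, map_one])
    (fun e => hne (σ.injective (by rw [map_mul, map_mul, map_inv, e])))
    (by simp only [← map_inv, ← map_mul, hcom])
  obtain ⟨c, rfl⟩ : ∃ c, a = c⁻¹ := ⟨a⁻¹, by group⟩
  have hσr : σ rZero = c * rZero * c⁻¹ := by
    calc σ rZero = c * (c⁻¹ * σ rZero * c⁻¹⁻¹) * c⁻¹ := by group
      _ = _ := by rw [ha1]
  rcases ha2 with e | e
  · refine ⟨c, hσr, ?_⟩
    calc σ nZero = c * (c⁻¹ * σ nZero * c⁻¹⁻¹) * c⁻¹ := by group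
      _ = _ := by rw [e]
  have hσn : σ nZero = c * nZero⁻¹ * c⁻¹ := by
    calc σ nZero = c * (c⁻¹ * (σ nZero)⁻¹ * c⁻¹⁻¹)⁻¹ * c⁻¹ := by group
      _ = _ := by rw [e]
  have er : σ (σ (σ rZero)) = σ (σ c) * σ c * c * rZero * (σ (σ c) * σ c * c)⁻¹ := by
    simp only [hσr, map_mul, map_inv]; group
  have en : σ (σ (σ nZero)) = σ (σ c) * σ c * c * nZero⁻¹ * (σ (σ c) * σ c * c)⁻¹ := by
    simp only [hσn, map_mul, map_inv]; group
  rw [h] at er en
  obtain ⟨k, hk⟩ : ∃ k, k = m⁻¹ * (σ (σ c) * σ c * c) := ⟨_, rfl⟩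
  have kr : k * rZero * k⁻¹ = rZero := by
    calc k * rZero * k⁻¹ = m⁻¹ * (σ (σ c) * σ c * c * rZero * (σ (σ c) * σ c * c)⁻¹) * m := by rw [hk]; group
      _ = rZero := by rw [← er]; group
  have kn : k * nZero⁻¹ * k⁻¹ = nZero := by
    calc k * nZero⁻¹ * k⁻¹ = m⁻¹ * (σ (σ c) * σ c * c * nZero⁻¹ * (σ (σ c) * σ c * c)⁻¹) * m := by rw [hk]; group
      _ = nZero := by rw [← en]; group
  refine ⟨c * k⁻¹, ?_, ?_⟩
  · rw [hσr]; conv_lhs => rw [show rZero = k⁻¹ * (k * rZero * k⁻¹) * k by group, kr]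
    group
  · rw [hσn]; conv_lhs => rw [show nZero⁻¹ = k⁻¹ * (k * nZero⁻¹ * k⁻¹) * k by group, kn]
    group

variable {G : Type*} [Group G] [Finite G] {z t : G} {V L : Subgroup G}

theorem card_centralizer_conj {x y : G} (h : IsConj x y) :
    Nat.card ↥(centralizer ({x} : Set G)) = Nat.card ↥(centralizer ({y} : Set G)) := by
  obtain ⟨g, rfl⟩ := isConj_iff.1 h
  have := map_conj_inf g x x
  rw [inf_idem, inf_idem] at this
  rw [← this, Cfsg.Lib.Sig.card_map_conj]

variable (hB : Big z t V L)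
include hB

theorem Big.uniq {v v' l l' : G} (hv : v ∈ V) (hv' : v' ∈ V) (hl : l ∈ L) (hl' : l' ∈ L)
    (h : v * l = v' * l') : v = v' ∧ l = l' := by
  have e : v'⁻¹ * v = l' * l⁻¹ := by rw [eq_mul_inv_iff_mul_eq, mul_assoc, h, inv_mul_cancel_left]
  have hm : v'⁻¹ * v ∈ V ⊓ L := mem_inf.2 ⟨mul_mem (inv_mem hv') hv, e.symm ▸ mul_mem hl' (inv_mem hl)⟩
  rw [hB.inf, mem_bot] at hm
  have hvv : v = v' := (inv_mul_eq_one.1 hm).symm
  exact ⟨hvv, mul_left_cancel (hvv ▸ h)⟩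

/-- The product map onto the centralizer of `t`. -/
noncomputable def Big.prodEquiv : ↥V × ↥L ≃* ↥(centralizer ({t} : Set G)) :=
  MulEquiv.ofBijective
    ({ toFun := fun p => ⟨(p.1 : G) * p.2, mul_mem (hB.V_le p.1.2) (hB.L_le p.2.2)⟩
       map_one' := Subtype.ext (by simp)
       map_mul' := fun p q => Subtype.ext (show (p.1 : G) * q.1 * (p.2 * q.2) = p.1 * p.2 * (q.1 * q.2) from
        (show Commute (q.1 : G) p.2 from hB.comm _ q.1.2 _ p.2.2).mul_mul_mul_comm _ _) } : ↥V × ↥L →* _)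
    ⟨fun a b h => by
      obtain ⟨h1, h2⟩ := hB.uniq a.1.2 b.1.2 a.2.2 b.2.2 (congrArg Subtype.val h)
      exact Prod.ext (Subtype.ext h1) (Subtype.ext h2),
    fun g => by
      obtain ⟨v, hv, l, hl, e⟩ := hB.dec g g.2
      exact ⟨(⟨v, hv⟩, ⟨l, hl⟩), Subtype.ext e.symm⟩⟩

theorem Big.card_M : Nat.card ↥(centralizer ({t} : Set G)) = 240 := by
  obtain ⟨e⟩ := hB.iso
  rw [← Nat.card_congr hB.prodEquiv.toEquiv, Nat.card_prod, hB.card_V, Nat.card_congr e.toEquiv, a5_card]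

theorem Big.klein : Nonempty (↥V ≃* Multiplicative (ZMod 2) × Multiplicative (ZMod 2)) := by
  haveI : IsKleinFour V := by
    refine ⟨hB.card_V, ?_⟩
    refine (Nat.prime_two.eq_one_or_self_of_dvd _ (Monoid.exponent_dvd_of_forall_pow_eq_one
      fun c => Subtype.ext (by simpa [pow_two] using hB.sq_V c c.2))).resolve_left fun h1 => ?_
    haveI := Monoid.exp_eq_one_iff.1 h1
    have h4 := hB.card_V
    rw [Nat.card_of_subsingleton (1 : V)] at h4
    norm_num at h4
  obtain ⟨e⟩ := IsKleinFour.nonempty_mulEquiv (G₁ := ↥V) (G₂ := Multiplicative (ZMod 2 × ZMod 2))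
  exact ⟨e.trans (MulEquiv.prodMultiplicative _ _)⟩

theorem Big.center_L {x : G} (hx : x ∈ L) (hc : ∀ y ∈ L, Commute y x) : x = 1 := by
  obtain ⟨e⟩ := hB.iso
  have h : e ⟨x, hx⟩ = 1 := a5_center _ fun y => by
    obtain ⟨y', rfl⟩ := e.surjective y
    rw [← map_mul, ← map_mul]
    exact congrArg e (Subtype.ext (hc y' y'.2))
  exact congrArg Subtype.val (e.map_eq_one_iff.1 h)

theorem Big.mem_V_iff {x : G} : x ∈ V ↔ Commute x t ∧ ∀ y, Commute y t → Commute y x := by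
  constructor
  · intro hx
    refine ⟨mem_centralizer_singleton_iff.1 (hB.V_le hx), fun y hy => ?_⟩
    obtain ⟨v, hv, l, hl, rfl⟩ := hB.dec y (mem_centralizer_singleton_iff.2 hy.eq)
    refine Commute.mul_left ?_ (hB.comm x hx l hl).symm
    have h1 := hB.sq_V _ (mul_mem hv hx)
    calc v * x = (v * x)⁻¹ := eq_inv_of_mul_eq_one_left h1
      _ = x * v := by
        rw [mul_inv_rev, inv_eq_of_mul_eq_one_right (hB.sq_V x hx), inv_eq_of_mul_eq_one_right (hB.sq_V v hv)]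
  · rintro ⟨hx, hc⟩
    obtain ⟨v, hv, l, hl, rfl⟩ := hB.dec x (mem_centralizer_singleton_iff.2 hx.eq)
    have : l = 1 := hB.center_L hl fun y hy => by
      have h := hc y (mem_centralizer_singleton_iff.1 (hB.L_le hy))
      have h' : y * (v * l) = v * l * y := h
      rw [← mul_assoc, ← (hB.comm v hv y hy).eq, mul_assoc, mul_assoc] at h'
      exact mul_left_cancel h'
    rw [this, mul_one]; exact hv

/-- The largest normal 2-subgroup of the centralizer. -/
theorem Big.pCore_eq :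
    (Cfsg.pCore 2 ↥(centralizer ({t} : Set G))).map (centralizer ({t} : Set G)).subtype = V := by
  haveI : Fact (Nat.Prime 2) := ⟨Nat.prime_two⟩
  set M := centralizer ({t} : Set G)
  apply le_antisymm
  · rintro _ ⟨x, hx, rfl⟩
    obtain ⟨v, hv, l, hl, hxe⟩ := hB.dec (x : G) x.2
    obtain ⟨e⟩ := hB.iso
    -- project to the alternating factor
    let π : M →* ↥L := (MonoidHom.snd ↥V ↥L).comp hB.prodEquiv.symm.toMonoidHom
    have hπ : Function.Surjective π := fun l => ⟨hB.prodEquiv (1, l), by simp [π]⟩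
    have hN : ((Cfsg.pCore 2 ↥M).map π).Normal := (inferInstance : (Cfsg.pCore 2 ↥M).Normal).map π hπ
    have hp : IsPGroup 2 ↥((Cfsg.pCore 2 ↥M).map π) := (Cfsg.Lib.Core.pCore_isPGroup 2 ↥M).map π
    have hbot : (Cfsg.pCore 2 ↥M).map π = ⊥ := by
      haveI : IsSimpleGroup L := MulEquiv.isSimpleGroup e
      rcases hN.eq_bot_or_eq_top with h | h
      · exact h
      · exfalso
        rw [h] at hp
        obtain ⟨i, hi⟩ := hp.exists_card_eq
        rw [card_top, Nat.card_congr e.toEquiv, a5_card] at hi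
        have h5 : 5 ∣ 2 ^ i := hi ▸ (by norm_num : (5 : ℕ) ∣ 60)
        exact absurd ((Fact.out : Nat.Prime 2).eq_one_or_self_of_dvd 5 ((Nat.Prime.dvd_of_dvd_pow (by norm_num) h5))) (by norm_num)
    have hx1 : π x = 1 := by
      have : π x ∈ (⊥ : Subgroup L) := hbot ▸ mem_map_of_mem _ hx
      exact mem_bot.1 this
    have hx2 : hB.prodEquiv (⟨v, hv⟩, ⟨l, hl⟩) = x := Subtype.ext hxe.symm
    rw [← hx2] at hx1
    have hl1 : l = 1 := congrArg Subtype.val (show (⟨l, hl⟩ : L) = 1 by simpa [π] using hx1)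
    show (x : G) ∈ V
    rw [hxe, hl1, mul_one]; exact hv
  · intro v hv
    haveI : (V.subgroupOf M).Normal := ⟨fun a ha g => by
      have hc : Commute (g : G) a := ((hB.mem_V_iff.1 ha).2 g (mem_centralizer_singleton_iff.1 g.2))
      have e : g * a * g⁻¹ = a := Subtype.ext (mul_inv_eq_iff_eq_mul.2 hc.eq)
      rw [e]; exact ha⟩
    have hp : IsPGroup 2 ↥(V.subgroupOf M) := fun a => ⟨1, by
      refine Subtype.ext (Subtype.ext ?_)
      simpa [pow_two] using hB.sq_V _ a.2⟩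
    exact ⟨⟨v, hB.V_le hv⟩, Cfsg.Lib.Core.le_pCore hp hv, rfl⟩

variable (ht : orderOf t = 2) (hnc : ¬ IsConj z t)
include ht hnc

theorem Big.mem_L_iff {x : G} (hx : Commute x t) (h2 : orderOf x = 2) : x ∈ L ↔ IsConj z x :=
  ⟨fun h => hB.conj_L x h h2, fun h => by_contra fun hL =>
    hnc (h.trans (hB.conj_out x (mem_centralizer_singleton_iff.2 hx.eq) h2 hL).symm)⟩

theorem Big.isConj_of_mem_V {v : G} (hv : v ∈ V) (hv1 : v ≠ 1) : IsConj t v :=
  hB.conj_out v (hB.V_le hv) (order_two (hB.sq_V v hv) hv1) fun h => hv1 (by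
    have : v ∈ V ⊓ L := mem_inf.2 ⟨hv, h⟩
    rwa [hB.inf, mem_bot] at this)

theorem Big.centralizer_eq {v : G} (hv : v ∈ V) (hv1 : v ≠ 1) :
    centralizer ({v} : Set G) = centralizer ({t} : Set G) := by
  refine (eq_of_le_of_card_ge (fun x hx => ?_) (card_centralizer_conj (hB.isConj_of_mem_V ht hnc hv hv1)).ge).symm
  exact mem_centralizer_singleton_iff.2 ((hB.mem_V_iff.1 hv).2 x (mem_centralizer_singleton_iff.1 hx)).eq

theorem Big.M_le_normalizer : centralizer ({t} : Set G) ≤ normalizer (V : Set G) := fun g hg =>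
  Cfsg.Lib.Fusion.le_normalizer_of_conj_mem fun x hx => by
    rw [mul_inv_eq_iff_eq_mul.2 ((hB.mem_V_iff.1 hx).2 g (mem_centralizer_singleton_iff.1 hg)).eq]; exact hx

theorem Big.commute_iff_of_conj {g : G} (hg : g * t * g⁻¹ ∈ V) (x : G) :
    Commute (g * x * g⁻¹) t ↔ Commute x t := by
  have hne : g * t * g⁻¹ ≠ 1 := fun h => (mul_self_of_order_two ht).2 (conj_eq_one_iff.1 h)
  rw [← Commute.conj_iff (a := x) g]
  have h := hB.centralizer_eq ht hnc hg hne
  constructor <;> intro h'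
  · have : g * x * g⁻¹ ∈ centralizer ({g * t * g⁻¹} : Set G) := h.symm ▸ mem_centralizer_singleton_iff.2 h'.eq
    exact mem_centralizer_singleton_iff.1 this
  · have : g * x * g⁻¹ ∈ centralizer ({g * t * g⁻¹} : Set G) := mem_centralizer_singleton_iff.2 h'.eq
    rw [h] at this
    exact mem_centralizer_singleton_iff.1 this

/-- Conjugations moving `t` inside `V` normalize `V`. -/
theorem Big.mem_normalizer_of_conj {g : G} (hg : g * t * g⁻¹ ∈ V) : g ∈ normalizer (V : Set G) :=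
  Cfsg.Lib.Fusion.le_normalizer_of_conj_mem fun x hx => by
    obtain ⟨hxt, hc⟩ := hB.mem_V_iff.1 hx
    refine hB.mem_V_iff.2 ⟨(hB.commute_iff_of_conj ht hnc hg x).2 hxt, fun y hy => ?_⟩
    have hy' : Commute (g⁻¹ * y * g) t := (hB.commute_iff_of_conj ht hnc hg _).1 (by
      rw [show g * (g⁻¹ * y * g) * g⁻¹ = y by group]; exact hy)
    have := (Commute.conj_iff g).2 (hc _ hy')
    rwa [show g * (g⁻¹ * y * g) * g⁻¹ = y by group] at this

theorem Big.conj_L_mem {g : G} (hg : g ∈ normalizer (V : Set G)) {x : G} (hx : x ∈ L) : g * x * g⁻¹ ∈ L := by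
  obtain ⟨e⟩ := hB.iso
  have hgt : g * t * g⁻¹ ∈ V := (mem_normalizer_iff.1 hg t).1 hB.t_mem
  have key : ∀ a : L, a * a = 1 → g * (a : G) * g⁻¹ ∈ L := fun a ha => by
    by_cases ha1 : (a : G) = 1
    · rw [ha1]; simp
    have ha2 : orderOf (a : G) = 2 := order_two (congrArg Subtype.val ha) ha1
    refine (hB.mem_L_iff ht hnc ((hB.commute_iff_of_conj ht hnc hgt _).2
      (mem_centralizer_singleton_iff.1 (hB.L_le a.2))) (by rw [Cfsg.Lib.Invol.orderOf_conj_eq, ha2])).2 ?_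
    exact (hB.conj_L _ a.2 ha2).trans (isConj_iff.2 ⟨g, rfl⟩)
  obtain ⟨a, b, ha, hb, hab⟩ := a5_gen (e ⟨x, hx⟩)
  have hx' : x = (e.symm a : G) * (e.symm b : G) := by
    rw [← Subgroup.coe_mul, ← map_mul, ← hab, MulEquiv.symm_apply_apply]
  rw [hx', show g * ((e.symm a : G) * (e.symm b : G)) * g⁻¹ =
    g * (e.symm a : G) * g⁻¹ * (g * (e.symm b : G) * g⁻¹) by group]
  exact mul_mem (key _ (by rw [← map_mul, ha, map_one])) (key _ (by rw [← map_mul, hb, map_one]))

theorem Big.card_normalizer : Nat.card ↥(normalizer (V : Set G)) = 720 := by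
  classical
  have horb : (fun k => k * t * k⁻¹) '' (normalizer (V : Set G) : Set G) = (V : Set G) \ {1} := by
    ext v
    constructor
    · rintro ⟨k, hk, rfl⟩
      exact ⟨(mem_normalizer_iff.1 hk t).1 hB.t_mem, fun h => (mul_self_of_order_two ht).2 (conj_eq_one_iff.1 h)⟩
    · rintro ⟨hv, hv1⟩
      obtain ⟨g, hg⟩ := isConj_iff.1 (hB.isConj_of_mem_V ht hnc hv hv1)
      exact ⟨g, hB.mem_normalizer_of_conj ht hnc (hg.symm ▸ hv), hg⟩
  have h := card_class_mul (z := t) (normalizer (V : Set G)) (le_normalizer hB.t_mem)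
  rw [horb, inf_eq_right.2 (hB.M_le_normalizer ht hnc), hB.card_M, Set.ncard_diff_singleton_of_mem (one_mem V),
    ← Nat.card_coe_set_eq] at h
  change (Nat.card V - 1) * 240 = _ at h
  rw [← h, hB.card_V]

theorem Big.exists_inner {g : G} (hg : g ∈ normalizer (V : Set G)) :
    ∃ l ∈ L, ∀ x ∈ L, g * x * g⁻¹ = l * x * l⁻¹ := by
  classical
  obtain ⟨e⟩ := hB.iso
  let K : Subgroup G :=
    { carrier := {g | g ∈ normalizer (V : Set G) ∧ ∃ l ∈ L, ∀ x ∈ L, g * x * g⁻¹ = l * x * l⁻¹}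
      one_mem' := ⟨one_mem _, 1, one_mem L, fun x _ => rfl⟩
      mul_mem' := fun {a b} ha hb => by
        obtain ⟨ha', l, hl, hla⟩ := ha
        obtain ⟨hb', m, hm, hmb⟩ := hb
        refine ⟨mul_mem ha' hb', l * m, mul_mem hl hm, fun x hx => ?_⟩
        rw [show a * b * x * (a * b)⁻¹ = a * (b * x * b⁻¹) * a⁻¹ by group, hmb x hx,
          hla _ (mul_mem (mul_mem hm hx) (inv_mem hm))]
        group
      inv_mem' := fun {a} ha => by
        obtain ⟨ha', l, hl, hla⟩ := ha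
        refine ⟨inv_mem ha', l⁻¹, inv_mem hl, fun x hx => ?_⟩
        have h := hla (l⁻¹ * x * l) (mul_mem (mul_mem (inv_mem hl) hx) hl)
        rw [show l * (l⁻¹ * x * l) * l⁻¹ = x by group] at h
        calc a⁻¹ * x * a⁻¹⁻¹ = a⁻¹ * (a * (l⁻¹ * x * l) * a⁻¹) * a⁻¹⁻¹ := by rw [h]
          _ = l⁻¹ * x * l⁻¹⁻¹ := by group }
  have hKN : K ≤ normalizer (V : Set G) := fun a ha => ha.1
  have hMK : centralizer ({t} : Set G) ≤ K := fun a ha => by
    obtain ⟨v, hv, l, hl, rfl⟩ := hB.dec a ha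
    refine ⟨hB.M_le_normalizer ht hnc ha, l, hl, fun x hx => ?_⟩
    rw [show v * l * x * (v * l)⁻¹ = v * (l * x * l⁻¹) * v⁻¹ by group,
      (hB.comm v hv _ (mul_mem (mul_mem hl hx) (inv_mem hl))).eq, mul_inv_cancel_right]
  -- an element outside the centralizer
  obtain ⟨a, ha, ha1, hat⟩ : ∃ a ∈ V, a ≠ 1 ∧ a ≠ t := by
    by_contra hcon
    push Not at hcon
    have h' := Set.ncard_le_ncard (show (V : Set G) ⊆ {1, t} from fun x hx => by
      by_cases hx1 : x = 1
      · exact Or.inl hx1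
      · exact Or.inr (hcon x hx hx1))
    rw [← Nat.card_coe_set_eq] at h'
    change Nat.card V ≤ _ at h'
    have := (Set.ncard_insert_le (1 : G) {t})
    rw [Set.ncard_singleton] at this
    have := hB.card_V
    omega
  obtain ⟨g0, hg0⟩ := isConj_iff.1 (hB.isConj_of_mem_V ht hnc ha ha1)
  have hg0N : g0 ∈ normalizer (V : Set G) := hB.mem_normalizer_of_conj ht hnc (hg0.symm ▸ ha)
  have hg0M : g0 ∉ centralizer ({t} : Set G) := fun h =>
    hat (hg0.symm.trans (mul_inv_eq_iff_eq_mul.2 (mem_centralizer_singleton_iff.1 h)))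
  have hcube : g0 * g0 * g0 ∈ centralizer ({t} : Set G) := by
    refine mem_centralizer_singleton_iff.2 (mul_inv_eq_iff_eq_mul.1 ?_)
    rw [show g0 * g0 * g0 * t * (g0 * g0 * g0)⁻¹ = g0 * (g0 * (g0 * t * g0⁻¹) * g0⁻¹) * g0⁻¹ by group, hg0]
    have hinj : ∀ {p q}, g0 * p * g0⁻¹ = g0 * q * g0⁻¹ → p = q := fun h => mul_left_cancel (mul_right_cancel h)
    have hmem : ∀ {p}, p ∈ V → g0 * p * g0⁻¹ ∈ V := fun hp => (mem_normalizer_iff.1 hg0N _).1 hp
    have hne1 : ∀ {p}, p ≠ 1 → g0 * p * g0⁻¹ ≠ 1 := fun hp h => hp (conj_eq_one_iff.1 h)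
    set b := g0 * a * g0⁻¹ with hb
    have hba : b ≠ a := fun h => hat (hinj (h.trans hg0.symm))
    by_cases hbt : b = t
    · -- the third element would be fixed
      exfalso
      have hat' : Commute a t := mem_centralizer_singleton_iff.1 (hB.V_le ha)
      have hta1 : t * a ≠ 1 := fun h => hat ((eq_inv_of_mul_eq_one_right h).trans
        (inv_eq_of_mul_eq_one_right (mul_self_of_order_two ht).1))
      have hfix : g0 * (t * a) * g0⁻¹ = t * a := by
        rw [show g0 * (t * a) * g0⁻¹ = g0 * t * g0⁻¹ * (g0 * a * g0⁻¹) by group, hg0, ← hb, hbt, hat'.eq]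
      have := hB.centralizer_eq ht hnc (mul_mem hB.t_mem ha) hta1
      exact hg0M (this ▸ mem_centralizer_singleton_iff.2 (mul_inv_eq_iff_eq_mul.1 hfix))
    -- otherwise a three-cycle
    have hb1 : b ≠ 1 := hne1 ha1
    have hbV : b ∈ V := hmem ha
    have hc1 : g0 * b * g0⁻¹ ≠ 1 := hne1 hb1
    have hca : g0 * b * g0⁻¹ ≠ a := fun h => hbt (hinj (h.trans hg0.symm))
    have hcb : g0 * b * g0⁻¹ ≠ b := fun h => hba (hinj (h.trans hb))
    have hfour : ∀ x ∈ V, x = 1 ∨ x = a ∨ x = b ∨ x = t := by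
      have hset : ({1, a, b, t} : Set G) = (V : Set G) := by
        refine Set.eq_of_subset_of_ncard_le ?_ ?_
        · rintro _ (rfl | rfl | rfl | rfl)
          exacts [one_mem _, ha, hbV, hB.t_mem]
        · rw [← Nat.card_coe_set_eq]
          change Nat.card V ≤ _
          rw [hB.card_V, Set.ncard_insert_of_notMem, Set.ncard_eq_three.2 ⟨a, b, t, hba.symm, hat, hbt, rfl⟩]
          simp [Ne.symm ha1, Ne.symm hb1, Ne.symm (mul_self_of_order_two ht).2]
      intro x hx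
      have : x ∈ ({1, a, b, t} : Set G) := hset ▸ hx
      simpa using this
    exact (((hfour _ (hmem hbV)).resolve_left hc1).resolve_left hca).resolve_left hcb
  -- its cube acts as an inner automorphism
  have hg0L : ∀ x ∈ L, g0 * x * g0⁻¹ ∈ L := fun x hx => hB.conj_L_mem ht hnc hg0N hx
  let c : L →* L :=
    { toFun := fun x => ⟨g0 * x * g0⁻¹, hg0L x x.2⟩
      map_one' := Subtype.ext (show g0 * 1 * g0⁻¹ = (1 : G) by simp)
      map_mul' := fun p q => Subtype.ext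
        (show g0 * ((p : G) * q) * g0⁻¹ = g0 * p * g0⁻¹ * (g0 * q * g0⁻¹) by group) }
  have hc : Function.Bijective c := Finite.injective_iff_bijective.1 fun p q h =>
    Subtype.ext (mul_left_cancel (mul_right_cancel (congrArg Subtype.val h)))
  let σ : A5 ≃* A5 := (e.symm.trans (MulEquiv.ofBijective c hc)).trans e
  have hσ : ∀ x : L, σ (e x) = e (c x) := fun x => by simp [σ]
  obtain ⟨m, hm, hmc⟩ : ∃ m ∈ L, ∀ x ∈ L, g0 * g0 * g0 * x * (g0 * g0 * g0)⁻¹ = m * x * m⁻¹ := (hMK hcube).2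
  obtain ⟨d, hd⟩ := a5_inner σ (e ⟨m, hm⟩) fun x => by
    obtain ⟨x', rfl⟩ := e.surjective x
    rw [hσ, hσ, hσ, ← map_inv, ← map_mul, ← map_mul]
    refine congrArg e (Subtype.ext ?_)
    show g0 * (g0 * (g0 * (x' : G) * g0⁻¹) * g0⁻¹) * g0⁻¹ = m * x' * m⁻¹
    rw [← hmc x' x'.2]; group
  obtain ⟨d', rfl⟩ := e.surjective d
  have hg0K : g0 ∈ K := ⟨hg0N, d', d'.2, fun x hx => by
    have h := hd (e ⟨x, hx⟩)
    rw [hσ, ← map_inv, ← map_mul, ← map_mul] at h
    exact congrArg Subtype.val (e.injective h)⟩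
  have hK : K = normalizer (V : Set G) := by
    refine eq_of_le_of_card_ge hKN ?_
    rw [hB.card_normalizer ht hnc]
    have h1 : 240 ∣ Nat.card K := hB.card_M ▸ card_dvd_of_le hMK
    have h2 : Nat.card K ∣ 720 := hB.card_normalizer ht hnc ▸ card_dvd_of_le hKN
    have h3 : Nat.card K ≠ 240 := fun h => hg0M (by
      rw [eq_of_le_of_card_ge hMK (by rw [h, hB.card_M])]; exact hg0K)
    obtain ⟨j, hj⟩ := h1
    rw [hj] at h2 h3 ⊢
    have : j ∣ 3 := (Nat.mul_dvd_mul_iff_left (by norm_num : 0 < 240)).1 h2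
    rcases (Nat.dvd_prime Nat.prime_three).1 this with rfl | rfl
    · norm_num at h3
    · norm_num
  have hgK : g ∈ K := hK.symm ▸ hg
  exact hgK.2

/-- The centralizer of `L` in the normalizer of `V`. -/
theorem Big.exists_A4 : ∃ C : Subgroup G, C ≤ normalizer (V : Set G) ∧ V ≤ C ∧ Nat.card C = 12 ∧
    (∀ c ∈ C, ∀ x ∈ L, Commute c x) ∧ Nonempty (C ≃* alternatingGroup (Fin 4)) ∧
    Nonempty (↥(normalizer (V : Set G)) ≃* alternatingGroup (Fin 4) × alternatingGroup (Fin 5)) := by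
  classical
  haveI : Fact (Nat.Prime 3) := ⟨by norm_num⟩
  set N := normalizer (V : Set G)
  let C : Subgroup G := N ⊓ centralizer (L : Set G)
  have hLN : L ≤ N := hB.L_le.trans (hB.M_le_normalizer ht hnc)
  have hCcomm : ∀ c ∈ C, ∀ x ∈ L, Commute c x := fun c hc x hx => (mem_centralizer_iff.1 hc.2 x hx).symm
  have hVC : V ≤ C := fun v hv => ⟨hB.M_le_normalizer ht hnc (hB.V_le hv),
    mem_centralizer_iff.2 fun x hx => (hB.comm v hv x hx).symm.eq⟩
  let F : ↥C × ↥L →* ↥N :=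
    { toFun := fun p => ⟨(p.1 : G) * p.2, mul_mem p.1.2.1 (hLN p.2.2)⟩
      map_one' := Subtype.ext (by simp)
      map_mul' := fun p q => Subtype.ext (show (p.1 : G) * q.1 * (p.2 * q.2) = p.1 * p.2 * (q.1 * q.2) from
        (show Commute (q.1 : G) p.2 from hCcomm _ q.1.2 _ p.2.2).mul_mul_mul_comm _ _) }
  have hF : Function.Bijective F := by
    constructor
    · refine (injective_iff_map_eq_one F).2 fun p hp => ?_
      have h : (p.1 : G) * p.2 = 1 := congrArg Subtype.val hp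
      have h2 : (p.2 : G) = 1 := hB.center_L p.2.2 fun y hy => by
        have e : (p.2 : G) = (p.1 : G)⁻¹ := eq_inv_of_mul_eq_one_right h
        rw [e]; exact ((hCcomm _ p.1.2 y hy).symm).inv_right
      rw [h2, mul_one] at h
      exact Prod.ext (Subtype.ext h) (Subtype.ext h2)
    · intro g
      obtain ⟨l, hl, hlg⟩ := hB.exists_inner ht hnc g.2
      have hc : (g : G) * l⁻¹ ∈ C := by
        refine mem_inf.2 ⟨mul_mem g.2 (inv_mem (hLN hl)), mem_centralizer_iff.2 fun x hx => ?_⟩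
        have := hlg (l⁻¹ * x * l) (mul_mem (mul_mem (inv_mem hl) hx) hl)
        rw [show l * (l⁻¹ * x * l) * l⁻¹ = x by group] at this
        calc x * ((g : G) * l⁻¹) = (g : G) * (l⁻¹ * x * l) * (g : G)⁻¹ * ((g : G) * l⁻¹) := by rw [this]
          _ = (g : G) * l⁻¹ * x := by group
      exact ⟨(⟨_, hc⟩, ⟨l, hl⟩), Subtype.ext (by show (g : G) * l⁻¹ * l = g; group)⟩
  have hC12 : Nat.card C = 12 := by
    obtain ⟨e⟩ := hB.iso
    have h := Nat.card_eq_of_bijective F hF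
    rw [Nat.card_prod, Nat.card_congr e.toEquiv, a5_card, hB.card_normalizer ht hnc] at h
    omega
  -- the action on the cosets of a subgroup of order three
  obtain ⟨d, hd⟩ := exists_prime_orderOf_dvd_card' (G := ↥C) 3 (by rw [hC12]; norm_num)
  set D := zpowers d
  have hD3 : Nat.card D = 3 := by rw [Nat.card_zpowers, hd]
  have hq : Nat.card (↥C ⧸ D) = 4 := by
    have h := card_eq_card_quotient_mul_card_subgroup D
    rw [hC12, hD3] at h
    omega
  haveI : Fintype (↥C ⧸ D) := Fintype.ofFinite _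
  let ε : (↥C ⧸ D) ≃ Fin 4 := Fintype.equivFinOfCardEq (by rw [← Nat.card_eq_fintype_card, hq])
  let π : ↥C →* Equiv.Perm (Fin 4) := ε.permCongrHom.toMonoidHom.comp (MulAction.toPermHom ↥C (↥C ⧸ D))
  have hπ : Function.Injective π := by
    refine ε.permCongrHom.injective.comp ?_
    rw [← MonoidHom.ker_eq_bot_iff, ← normalCore_eq_ker]
    have hle := normalCore_le D
    by_contra hne
    have hcore : D.normalCore = D := by
      refine eq_of_le_of_card_ge hle ?_
      have h1 : Nat.card D.normalCore ∣ 3 := hD3 ▸ card_dvd_of_le hle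
      rcases (Nat.dvd_prime Nat.prime_three).1 h1 with e | e
      · exact absurd (card_eq_one.1 e) hne
      · rw [e, hD3]
    have hDn : D.Normal := hcore ▸ normalCore_normal D
    -- then `d` centralizes `V`
    have hdt : Commute (d : G) t := by
      let t' : C := ⟨t, hVC hB.t_mem⟩
      have h1 : t' * d * t'⁻¹ * d⁻¹ ∈ D :=
        mul_mem (hDn.conj_mem d (mem_zpowers d) t') (inv_mem (mem_zpowers d))
      have h2 : ((t' * d * t'⁻¹ * d⁻¹ : C) : G) ∈ V := by
        show t * (d : G) * t⁻¹ * (d : G)⁻¹ ∈ V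
        rw [show t * (d : G) * t⁻¹ * (d : G)⁻¹ = t * ((d : G) * t⁻¹ * (d : G)⁻¹) by group]
        exact mul_mem hB.t_mem ((mem_normalizer_iff.1 d.2.1 _).1 (inv_mem hB.t_mem))
      have h3 : t' * d * t'⁻¹ * d⁻¹ = 1 := by
        have ho : orderOf (t' * d * t'⁻¹ * d⁻¹) ∣ 3 := by
          rw [← hD3, ← Subgroup.orderOf_mk _ h1]; exact orderOf_dvd_natCard _
        have ho2 : orderOf (t' * d * t'⁻¹ * d⁻¹) ∣ 2 := orderOf_dvd_of_pow_eq_one
          (Subtype.ext (by rw [SubgroupClass.coe_pow, pow_two]; exact hB.sq_V _ h2))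
        exact orderOf_eq_one_iff.1 (Nat.eq_one_of_dvd_coprimes (by norm_num : Nat.Coprime 3 2) ho ho2)
      have h4 : t * (d : G) * t⁻¹ * (d : G)⁻¹ = 1 := congrArg Subtype.val h3
      exact (mul_inv_eq_iff_eq_mul.1 (mul_inv_eq_one.1 h4)).symm
    obtain ⟨v, hv, l, hl, hvl⟩ := hB.dec (d : G) (mem_centralizer_singleton_iff.2 hdt.eq)
    have hl1 : l = 1 := hB.center_L hl fun y hy => by
      have e1 : l = v⁻¹ * (d : G) := by rw [hvl]; group
      rw [e1]
      exact ((hB.comm v hv y hy).symm.inv_right).mul_right (hCcomm _ d.2 y hy).symm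
    rw [hl1, mul_one] at hvl
    have h2 : orderOf (d : G) ∣ 2 := orderOf_dvd_of_pow_eq_one (by rw [pow_two, hvl]; exact hB.sq_V v hv)
    rw [Subgroup.orderOf_coe, hd] at h2
    norm_num at h2
  have hr : π.range = alternatingGroup (Fin 4) := by
    refine Equiv.Perm.eq_alternatingGroup_of_index_eq_two ?_
    have h2 := card_mul_index π.range
    rw [← Nat.card_congr (MonoidHom.ofInjective hπ).toEquiv, hC12, Nat.card_perm, Nat.card_fin,
      show Nat.factorial 4 = 24 by decide] at h2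
    omega
  let eC : ↥C ≃* alternatingGroup (Fin 4) := (MonoidHom.ofInjective hπ).trans (MulEquiv.subgroupCongr hr)
  obtain ⟨e⟩ := hB.iso
  exact ⟨C, inf_le_left, hVC, hC12, hCcomm, ⟨eC⟩, ⟨(MulEquiv.ofBijective F hF).symm.trans (eC.prodCongr e)⟩⟩

omit ht hnc in
/-- The shape is carried over by conjugation. -/
theorem Big.conj (g : G) : Big (g * z * g⁻¹) (g * t * g⁻¹) (V.map (MulAut.conj g).toMonoidHom)
    (L.map (MulAut.conj g).toMonoidHom) := by
  have hC : (centralizer ({t} : Set G)).map (MulAut.conj g).toMonoidHom = centralizer ({g * t * g⁻¹} : Set G) := by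
    have := map_conj_inf g t t
    rwa [inf_idem, inf_idem] at this
  have hci : ∀ {x}, IsConj x (g * x * g⁻¹) := fun {x} => isConj_iff.2 ⟨g, rfl⟩
  refine ⟨hC ▸ map_mono hB.V_le, hC ▸ map_mono hB.L_le, ?_, ?_, ?_, ?_, ?_,
    ⟨t, hB.t_mem, rfl⟩, ?_, ⟨z, hB.z_mem, rfl⟩, ?_, ?_, ?_⟩
  · rintro _ ⟨v, hv, rfl⟩ _ ⟨l, hl, rfl⟩
    exact (Commute.conj_iff g).2 (hB.comm v hv l hl)
  · rw [← Subgroup.map_inf _ _ _ (MulAut.conj g).injective, hB.inf, Subgroup.map_bot]
  · intro x hx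
    rw [← hC] at hx
    obtain ⟨y, hy, rfl⟩ := hx
    obtain ⟨v, hv, l, hl, rfl⟩ := hB.dec y hy
    exact ⟨_, mem_map_of_mem _ hv, _, mem_map_of_mem _ hl, map_mul _ _ _⟩
  · rw [Cfsg.Lib.Sig.card_map_conj, hB.card_V]
  · rintro _ ⟨v, hv, rfl⟩
    rw [← map_mul, hB.sq_V v hv, map_one]
  · rintro _ ⟨v, hv, rfl⟩
    exact (Commute.conj_iff g).2 (hB.V_z v hv)
  · obtain ⟨e⟩ := hB.iso
    exact ⟨(L.equivMapOfInjective _ (MulAut.conj g).injective).symm.trans e⟩
  · rintro _ ⟨x, hx, rfl⟩ h2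
    have h2' : orderOf x = 2 := by
      rw [← h2]; exact (orderOf_injective (MulAut.conj g).toMonoidHom (MulAut.conj g).injective x).symm
    exact (hci.symm.trans (hB.conj_L x hx h2')).trans hci
  · intro x hx h2 hxL
    rw [← hC] at hx
    obtain ⟨y, hy, rfl⟩ := hx
    have h2' : orderOf y = 2 := by
      rw [← h2]; exact (orderOf_injective (MulAut.conj g).toMonoidHom (MulAut.conj g).injective y).symm
    exact (hci.symm.trans (hB.conj_out y hy h2' fun h => hxL (mem_map_of_mem _ h))).trans hci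

end Cfsg.Lib.J2Type
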