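import Cfsg.Agent.Lib.J2Type.Formula

/-!
# The degenerate shape does not occur
-/

set_option autoImplicit false
set_option linter.style.haveILetI false
set_option linter.unusedSectionVars false

namespace Cfsg.Lib.J2Type

open Cfsg Subgroup
open Cfsg.Lib.Extra (Ctx nci)

variable {G : Type*} [Group G] [Finite G] {z t : G} {Q : Subgroup G}

/-- Conjugates of a power. -/
theorem conj_mem_zpowers {g f x : G} (h : g * f * g⁻¹ ∈ zpowers f) (hx : x ∈ zpowers f) :
    g * x * g⁻¹ ∈ zpowers f := by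
  obtain ⟨i, rfl⟩ := mem_zpowers_iff.1 hx
  rw [← conj_zpow]
  exact zpow_mem h i

variable (hS : Setup z Q)
include hS

/-- An element of `C(z)` normalizing a subgroup of order five centralizes or inverts it. -/
theorem Setup.five_automizer {g f : G} (hf : orderOf f = 5) (hfz : Commute f z) (hgz : Commute g z)
    (hg : g * f * g⁻¹ ∈ zpowers f) : g * f * g⁻¹ = f ∨ g * f * g⁻¹ = f⁻¹ := by
  haveI : Fact (Nat.Prime 5) := ⟨by norm_num⟩
  obtain ⟨φ, -, hker⟩ := hS.proj
  let f' : centralizer ({z} : Set G) := ⟨f, mem_centralizer_singleton_iff.2 hfz⟩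
  let g' : centralizer ({z} : Set G) := ⟨g, mem_centralizer_singleton_iff.2 hgz⟩
  have hf5 : f' ^ 5 = 1 := Subtype.ext (by rw [SubgroupClass.coe_pow, OneMemClass.coe_one]; exact hf ▸ pow_orderOf_eq_one f)
  have hd1 : φ f' ≠ 1 := fun e => hS.notMem_odd (by norm_num) (by norm_num) hf ((hker f').1 e)
  have hcomm : φ g' * φ f' * (φ g')⁻¹ * φ f' = φ f' * (φ g' * φ f' * (φ g')⁻¹) := by
    obtain ⟨i, hi⟩ := mem_zpowers_iff.1 hg
    simp only [← map_mul, ← map_inv]
    refine congrArg φ (Subtype.ext ?_)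
    show g * f * g⁻¹ * f = f * (g * f * g⁻¹)
    rw [← hi, (((Commute.refl f).zpow_left i)).eq]
  have hbot : zpowers f ⊓ Q = ⊥ := by
    rw [eq_bot_iff]
    intro x hx
    rw [mem_bot]
    have h1 : orderOf x ∣ 5 := by rw [← hf, ← Nat.card_zpowers f]; exact orderOf_dvd_card_of_mem hx.1
    rcases (Nat.dvd_prime (Fact.out : Nat.Prime 5)).1 h1 with e | e
    · exact orderOf_eq_one_iff.1 e
    · exact absurd hx.2 (hS.notMem_odd (by norm_num) (by norm_num) e)
  have key : ∀ w : centralizer ({z} : Set G), (w : G) ∈ zpowers f → φ (g' * f' * g'⁻¹) = φ w →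
      g * f * g⁻¹ = w := fun w hw h => by
    have h1 : g * f * g⁻¹ * (w : G)⁻¹ ∈ zpowers f ⊓ Q := mem_inf.2
      ⟨mul_mem hg (inv_mem hw), (hker ((g' * f' * g'⁻¹) * w⁻¹)).1 (by rw [map_mul, map_inv, h, mul_inv_cancel])⟩
    rw [hbot, mem_bot] at h1
    exact mul_inv_eq_one.1 h1
  rcases a5_five_automizer (φ f') (φ g') (by rw [← map_pow, hf5, map_one]) hd1 with h | h | h
  · exact Or.inl (key f' (mem_zpowers f) (by rw [map_mul, map_mul, map_inv, h]))
  · exact Or.inr (key f'⁻¹ (inv_mem (mem_zpowers f)) (by rw [map_mul, map_mul, map_inv, map_inv, h]))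
  · exact absurd hcomm h
where
  orderOf_dvd_card_of_mem {x : G} {K : Subgroup G} (hx : x ∈ K) : orderOf x ∣ Nat.card K := by
    rw [← Subgroup.orderOf_mk x hx]; exact orderOf_dvd_natCard _

variable (ht : Outer z Q t) (hnc : ¬ IsConj z t)
include ht hnc

theorem Setup.not_small (hM : Small z t Q) : False := by
  classical
  haveI : Fact (Nat.Prime 2) := ⟨Nat.prime_two⟩
  haveI : Fact (Nat.Prime 3) := ⟨by norm_num⟩
  haveI : Fact (Nat.Prime 5) := ⟨by norm_num⟩
  have hG := hS.card_G_small ht hnc hM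
  obtain ⟨f, hf, hfz, htf⟩ := hS.exists_inverted_five ht
  set C := centralizer ({f} : Set G) with hC
  have hmC : ∀ {x}, x ∈ C ↔ Commute x f := fun {x} => mem_centralizer_singleton_iff
  have hzC : z ∈ C := hmC.2 hfz.symm
  have hfC : f ∈ C := hmC.2 (Commute.refl f)
  have h10 := hS.five_centralizer hf hfz
  -- the Sylow 2-subgroup
  have hz2 : Nat.card ((zpowers z).subgroupOf C) = 2 := by
    rw [Nat.card_congr (subgroupOfEquivOfLe (zpowers_le.2 hzC)).toEquiv, Nat.card_zpowers, hS.z_two]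
  have hidx : ¬ 2 ∣ ((zpowers z).subgroupOf C).index := by
    intro h
    have hdvd : 2 ^ (1 + 1) ∣ Nat.card C := by
      rw [← card_mul_index ((zpowers z).subgroupOf C), hz2, pow_succ]
      exact mul_dvd_mul (by norm_num) h
    obtain ⟨K, hK, hzK⟩ := Sylow.exists_subgroup_card_pow_succ hdvd (H := (zpowers z).subgroupOf C) (by rw [hz2]; norm_num)
    haveI : IsMulCommutative K := IsPGroup.isMulCommutative_of_card_eq_prime_sq (p := 2) (by rw [hK])
    have hle : K.map C.subtype ≤ centralizer ({z} : Set G) ⊓ C := by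
      rintro _ ⟨k, hk, rfl⟩
      refine ⟨mem_centralizer_singleton_iff.2 ?_, k.2⟩
      exact congrArg (fun w : K => ((w : C) : G))
        (IsMulCommutative.is_comm.comm (⟨k, hk⟩ : K) ⟨⟨z, hzC⟩, hzK (mem_zpowers z)⟩)
    have h4 := card_dvd_of_le hle
    rw [card_map_of_injective (subtype_injective C), hK, hC, h10] at h4
    norm_num at h4
  have hzp : IsPGroup 2 ((zpowers z).subgroupOf C) := IsPGroup.of_card (n := 1) (by rw [hz2, pow_one])
  let P : Sylow 2 C := hzp.toSylow hidx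
  have hP : (P : Subgroup C) = (zpowers z).subgroupOf C := hzp.toSylow_coe hidx
  have hcent : ∀ {w : G}, w ∈ zpowers z → w = 1 ∨ w = z := fun {w} hw => by
    obtain ⟨i, rfl⟩ := mem_zpowers_iff.1 hw
    rw [← zpow_mod_orderOf z i, hS.z_two]
    rcases Int.emod_two_eq i with e | e <;> norm_num [e]
  have hnpc : Cfsg.HasNormalPComplement 2 C := by
    refine Cfsg.Lib.Fusion.hasNormalPComplement_of_normalizer_le_centralizer P ?_
    rw [hP]
    intro g hg
    refine mem_centralizer_iff.2 fun a ha => ?_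
    have h1 := (mem_normalizer_iff.1 hg a).1 ha
    rcases hcent (show (a : G) ∈ zpowers z from ha) with e | e
    · rw [show a = 1 from Subtype.ext e]; simp
    rcases hcent (show ((g * a * g⁻¹ : C) : G) ∈ zpowers z from h1) with e' | e'
    · have : a = 1 := conj_eq_one_iff.1 (Subtype.ext e')
      rw [this]; simp
    · exact (mul_inv_eq_iff_eq_mul.1 (Subtype.ext (e'.trans e.symm) : g * a * g⁻¹ = a)).symm
  have hodd := Cfsg.Lib.Fusion.hasNormalPComplement_iff_coprime.1 hnpc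
  set O := Cfsg.pResidual 2 C with hO
  have hCO : Nat.card C = 2 * Nat.card O := by
    have h := (Cfsg.Lib.Fusion.isComplement'_pResidual hnpc P).card_mul
    rw [hP, hz2] at h
    rw [← h, mul_comm]
  -- the normalizer
  set N := normalizer ((zpowers f : Subgroup G) : Set G) with hN
  have hCN : C ≤ N := fun g hg => Cfsg.Lib.Fusion.le_normalizer_of_conj_mem fun x hx =>
    conj_mem_zpowers (by rw [mul_inv_eq_iff_eq_mul.2 (hmC.1 hg).eq]; exact mem_zpowers f) hx
  have htN : t ∈ N := Cfsg.Lib.Fusion.le_normalizer_of_conj_mem fun x hx =>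
    conj_mem_zpowers (htf ▸ inv_mem (mem_zpowers f)) hx
  have hff : f⁻¹ ≠ f := fun h => by
    have h2 : f ^ 2 = 1 := by rw [pow_two]; nth_rewrite 1 [← h]; exact inv_mul_cancel f
    have := orderOf_dvd_of_pow_eq_one h2
    rw [hf] at this
    exact absurd this (by norm_num)
  have hsign : ∀ g ∈ N, g * f * g⁻¹ = f ∨ g * f * g⁻¹ = f⁻¹ := by
    intro g hg
    have hgf : g * f * g⁻¹ ∈ zpowers f := (mem_normalizer_iff.1 hg f).1 (mem_zpowers f)
    have hgz : g * z * g⁻¹ ∈ C := by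
      refine hmC.2 ?_
      obtain ⟨i, hi⟩ := mem_zpowers_iff.1 ((mem_normalizer_iff''.1 hg f).1 (mem_zpowers f))
      have h1 : Commute (g * z * g⁻¹) (g * (f ^ i) * g⁻¹) := (Commute.conj_iff g).2 (hfz.symm.zpow_right i)
      rwa [hi, show g * (g⁻¹ * f * g) * g⁻¹ = f by group] at h1
    obtain ⟨c, hc⟩ := Cfsg.Lib.Sig.exists_conj_le_sylow P (R := zpowers (⟨_, hgz⟩ : C))
      (IsPGroup.of_card (n := 1) (by
        rw [Nat.card_zpowers, ← Subgroup.orderOf_coe]
        show orderOf (g * z * g⁻¹) = 2 ^ 1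
        rw [Cfsg.Lib.Invol.orderOf_conj_eq, hS.z_two, pow_one]))
    have hcz := hc (Cfsg.Lib.Sig.conj_mem_map_conj (g := c) (mem_zpowers (⟨_, hgz⟩ : C)))
    rw [hP, mem_subgroupOf] at hcz
    rcases hcent hcz with e | e
    · exfalso
      have e' : (c : G) * (g * z * g⁻¹) * (c : G)⁻¹ = 1 := e
      exact hS.ctx.ne_one (conj_eq_one_iff.1 (conj_eq_one_iff.1 e'))
    · have hk : Commute ((c : G) * g) z := mul_inv_eq_iff_eq_mul.1 (by
        rw [show (c : G) * g * z * ((c : G) * g)⁻¹ = (c : G) * (g * z * g⁻¹) * (c : G)⁻¹ by group]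
        exact e)
      have hcf : (c : G) * (g * f * g⁻¹) * (c : G)⁻¹ = g * f * g⁻¹ := by
        obtain ⟨i, hi⟩ := mem_zpowers_iff.1 hgf
        exact mul_inv_eq_iff_eq_mul.2 (hi ▸ (hmC.1 c.2).zpow_right i).eq
      have e2 : (c : G) * g * f * ((c : G) * g)⁻¹ = g * f * g⁻¹ := by
        rw [show (c : G) * g * f * ((c : G) * g)⁻¹ = (c : G) * (g * f * g⁻¹) * (c : G)⁻¹ by group, hcf]
      rcases hS.five_automizer hf hfz hk (e2 ▸ hgf) with h | h <;> rw [e2] at h
      exacts [Or.inl h, Or.inr h]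
  have hidx2 : (C.subgroupOf N).index = 2 := by
    refine index_eq_two_iff.2 ⟨⟨t, htN⟩, fun b => ?_⟩
    rw [mem_subgroupOf, mem_subgroupOf, hmC, hmC, xor_iff_iff_not]
    have e : ((b * ⟨t, htN⟩ : N) : G) * f * ((b * ⟨t, htN⟩ : N) : G)⁻¹ = ((b : G) * f * (b : G)⁻¹)⁻¹ := by
      rw [Subgroup.coe_mul, show (b : G) * t * f * ((b : G) * t)⁻¹ = (b : G) * (t * f * t⁻¹) * (b : G)⁻¹ by group, htf]
      group
    have hiff : ∀ w : G, Commute w f ↔ w * f * w⁻¹ = f := fun w =>
      ⟨fun h => mul_inv_eq_iff_eq_mul.2 h.eq, fun h => mul_inv_eq_iff_eq_mul.1 h⟩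
    rw [hiff, hiff, e]
    rcases hsign b b.2 with h | h <;> rw [h]
    · simp [hff]
    · simp [hff]
  have hNC : Nat.card N = 4 * Nat.card O := by
    have h := Cfsg.Lib.Core.card_mul_relIndex hCN
    rw [relIndex, hidx2, hCO] at h
    omega
  -- Sylow's theorem for the prime five
  have hf5 : IsPGroup 5 (zpowers f) := IsPGroup.of_card (n := 1) (by rw [Nat.card_zpowers, hf, pow_one])
  have hidx5 : ¬ 5 ∣ (zpowers f).index := by
    intro h
    have h1 := card_mul_index (zpowers f)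
    rw [Nat.card_zpowers, hf, hG] at h1
    omega
  let P5 : Sylow 5 G := hf5.toSylow hidx5
  have h5 : N.index % 5 = 1 := by
    have h1 := card_sylow_modEq_one 5 G
    rw [P5.card_eq_index_normalizer] at h1
    have hP5 : ((P5 : Subgroup G) : Set G) = zpowers f := congrArg _ (hf5.toSylow_coe hidx5)
    change (normalizer ((P5 : Subgroup G) : Set G)).index ≡ 1 [MOD 5] at h1
    rw [hP5] at h1
    exact h1
  have hO135 : Nat.card O = 135 := by
    have h1 : Nat.card N * N.index = 51840 := by rw [card_mul_index, hG]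
    have h2 : 5 ∣ Nat.card O := by
      have h := orderOf_dvd_natCard (⟨f, hfC⟩ : C)
      rw [← Subgroup.orderOf_coe, hCO] at h
      have h' : (5 : ℕ) ∣ 2 * Nat.card O := hf ▸ h
      omega
    have h3 : Nat.card O ∣ 405 := by
      have h : Nat.card O ∣ 2 ^ 7 * 405 := by
        norm_num
        rw [← h1, hNC]
        exact Dvd.dvd.mul_right (dvd_mul_left _ _) _
      exact (hodd.pow_right 7).dvd_of_dvd_mul_left h
    obtain ⟨m, hm⟩ := h2
    have hm81 : m ∣ 81 := by
      rw [hm] at h3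
      exact (Nat.mul_dvd_mul_iff_left (by norm_num : 0 < 5)).1 (show 5 * m ∣ 5 * 81 from h3)
    have h1' : (20 * m) * N.index = 51840 := by rw [hNC, hm] at h1; linarith
    have hd : m ∈ Nat.divisors 81 := Nat.mem_divisors.2 ⟨hm81, by norm_num⟩
    rw [show Nat.divisors 81 = {1, 3, 9, 27, 81} by decide] at hd
    simp only [Finset.mem_insert, Finset.mem_singleton] at hd
    rcases hd with rfl | rfl | rfl | rfl | rfl <;> omega
  -- the normal subgroup of order 27
  obtain ⟨W3⟩ : Nonempty (Sylow 3 O) := inferInstance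
  have hW27 : Nat.card (W3 : Subgroup O) = 27 := by
    obtain ⟨i, hi⟩ := W3.2.exists_card_eq
    have h1 := card_mul_index (W3 : Subgroup O)
    have h2 := W3.not_dvd_index
    rw [hO135] at h1
    rw [hi] at h1 ⊢
    have hi5 : i < 5 := (Nat.pow_lt_pow_iff_right (by norm_num : 1 < 3)).1
      (lt_of_le_of_lt (Nat.le_of_dvd (by norm_num) (Dvd.intro _ h1)) (by norm_num : 135 < 3 ^ 5))
    interval_cases i <;> omega
  have huniq : ∀ W : Sylow 3 O, W = W3 := by
    have h1 := card_sylow_modEq_one 3 O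
    have h2 : Nat.card (Sylow 3 O) ∣ 5 := by
      have h := W3.card_dvd_index
      have h3 := card_mul_index (W3 : Subgroup O)
      rw [hW27, hO135] at h3
      rwa [show (W3 : Subgroup O).index = 5 by omega] at h
    have h3 : Nat.card (Sylow 3 O) = 1 := by
      rcases (Nat.dvd_prime (Fact.out : Nat.Prime 5)).1 h2 with e | e
      · exact e
      · rw [e] at h1; exact absurd h1 (by decide)
    intro W
    obtain ⟨hsub, -⟩ := Nat.card_eq_one_iff_unique.1 h3
    exact Subsingleton.elim W W3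
  let W : Subgroup G := ((W3 : Subgroup O).map O.subtype).map C.subtype
  have hW : ∀ x, x ∈ W ↔ x ∈ C ∧ x ^ 27 = 1 := by
    intro x
    constructor
    · rintro ⟨y, ⟨w, hw, rfl⟩, rfl⟩
      refine ⟨(w : C).2, ?_⟩
      have h : (⟨w, hw⟩ : (W3 : Subgroup O)) ^ 27 = 1 := hW27 ▸ pow_card_eq_one'
      exact congrArg (fun v : (W3 : Subgroup O) => (((v : O) : C) : G)) h
    · rintro ⟨hxC, hx⟩
      have hd : orderOf x ∣ 27 := orderOf_dvd_of_pow_eq_one hx
      have hxO : (⟨x, hxC⟩ : C) ∈ O := Cfsg.Lib.Fusion.mem_pResidual_of_coprime (by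
        rw [← Subgroup.orderOf_coe]
        exact Nat.Coprime.coprime_dvd_left hd (by norm_num))
      obtain ⟨i, -, hi⟩ := (Nat.dvd_prime_pow (Fact.out : Nat.Prime 3)).1 (show orderOf x ∣ 3 ^ 3 from hd)
      obtain ⟨W', hW'⟩ := (show IsPGroup 3 (zpowers (⟨⟨x, hxC⟩, hxO⟩ : O)) from IsPGroup.of_card (n := i) (by
        rw [Nat.card_zpowers, ← Subgroup.orderOf_coe, ← Subgroup.orderOf_coe]; exact hi)).exists_le_sylow
      rw [huniq W'] at hW'
      exact ⟨_, ⟨_, hW' (mem_zpowers _), rfl⟩, rfl⟩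
  have hWcard : Nat.card W = 27 := by
    rw [card_map_of_injective (subtype_injective C), card_map_of_injective (subtype_injective O), hW27]
  have hnorm : ∀ g, g * f * g⁻¹ = f ∨ g * f * g⁻¹ = f⁻¹ → ∀ w ∈ W, g * w * g⁻¹ ∈ W := by
    intro g hg w hw
    obtain ⟨hwC, hw27⟩ := (hW w).1 hw
    refine (hW _).2 ⟨hmC.2 ?_, by rw [conj_pow, hw27]; simp⟩
    have h1 : Commute (g * w * g⁻¹) (g * f * g⁻¹) := (Commute.conj_iff g).2 (hmC.1 hwC)
    rcases hg with e | e <;> rw [e] at h1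
    exacts [h1, Commute.inv_right_iff.1 h1]
  have hzW : ∀ w ∈ W, z * w * z⁻¹ = w⁻¹ := by
    intro w hw
    refine Cfsg.Lib.Sig.conj_eq_inv_of_fixedPointFree hS.ctx.sq_z
      (hnorm z (Or.inl (mul_inv_eq_iff_eq_mul.2 hfz.symm.eq))) ?_ hw
    refine (Subgroup.eq_bot_iff_forall _).2 fun x ⟨hx, hxz⟩ => ?_
    have hd : orderOf x ∣ 27 := orderOf_dvd_of_pow_eq_one ((hW x).1 hx).2
    have hd' : orderOf x ∣ 10 := by
      rw [← h10, ← Subgroup.orderOf_mk (H := centralizer ({z} : Set G) ⊓ centralizer {f}) x ⟨hxz, ((hW x).1 hx).1⟩]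
      exact orderOf_dvd_natCard _
    exact orderOf_eq_one_iff.1 (Nat.eq_one_of_dvd_coprimes (by norm_num : Nat.Coprime 27 10) hd hd')
  have hWab : ∀ a ∈ W, ∀ b ∈ W, Commute a b := by
    intro a ha b hb
    have h := hzW _ (mul_mem ha hb)
    rw [show z * (a * b) * z⁻¹ = z * a * z⁻¹ * (z * b * z⁻¹) by group, hzW a ha, hzW b hb,
      ← mul_inv_rev, inv_inj] at h
    exact h.symm
  -- the action of `t` and `t z`
  obtain ⟨ht2, -⟩ := mul_self_of_order_two ht.1
  have htW : ∀ w ∈ W, t * w * t⁻¹ ∈ W := hnorm t (Or.inr htf)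
  have hto : Outer z Q (t * z) := by
    have hnQ : t * z ∉ Q := fun h => ht.2.2 (by simpa using mul_mem h (inv_mem hS.ctx.mem))
    exact ⟨order_two (by rw [ht.2.1.symm.mul_mul_mul_comm, ht2, hS.ctx.sq_z, one_mul])
      (fun h => hnQ (h ▸ one_mem _)), ht.2.1.mul_left (Commute.refl z), hnQ⟩
  have hsmall : ∀ s : G, IsConj t s → Nat.card ↥(W ⊓ centralizer ({s} : Set G)) ≤ 3 := by
    intro s hs
    obtain ⟨g, rfl⟩ := isConj_iff.1 hs
    have h1 : Nat.card ↥(centralizer ({g * t * g⁻¹} : Set G)) = 48 := by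
      rw [← hM.card]
      have h := map_conj_inf g t t
      rw [inf_idem, inf_idem] at h
      rw [← h, Cfsg.Lib.Sig.card_map_conj]
    refine Nat.le_of_dvd (by norm_num) ?_
    have := Nat.dvd_gcd (card_dvd_of_le (inf_le_left : W ⊓ centralizer ({g * t * g⁻¹} : Set G) ≤ W))
      (card_dvd_of_le (inf_le_right : W ⊓ centralizer ({g * t * g⁻¹} : Set G) ≤ _))
    rwa [hWcard, h1, show Nat.gcd 27 48 = 3 by norm_num] at this
  have hA := hsmall t (IsConj.refl t)
  have hB := hsmall (t * z) (hS.outer_isConj ht hto)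
  let Φ : W → ↥(W ⊓ centralizer ({t} : Set G)) × ↥(W ⊓ centralizer ({t * z} : Set G)) := fun w =>
    (⟨w * (t * w * t⁻¹), mem_inf.2 ⟨mul_mem w.2 (htW _ w.2), mem_centralizer_singleton_iff.2 (by
        refine (mul_inv_eq_iff_eq_mul.1 ?_).symm
        calc t * ((w : G) * (t * w * t⁻¹)) * t⁻¹ = t * w * t⁻¹ * ((t * t) * w * (t * t)⁻¹) := by group
          _ = (w : G) * (t * w * t⁻¹) := by
            rw [ht2, one_mul, inv_one, mul_one, (hWab _ (htW _ w.2) _ w.2).eq])⟩⟩,
     ⟨w * (t * w * t⁻¹)⁻¹, mem_inf.2 ⟨mul_mem w.2 (inv_mem (htW _ w.2)), mem_centralizer_singleton_iff.2 (by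
        refine (mul_inv_eq_iff_eq_mul.1 ?_).symm
        calc t * z * ((w : G) * (t * w * t⁻¹)⁻¹) * (t * z)⁻¹
            = t * (z * ((w : G) * (t * w * t⁻¹)⁻¹) * z⁻¹) * t⁻¹ := by group
          _ = t * ((w : G) * (t * w * t⁻¹)⁻¹)⁻¹ * t⁻¹ := by rw [hzW _ (mul_mem w.2 (inv_mem (htW _ w.2)))]
          _ = (t * t) * w * (t * t)⁻¹ * (t * w * t⁻¹)⁻¹ := by group
          _ = (w : G) * (t * w * t⁻¹)⁻¹ := by rw [ht2, one_mul, inv_one, mul_one])⟩⟩)
  have hΦ : Function.Injective Φ := by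
    intro a b h
    simp only [Φ, Prod.mk.injEq, Subtype.mk.injEq] at h
    have e2 : ∀ w : W, (w : G) * (t * w * t⁻¹) * ((w : G) * (t * w * t⁻¹)⁻¹) = (w : G) * w := fun w => by
      rw [(hWab _ (htW _ w.2) _ w.2).mul_mul_mul_comm, mul_inv_cancel, mul_one]
    have e3 : (a : G) * a = b * b := by rw [← e2, ← e2, h.1, h.2]
    have e4 : ∀ w : W, ((w : G) * w) ^ 14 = w := fun w => by
      rw [← pow_two, ← pow_mul, show 2 * 14 = 27 + 1 from rfl, pow_succ, ((hW _).1 w.2).2, one_mul]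
    exact Subtype.ext (by rw [← e4 a, ← e4 b, e3])
  have h9 := Nat.card_le_card_of_injective Φ hΦ
  rw [Nat.card_prod, hWcard] at h9
  exact absurd (h9.trans (Nat.mul_le_mul hA hB)) (by norm_num)

/-- The centralizer of `t` is `V × A₅` and `G` has order 604800. -/
theorem Setup.main : ∃ V L, Big z t V L ∧ Nat.card G = 604800 := by
  rcases hS.centralizer_shape ht hnc with ⟨V, L, hB⟩ | hM
  · exact ⟨V, L, hB, hS.card_G_big ht hnc hB⟩
  · exact (hS.not_small ht hnc hM).elim

end Cfsg.Lib.J2Type
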