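import Cfsg.Agent.Lib.J2Type.Centralizer
import Cfsg.Agent.Lib.ZStar.Main
import Cfsg.Agent.Lib.Extra.LargeUnfused

/-!
# Groups of Hall-Janko type from the shape of the centralizer

If `C(z) / Q ≅ A₅` with `Q` of order 32 free of elementary abelian subgroups of order 8, and some
conjugate of `z` lies in `C(z)` outside `Q`, then some conjugate other than `z` lies in `Q`.
-/

set_option autoImplicit false
set_option linter.style.haveILetI false

namespace Cfsg.Lib.J2Type

open Cfsg Subgroup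

theorem a5_orbit : ∀ g : A5, g ^ 4 = 1 → g * g = 1 := by decide +kernel

variable {G : Type*} [Group G] [Finite G] {z : G} {Q : Subgroup G}

/-- The subgroup of elements of `Q` fixed by an element. -/
def fixIn (Q : Subgroup G) (u : G) : Subgroup G := Q ⊓ centralizer ({u} : Set G)

omit [Finite G] in
theorem mem_fixIn {Q : Subgroup G} {u q : G} : q ∈ fixIn Q u ↔ q ∈ Q ∧ Commute q u := by
  rw [fixIn, mem_inf, mem_centralizer_singleton_iff]
  rfl

section Unfused

variable (hQ : Cfsg.Lib.Extra.Ctx Q z) (hcard : Nat.card Q = 32) (φ : centralizer ({z} : Set G) →* A5)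
  (hker : ∀ x, φ x = 1 ↔ (x : G) ∈ Q)
  (hm : ∀ E : Subgroup G, E ≤ Q → (∀ x ∈ E, x * x = 1) → Nat.card E ≤ 4)
  (hunf : ∀ g : G, g * z * g⁻¹ ∈ Q → g * z * g⁻¹ = z)

include hQ hcard hker hm hunf

/-- For a conjugate `u` of `z` outside `Q`, the fixed subgroup has order 4, exponent 2, and every
involution of `uQ` is conjugate to `z`. -/
theorem unfused_fix {g : G} (huz : Commute (g * z * g⁻¹) z) (hne : g * z * g⁻¹ ≠ z) :
    Nat.card ↥(fixIn Q (g * z * g⁻¹)) = 4 ∧ (∀ q ∈ fixIn Q (g * z * g⁻¹), q * q = 1) ∧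
      ∀ q ∈ Q, g * z * g⁻¹ * q * (g * z * g⁻¹ * q) = 1 → IsConj z (g * z * g⁻¹ * q) := by
  classical
  set u := g * z * g⁻¹ with hu
  have hu2 : u * u = 1 := by
    rw [hu, show g * z * g⁻¹ * (g * z * g⁻¹) = g * (z * z) * g⁻¹ by group, hQ.sq_z]; simp
  have hsq : ∀ q ∈ fixIn Q u, q * q = 1 := by
    intro q hq
    obtain ⟨hqQ, hqu⟩ := mem_fixIn.1 hq
    refine (hQ.sq q hqQ).resolve_right fun h => ?_
    have hy : g⁻¹ * q * g ∈ centralizer ({z} : Set G) := mem_centralizer_singleton_iff.2 (by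
      calc g⁻¹ * q * g * z = g⁻¹ * (q * u) * g := by rw [hu]; group
        _ = g⁻¹ * (u * q) * g := by rw [hqu.eq]
        _ = z * (g⁻¹ * q * g) := by rw [hu]; group)
    set y : centralizer ({z} : Set G) := ⟨_, hy⟩
    have hy2 : ((y * y : centralizer ({z} : Set G)) : G) = g⁻¹ * z * g := by
      show g⁻¹ * q * g * (g⁻¹ * q * g) = _
      rw [← h]; group
    have h4 : φ y ^ 4 = 1 := by
      rw [← map_pow]
      have : y ^ 4 = 1 := Subtype.ext (by
        rw [show y ^ 4 = (y * y) * (y * y) by rw [pow_succ, pow_succ, pow_two, mul_assoc (y * y)]]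
        rw [coe_mul, hy2, show g⁻¹ * z * g * (g⁻¹ * z * g) = g⁻¹ * (z * z) * g by group, hQ.sq_z]
        simp)
      rw [this, map_one]
    have h1 : g⁻¹ * z * g ∈ Q := hy2 ▸ (hker (y * y)).1 (by rw [map_mul]; exact a5_orbit _ h4)
    have h3 : g⁻¹ * z * g = z := by simpa using hunf g⁻¹ (by simpa using h1)
    apply hne
    rw [hu]
    calc g * z * g⁻¹ = g * (g⁻¹ * z * g) * g⁻¹ := by rw [h3]
      _ = z := by group
  set K := fixIn Q u with hK
  have hK4 : Nat.card K ≤ 4 := hm K inf_le_left hsq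
  set W : Set G := {q | q ∈ Q ∧ (u * q * u = q ∨ u * q * u = z * q)} with hW
  have hWcard : Nat.card W ≤ 2 * Nat.card K := by
    have hKiff : ∀ q ∈ Q, q ∈ K ↔ u * q * u = q := fun q hq => by
      rw [mem_fixIn]
      constructor
      · intro h
        rw [← h.2.eq, mul_assoc, hu2, mul_one]
      · intro h
        refine ⟨hq, ?_⟩
        show q * u = u * q
        conv_lhs => rw [← h]
        rw [mul_assoc, hu2, mul_one]
    by_cases hex : ∃ q₀ ∈ Q, u * q₀ * u = z * q₀
    · obtain ⟨q₀, hq₀, hq₀u⟩ := hex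
      have hsub : W ⊆ (K : Set G) ∪ (fun k => q₀ * k) '' (K : Set G) := by
        rintro q ⟨hq, h | h⟩
        · exact Or.inl ((hKiff q hq).2 h)
        · refine Or.inr ⟨q₀⁻¹ * q, (hKiff _ (mul_mem (inv_mem hq₀) hq)).2 ?_, by group⟩
          calc u * (q₀⁻¹ * q) * u = (u * q₀ * u)⁻¹ * (u * q * u) := by
                have hui : u⁻¹ = u := inv_eq_of_mul_eq_one_right hu2
                calc u * (q₀⁻¹ * q) * u = u⁻¹ * q₀⁻¹ * u⁻¹ * (u * q * u) := by rw [show u⁻¹ * q₀⁻¹ * u⁻¹ * (u * q * u) = u⁻¹ * (q₀⁻¹ * q) * u by group, hui]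
                  _ = _ := by group
            _ = (z * q₀)⁻¹ * (z * q) := by rw [hq₀u, h]
            _ = q₀⁻¹ * q := by group
      rw [Nat.card_coe_set_eq]
      refine (Set.ncard_le_ncard hsub (Set.toFinite _)).trans ((Set.ncard_union_le _ _).trans ?_)
      have h1 := Set.ncard_image_le (f := fun k => q₀ * k) (Set.toFinite (K : Set G))
      have e : (K : Set G).ncard = Nat.card K := (Nat.card_coe_set_eq (K : Set G)).symm
      omega
    · have hsub : W ⊆ (K : Set G) := fun q ⟨hq, h⟩ => (hKiff q hq).2 (h.resolve_right fun h' => hex ⟨q, hq, h'⟩)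
      rw [Nat.card_coe_set_eq]
      refine (Set.ncard_le_ncard hsub (Set.toFinite _)).trans ?_
      rw [← Nat.card_coe_set_eq (K : Set G)]
      show Nat.card K ≤ _
      omega
  -- the involutions of the coset
  set S : Set G := {x | ∃ q ∈ Q, x = u * q ∧ x * x = 1} with hS
  have hSW : Nat.card S ≤ Nat.card W := by
    refine Nat.card_le_card_of_injective (fun x : S => (⟨u⁻¹ * (x : G), ?_⟩ : W))
      (fun x y h => Subtype.ext (mul_left_cancel (congrArg Subtype.val h)))
    obtain ⟨q, hq, hx, hxx⟩ := x.2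
    have e : u⁻¹ * (x : G) = q := by rw [hx, inv_mul_cancel_left]
    rw [e]
    refine ⟨hq, ?_⟩
    have h1 : u * q * u = q⁻¹ := by
      apply eq_inv_of_mul_eq_one_left
      rw [mul_assoc, ← hx, hxx]
    exact (Cfsg.Lib.Extra.Ctx.inv_mul_self hQ hq).imp (h1.trans) (h1.trans)
  set O : Set G := (fun q => q * u * q⁻¹) '' (Q : Set G) with hO
  have hOS : O ⊆ S := by
    rintro _ ⟨q, hq, rfl⟩
    refine ⟨u⁻¹ * (q * u * q⁻¹), ?_, by group, ?_⟩
    · have := (Subgroup.mem_normalizer_iff.1 (hQ.norm u huz) q).1 hq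
      rw [inv_eq_of_mul_eq_one_right hu2] at this
      rw [inv_eq_of_mul_eq_one_right hu2, show u * (q * u * q⁻¹) = u * q * u * q⁻¹ by group]
      exact mul_mem this (inv_mem hq)
    · rw [show q * u * q⁻¹ * (q * u * q⁻¹) = q * (u * u) * q⁻¹ by group, hu2]; simp
  have hQO : Nat.card Q ≤ Nat.card O * Nat.card K := by
    have hsec : ∀ o : O, ∃ q ∈ Q, q * u * q⁻¹ = o := fun o => o.2
    choose s hsQ hs using hsec
    rw [← Nat.card_prod]
    refine Nat.card_le_card_of_injective (fun q : Q =>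
      ((⟨(q : G) * u * (q : G)⁻¹, ⟨q, q.2, rfl⟩⟩ : O),
        (⟨(s ⟨(q : G) * u * (q : G)⁻¹, ⟨q, q.2, rfl⟩⟩)⁻¹ * (q : G), ?_⟩ : K))) fun a b h => ?_
    · refine mem_fixIn.2 ⟨mul_mem (inv_mem (hsQ _)) q.2, ?_⟩
      set r := s ⟨(q : G) * u * (q : G)⁻¹, ⟨q, q.2, rfl⟩⟩ with hr
      have h1 : r * u * r⁻¹ = (q : G) * u * (q : G)⁻¹ := hs _
      show r⁻¹ * (q : G) * u = u * (r⁻¹ * (q : G))
      calc r⁻¹ * (q : G) * u = r⁻¹ * ((q : G) * u * (q : G)⁻¹) * q := by group
        _ = _ := by rw [← h1]; group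
    · have h1 := congrArg (fun p => ((p.1 : O) : G)) h
      have h2 := congrArg (fun p => ((p.2 : K) : G)) h
      simp only at h1 h2
      have h3 : (⟨(a : G) * u * (a : G)⁻¹, ⟨a, a.2, rfl⟩⟩ : O) = ⟨(b : G) * u * (b : G)⁻¹, ⟨b, b.2, rfl⟩⟩ :=
        Subtype.ext h1
      rw [h3] at h2
      exact Subtype.ext (mul_left_cancel h2)
  have hOS' : Nat.card O ≤ Nat.card S := Nat.card_mono (Set.toFinite _) hOS
  rw [hcard] at hQO
  have hKcard : Nat.card K = 4 := by
    have h1 : Nat.card O * Nat.card K ≤ 2 * Nat.card K * Nat.card K :=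
      Nat.mul_le_mul_right _ (hOS'.trans (hSW.trans hWcard))
    interval_cases hk : Nat.card K <;> omega
  refine ⟨hKcard, hsq, fun q hq hx => ?_⟩
  rw [hKcard] at hQO
  have hOeq : O = S := Set.eq_of_subset_of_ncard_le hOS (by
    rw [← Nat.card_coe_set_eq, ← Nat.card_coe_set_eq]; omega) (Set.toFinite _)
  have hmem : u * q ∈ O := hOeq ▸ ⟨q, hq, rfl, hx⟩
  obtain ⟨r, -, hr⟩ := hmem
  rw [← hr, hu]
  exact isConj_iff.2 ⟨r * g, by group⟩

variable (hφ : Function.Surjective φ)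
include hφ

/-- A conjugate of `z` outside `Q` is impossible when `z` is not fused into `Q`. -/
theorem unfused_false {g : G} (huz : Commute (g * z * g⁻¹) z) (hne : g * z * g⁻¹ ≠ z) : False := by
  classical
  set u := g * z * g⁻¹ with hu
  have huC : u ∈ centralizer ({z} : Set G) := mem_centralizer_singleton_iff.2 huz.eq
  have huQ : u ∉ Q := fun h => hne (hunf g h)
  have hu2 : u * u = 1 := by
    rw [hu, show g * z * g⁻¹ * (g * z * g⁻¹) = g * (z * z) * g⁻¹ by group, hQ.sq_z]; simp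
  -- involutions outside `Q` are conjugate to `z`
  have hout : ∀ x : G, Commute x z → x * x = 1 → x ∉ Q → IsConj z x := by
    intro x hx hx2 hxQ
    have hxC : x ∈ centralizer ({z} : Set G) := mem_centralizer_singleton_iff.2 hx.eq
    obtain ⟨c, hc⟩ := a5_invol_conj (φ ⟨x, hxC⟩) (φ ⟨u, huC⟩)
      (by rw [← map_mul, show (⟨x, hxC⟩ : centralizer ({z} : Set G)) * ⟨x, hxC⟩ = 1 from Subtype.ext hx2, map_one])
      (fun h => hxQ ((hker _).1 h))
      (by rw [← map_mul, show (⟨u, huC⟩ : centralizer ({z} : Set G)) * ⟨u, huC⟩ = 1 from Subtype.ext hu2, map_one])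
      (fun h => huQ ((hker _).1 h))
    obtain ⟨d, rfl⟩ := hφ c
    · have hq : u⁻¹ * ((d : G) * x * (d : G)⁻¹) ∈ Q := (hker (⟨u, huC⟩⁻¹ * (d * ⟨x, hxC⟩ * d⁻¹))).1 (by
        rw [map_mul, map_inv, map_mul, map_mul, map_inv, hc, inv_mul_cancel])
      have h1 := (unfused_fix hQ hcard φ hker hm hunf huz hne).2.2 _ hq (by
        rw [← hu, mul_inv_cancel_left, show (d : G) * x * (d : G)⁻¹ * ((d : G) * x * (d : G)⁻¹) =
          (d : G) * (x * x) * (d : G)⁻¹ by group, hx2]; simp)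
      rw [← hu, mul_inv_cancel_left] at h1
      exact h1.trans (isConj_iff.2 ⟨(d : G)⁻¹, by group⟩)
  -- the other conjugate
  set w := g⁻¹ * z * g with hw
  have hwz : Commute (g⁻¹ * z * g⁻¹⁻¹) z := by
    show _ * _ = _ * _
    calc g⁻¹ * z * g⁻¹⁻¹ * z = g⁻¹ * (z * u) * g := by rw [hu]; group
      _ = g⁻¹ * (u * z) * g := by rw [huz.eq]
      _ = _ := by rw [hu]; group
  have hwne : g⁻¹ * z * g⁻¹⁻¹ ≠ z := fun h => hne (by
    calc u = g * (g⁻¹ * z * g⁻¹⁻¹) * g⁻¹ := by rw [h]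
      _ = z := by group)
  obtain ⟨hK4, hsq, -⟩ := unfused_fix hQ hcard φ hker hm hunf hwz hwne
  obtain ⟨b, hb, hb1, hbz⟩ : ∃ b ∈ fixIn Q (g⁻¹ * z * g⁻¹⁻¹), b ≠ 1 ∧ b ≠ z := by
    by_contra hno
    push Not at hno
    have hsub : ((fixIn Q (g⁻¹ * z * g⁻¹⁻¹) : Subgroup G) : Set G) ⊆ {1, z} := fun b hb => by
      by_cases h : b = 1
      · exact Or.inl h
      · exact Or.inr (hno b hb h)
    have := (Set.ncard_le_ncard hsub (Set.toFinite _)).trans (Set.ncard_insert_le _ _)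
    rw [Set.ncard_singleton, ← Nat.card_coe_set_eq] at this
    have h4 : Nat.card ↥(fixIn Q (g⁻¹ * z * g⁻¹⁻¹)) ≤ 2 := this
    omega
  obtain ⟨hbQ, hbw⟩ := mem_fixIn.1 hb
  have hzQ' : z ∈ fixIn Q (g⁻¹ * z * g⁻¹⁻¹) := mem_fixIn.2 ⟨hQ.mem, hwz.symm⟩
  have key : ∀ c ∈ fixIn Q (g⁻¹ * z * g⁻¹⁻¹), c ≠ 1 → c ≠ z → g * c * g⁻¹ ∈ Q := by
    intro c hc hc1 hcz
    obtain ⟨hcQ, hcw⟩ := mem_fixIn.1 hc
    by_contra hout'
    obtain ⟨k, hk⟩ := isConj_iff.1 ((hout (g * c * g⁻¹) (by
        show _ * _ = _ * _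
        calc g * c * g⁻¹ * z = g * (c * (g⁻¹ * z * g⁻¹⁻¹)) * g⁻¹ := by group
          _ = g * (g⁻¹ * z * g⁻¹⁻¹ * c) * g⁻¹ := by rw [hcw.eq]
          _ = _ := by group)
      (by rw [show g * c * g⁻¹ * (g * c * g⁻¹) = g * (c * c) * g⁻¹ by group, hsq c hc]; simp) hout').trans
        (isConj_iff.2 ⟨g⁻¹, by group⟩ : IsConj (g * c * g⁻¹) c))
    exact hcz (hk ▸ hunf k (hk.symm ▸ hcQ))
  have h1 := key b hb hb1 hbz
  have h2 := key (b * z) (mul_mem hb hzQ')
    (fun h => hbz ((eq_inv_of_mul_eq_one_left h).trans (inv_eq_of_mul_eq_one_right hQ.sq_z)))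
    (fun h => hb1 (mul_eq_right.1 h))
  apply huQ
  have := mul_mem (inv_mem h1) h2
  rwa [show (g * b * g⁻¹)⁻¹ * (g * (b * z) * g⁻¹) = u by rw [hu]; group] at this

end Unfused

/-- The hypotheses of the centralizer characterisation. -/
theorem Setup.of_centralizer [IsSimpleGroup G] (t : G) (ht : orderOf t = 2)
    (Q : Subgroup (Subgroup.centralizer ({t} : Set G))) [Q.Normal] (hQ : Cfsg.IsExtraspecial 2 Q)
    (hcard : Nat.card Q = 32) (hminus : ∀ E : Subgroup Q, Cfsg.IsElementaryAbelian 2 E → Nat.card E ≤ 2 ^ 2)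
    (h2c : Subgroup.centralizer (Q : Set (Subgroup.centralizer ({t} : Set G))) ≤ Q)
    (e : (Subgroup.centralizer ({t} : Set G)) ⧸ Q ≃* alternatingGroup (Fin 5))
    (hcl : ∃ x y : G, orderOf x = 2 ∧ orderOf y = 2 ∧ ¬ IsConj x y) :
    Setup t (Q.map (Subgroup.centralizer ({t} : Set G)).subtype) := by
  classical
  haveI : Fact (Nat.Prime 2) := ⟨Nat.prime_two⟩
  haveI := e.isSimpleGroup
  have hQp : Cfsg.pCore 2 ↥(centralizer ({t} : Set G)) = Q := by
    refine le_antisymm ?_ (Cfsg.Lib.Core.le_pCore hQ.1.1)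
    have hN : ((Cfsg.pCore 2 ↥(centralizer ({t} : Set G))).map (QuotientGroup.mk' Q)).Normal :=
      (inferInstance : (Cfsg.pCore 2 ↥(centralizer ({t} : Set G))).Normal).map _ (QuotientGroup.mk'_surjective Q)
    rcases hN.eq_bot_or_eq_top with h | h
    · rwa [Subgroup.map_eq_bot_iff, QuotientGroup.ker_mk'] at h
    · exfalso
      have hp := (Cfsg.Lib.Core.pCore_isPGroup 2 ↥(centralizer ({t} : Set G))).map (QuotientGroup.mk' Q)
      rw [h] at hp
      obtain ⟨i, hi⟩ := hp.exists_card_eq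
      rw [card_top, Nat.card_congr e.toEquiv, a5_card] at hi
      have h5 : 5 ∣ 2 ^ i := hi ▸ (by norm_num : (5 : ℕ) ∣ 60)
      exact absurd ((Nat.prime_dvd_prime_iff_eq (by norm_num) Nat.prime_two).1
        ((Nat.Prime.dvd_of_dvd_pow (by norm_num) h5))) (by norm_num)
  set Q' := Q.map (centralizer ({t} : Set G)).subtype with hQ'
  have hext : Cfsg.IsExtraspecial 2 ↥Q' :=
    Cfsg.Lib.Extra.isExtraspecial_congr (Q.equivMapOfInjective _ (centralizer ({t} : Set G)).subtype_injective) hQ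
  have htC : t ∈ (centralizer ({t} : Set G)) := mem_centralizer_singleton_iff.2 rfl
  have htQ : (⟨t, htC⟩ : (centralizer ({t} : Set G))) ∈ Q := by
    rw [← hQp]
    haveI : (zpowers (⟨t, htC⟩ : (centralizer ({t} : Set G)))).Normal := ⟨fun a ha g => by
      obtain ⟨i, rfl⟩ := mem_zpowers_iff.1 ha
      have hgc : Commute g (⟨t, htC⟩ : (centralizer ({t} : Set G))) := Subtype.ext (mem_centralizer_singleton_iff.1 g.2)
      rw [(hgc.zpow_right i).eq, mul_inv_cancel_right]
      exact mem_zpowers_iff.2 ⟨i, rfl⟩⟩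
    refine Cfsg.Lib.Core.le_pCore (IsPGroup.of_card (n := 1) ?_) (mem_zpowers _)
    rw [Nat.card_zpowers, ← Subgroup.orderOf_coe, pow_one]; exact ht
  have hcent : centralizer (Q' : Set G) ≤ Q' := by
    intro g hg
    have hgC : g ∈ (centralizer ({t} : Set G)) := mem_centralizer_singleton_iff.2 (mem_centralizer_iff.1 hg t ⟨_, htQ, rfl⟩).symm
    exact ⟨⟨g, hgC⟩, h2c (mem_centralizer_iff.2 fun a ha => Subtype.ext (mem_centralizer_iff.1 hg a ⟨a, ha, rfl⟩)), rfl⟩
  have hctx := Cfsg.Lib.Extra.ctx_of_twoCore ht (hQp ▸ rfl : Q' = _) hext hcent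
  have hcard' : Nat.card Q' = 32 := by
    rw [hQ', card_map_of_injective (centralizer ({t} : Set G)).subtype_injective, hcard]
  let φ : centralizer ({t} : Set G) →* A5 :=
    (e : (centralizer ({t} : Set G)) ⧸ Q →* A5).comp (QuotientGroup.mk' Q)
  have hφ : Function.Surjective φ := e.surjective.comp (QuotientGroup.mk'_surjective Q)
  have hker : ∀ x, φ x = 1 ↔ (x : G) ∈ Q' := fun x => by
    simp only [φ, MonoidHom.coe_comp, Function.comp_apply, MonoidHom.coe_coe, MulEquiv.map_eq_one_iff,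
      QuotientGroup.mk'_apply, QuotientGroup.eq_one_iff]
    exact ⟨fun h => ⟨x, h, rfl⟩, fun ⟨y, hy, e'⟩ => Subtype.ext e' ▸ hy⟩
  have hm : ∀ E : Subgroup G, E ≤ Q' → (∀ x ∈ E, x * x = 1) → Nat.card E ≤ 4 := by
    intro E hE hE2
    let ι : Q →* G := (centralizer ({t} : Set G)).subtype.comp Q.subtype
    have hι : Function.Injective ι := Subtype.val_injective.comp Subtype.val_injective
    have hmap : (E.comap ι).map ι = E := map_comap_eq_self (fun x hx => by
      obtain ⟨y, hy, rfl⟩ := hE hx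
      exact ⟨⟨y, hy⟩, rfl⟩)
    have hsq : ∀ a ∈ E.comap ι, a * a = 1 := fun a ha => hι (by rw [map_mul, map_one]; exact hE2 _ ha)
    have := hminus (E.comap ι) ⟨⟨⟨fun a b => Subtype.ext (by
      have h1 := hsq _ a.2
      have h2 := hsq _ b.2
      have h3 := hsq _ (mul_mem a.2 b.2)
      show (a : Q) * b = b * a
      rw [eq_inv_of_mul_eq_one_left h3, mul_inv_rev, inv_eq_of_mul_eq_one_right h1,
        inv_eq_of_mul_eq_one_right h2])⟩⟩, fun a ha => by rw [pow_two]; exact hsq a ha⟩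
    rw [← card_map_of_injective hι, hmap] at this
    norm_num at this
    exact this
  refine ⟨hctx, hcard', ⟨φ, hφ, hker⟩, ?_, hcl⟩
  by_contra hno
  push Not at hno
  -- an involution of a simple group other than of order two is not isolated
  obtain ⟨g, hgz, hne⟩ : ∃ g : G, Commute (g * t * g⁻¹) t ∧ g * t * g⁻¹ ≠ t := by
    by_contra h
    push Not at h
    have hiso : Cfsg.IsIsolatedInvolution t := ⟨ht, fun g hg => h g hg.symm⟩
    have hO : oddCore G = ⊥ := (inferInstance : (oddCore G).Normal).eq_bot_or_eq_top.resolve_right fun h => by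
      have hodd : Odd (Nat.card ↥(oddCore G)) := Cfsg.Lib.ZStar.odd_card_oddCore
      rw [h, card_top] at hodd
      exact Nat.not_even_iff_odd.2 hodd (even_iff_two_dvd.2 (ht ▸ orderOf_dvd_natCard t))
    have hc := Cfsg.Lib.ZStar.mem_center_of_isolated hO hiso
    rcases (inferInstance : (center G).Normal).eq_bot_or_eq_top with hb | htop
    · rw [hb, mem_bot] at hc
      rw [hc, orderOf_one] at ht
      norm_num at ht
    · obtain ⟨x, y, hx, hy, hxy⟩ := hcl
      have key : ∀ w : G, orderOf w = 2 → w = t := fun w hw => by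
        haveI : (zpowers t).Normal := ⟨fun a ha g => by
          have hg : g * a = a * g := mem_center_iff.1 (htop ▸ mem_top a) g
          rwa [hg, mul_inv_cancel_right]⟩
        rcases (inferInstance : (zpowers t).Normal).eq_bot_or_eq_top with hb | ht'
        · rw [zpowers_eq_bot] at hb
          rw [hb, orderOf_one] at ht
          norm_num at ht
        · obtain ⟨i, hi⟩ := mem_zpowers_iff.1 (ht'.ge (mem_top w))
          rw [← zpow_mod_orderOf t i, ht] at hi
          push_cast at hi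
          rcases Int.emod_two_eq i with e | e
          · rw [e, zpow_zero] at hi
            rw [← hi, orderOf_one] at hw
            norm_num at hw
          · rw [e, zpow_one] at hi
            exact hi.symm
      exact hxy ((key x hx).trans (key y hy).symm ▸ IsConj.refl x)
  exact unfused_false hctx hcard' φ hker hm hno hφ hgz hne

end Cfsg.Lib.J2Type
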